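import Cfsg.Agent.Lib.Transfer.Basic

/-!
# The Thompson transfer lemma
-/

namespace CfsgLib.Transfer

open Subgroup

variable {G : Type*} [Group G] [Finite G]

/-- **Thompson transfer**, general form: `Q` has index `2` in the Sylow `2`-subgroup `P`,
`u ∈ P` has no conjugate in `Q`, and all conjugates in `P` of its proper `2`-power powers lie
in `Q`.  Then some normal subgroup of index `2` avoids `u`. -/
theorem thompson_transfer (P : Sylow 2 G) {Q : Subgroup G} (hQP : Q ≤ (P : Subgroup G))
    (hQi : Q.relIndex (P : Subgroup G) = 2) {u : G} (huP : u ∈ (P : Subgroup G))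
    (hu : ∀ g : G, g⁻¹ * u * g ∉ Q)
    (hpow : ∀ (g : G) (k : ℕ), 0 < k → g⁻¹ * u ^ (2 ^ k) * g ∈ (P : Subgroup G) →
      g⁻¹ * u ^ (2 ^ k) * g ∈ Q) :
    ∃ M : Subgroup G, M.Normal ∧ M.index = 2 ∧ u ∉ M := by
  classical
  set Q' : Subgroup (P : Subgroup G) := Q.subgroupOf (P : Subgroup G)
  have hQi' : Q'.index = 2 := hQi
  have : Q'.Normal := normal_of_index_eq_two hQi'
  have hcard : Nat.card ((P : Subgroup G) ⧸ Q') = 2 := by rw [← index_eq_card]; exact hQi'
  have : Fact (Nat.Prime 2) := ⟨Nat.prime_two⟩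
  have : IsCyclic ((P : Subgroup G) ⧸ Q') := isCyclic_of_prime_card hcard
  let _ : CommGroup ((P : Subgroup G) ⧸ Q') := IsCyclic.commGroup
  let f : (P : Subgroup G) →* (P : Subgroup G) ⧸ Q' := QuotientGroup.mk' Q'
  -- the common value of `f` off `Q'`
  have hne : f ⟨u, huP⟩ ≠ 1 := fun h => by
    have := hu 1
    simp only [inv_one, one_mul, mul_one] at this
    exact this (mem_subgroupOf.1 ((QuotientGroup.eq_one_iff _).1 h))
  have htwo : ∀ x : (P : Subgroup G) ⧸ Q', x ≠ 1 → x = f ⟨u, huP⟩ := by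
    intro x hx
    by_contra h
    have hc := hcard
    rw [Nat.card_eq_two_iff' (1 : (P : Subgroup G) ⧸ Q')] at hc
    obtain ⟨y, -, hy⟩ := hc
    exact h ((hy x hx).trans (hy _ hne).symm)
  set t := f ⟨u, huP⟩ with ht
  let τ := MonoidHom.transfer f
  have hmain : τ u = t := by
    let _ : Fintype (Quotient (MulAction.orbitRel (zpowers u) (G ⧸ (P : Subgroup G)))) :=
      Fintype.ofFinite _
    change MonoidHom.transfer f u = t
    rw [MonoidHom.transfer_eq_prod_quotient_orbitRel_zpowers_quot]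
    let m : Quotient (MulAction.orbitRel (zpowers u) (G ⧸ (P : Subgroup G))) → ℕ :=
      fun q => Function.minimalPeriod (u • ·) q.out
    have hval : ∀ q, f ⟨q.out.out⁻¹ * u ^ m q * q.out.out,
        QuotientGroup.out_conj_pow_minimalPeriod_mem _ u q.out⟩ = t ^ m q := by
      intro q
      have hm : m q ∣ orderOf u := by
        apply Function.IsPeriodicPt.minimalPeriod_dvd
        change ((u • ·)^[orderOf u]) q.out = q.out
        simp only [smul_iterate, pow_orderOf_eq_one, one_smul]
      obtain ⟨n, hn⟩ := P.2.exists_card_eq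
      have hu2 : orderOf u ∣ 2 ^ n := hn ▸ Subgroup.orderOf_dvd_natCard _ huP
      obtain ⟨k, -, hk⟩ := (Nat.dvd_prime_pow Nat.prime_two).1 (hm.trans hu2)
      have hmem := QuotientGroup.out_conj_pow_minimalPeriod_mem (P : Subgroup G) u q.out
      rcases Nat.eq_zero_or_pos k with rfl | hk0
      · have hm1 : m q = 1 := by rw [hk, pow_zero]
        have ht1 : t ^ m q = t := by rw [hm1, pow_one]
        rw [ht1]
        refine htwo _ fun h => ?_
        have h' := mem_subgroupOf.1 ((QuotientGroup.eq_one_iff _).1 h)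
        simp only [hm1, pow_one] at h'
        exact hu _ h'
      · have hQ : q.out.out⁻¹ * u ^ m q * q.out.out ∈ Q := by
          rw [hk]
          exact hpow _ k hk0 (hk ▸ hmem)
        have h1 : t ^ m q = 1 := by
          obtain ⟨j, hj⟩ := dvd_pow_self 2 hk0.ne'
          rw [hk, hj, pow_mul]
          have : t ^ 2 = 1 := orderOf_dvd_iff_pow_eq_one.1 ((orderOf_dvd_natCard t).trans hcard.dvd)
          rw [this, one_pow]
        rw [h1]
        exact (QuotientGroup.eq_one_iff _).2 (mem_subgroupOf.2 hQ)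
    rw [Finset.prod_congr rfl fun q _ => hval q, Finset.prod_pow_eq_pow_sum,
      ← index_eq_sum_minimalPeriod (P : Subgroup G) u]
    obtain ⟨j, hj⟩ : Odd (P : Subgroup G).index :=
      Nat.not_even_iff_odd.1 fun h => P.not_dvd_index (even_iff_two_dvd.1 h)
    have : t ^ 2 = 1 := orderOf_dvd_iff_pow_eq_one.1 ((orderOf_dvd_natCard t).trans hcard.dvd)
    rw [hj, pow_succ, pow_mul, this, one_pow, one_mul]
  refine ⟨τ.ker, inferInstance, ?_, fun h => hne (hmain ▸ h)⟩
  have hsurj : Function.Surjective τ := by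
    intro x
    rcases eq_or_ne x 1 with rfl | hx
    · exact ⟨1, map_one _⟩
    · exact ⟨u, by rw [hmain, htwo x hx]⟩
  rw [index_ker, MonoidHom.range_eq_top.2 hsurj, card_top, hcard]

/-- **Thompson transfer lemma** for an involution. -/
theorem thompson_transfer_involution (P : Sylow 2 G) {Q : Subgroup G}
    (hQP : Q ≤ (P : Subgroup G)) (hQi : Q.relIndex (P : Subgroup G) = 2) {u : G}
    (hu : u ^ 2 = 1) (huP : u ∈ (P : Subgroup G)) :
    (∃ M : Subgroup G, M.Normal ∧ M.index = 2 ∧ u ∉ M) ∨ ∃ g : G, g * u * g⁻¹ ∈ Q := by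
  refine or_iff_not_imp_right.2 fun h => thompson_transfer P hQP hQi huP ?_ ?_
  · intro g hg
    exact h ⟨g⁻¹, by simpa using hg⟩
  · intro g k hk _
    obtain ⟨j, hj⟩ := dvd_pow_self 2 hk.ne'
    rw [hj, pow_mul, hu, one_pow, mul_one, inv_mul_cancel]
    exact one_mem _

end CfsgLib.Transfer
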