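import Cfsg.Agent.Lib.Transfer.SimpleCount
import Cfsg.Agent.Lib.Transfer.Thompson
import Cfsg.Agent.Lib.Invol.Dihedral

/-!
# Simple groups of order 168
-/

namespace CfsgLib.Transfer

open Subgroup
open scoped Nat

section General

variable {G : Type*} [Group G] [Finite G]

omit [Finite G] in
/-- Class size times centralizer order. -/
theorem card_isConj_mul_card_centralizer (x : G) :
    Nat.card {g : G // IsConj x g} * Nat.card (centralizer ({x} : Set G)) = Nat.card G := by
  have h1 : Nat.card {g : G // IsConj x g} = (centralizer ({x} : Set G)).index := by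
    have e : {g : G // IsConj x g} ≃ (ConjClasses.mk x).carrier :=
      Equiv.subtypeEquivRight fun g => by
        rw [ConjClasses.mem_carrier_iff_mk_eq, ConjClasses.mk_eq_mk_iff_isConj, isConj_comm]
    rw [Nat.card_congr e, centralizer_eq_comap_stabilizer]
    refine Eq.trans ?_ (index_comap_of_surjective (f := (ConjAct.toConjAct (G := G)).toMonoidHom)
      _ ConjAct.toConjAct.surjective).symm
    rw [MulAction.index_stabilizer, ConjAct.orbit_eq_carrier_conjClasses, Nat.card_coe_set_eq]
  rw [h1, Subgroup.index_mul_card]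

omit [Finite G] in
theorem mem_centralizer_singleton_comm {x y : G} :
    y ∈ centralizer ({x} : Set G) ↔ Commute y x := by
  rw [Subgroup.mem_centralizer_singleton_iff]; rfl

/-- If the normalizer of a Sylow subgroup of prime order `p` has order `p q` in a non-abelian
simple group, the Sylow subgroup is self-centralizing. -/
theorem centralizer_eq_of_card_normalizer [IsSimpleGroup G] (hG : ¬ IsMulCommutative G) {p q : ℕ}
    [Fact p.Prime] (hq : q.Prime) (P : Sylow p G) (hP : Nat.card (P : Subgroup G) = p)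
    (hN : Nat.card (normalizer ((P : Subgroup G) : Set G)) = p * q) :
    centralizer ((P : Subgroup G) : Set G) = (P : Subgroup G) := by
  have hp := (Fact.out : p.Prime)
  have := isCyclic_of_prime_card hP
  have hab : IsMulCommutative (P : Subgroup G) :=
    ⟨⟨fun a b => by let _ := IsCyclic.commGroup (α := (P : Subgroup G)); exact mul_comm a b⟩⟩
  set C := centralizer ((P : Subgroup G) : Set G)
  have hPC : (P : Subgroup G) ≤ C := le_centralizer _
  have hCN : C ≤ normalizer ((P : Subgroup G) : Set G) := centralizer_le_normalizer _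
  have h1 : p ∣ Nat.card C := hP.symm.dvd.trans (card_dvd_of_le hPC)
  obtain ⟨k, hk⟩ := h1
  have h2 : k ∣ q := by
    have h3 := card_dvd_of_le hCN
    rw [hk, hN] at h3
    exact Nat.dvd_of_mul_dvd_mul_left hp.pos h3
  rcases (Nat.dvd_prime hq).1 h2 with rfl | rfl
  · exact (eq_of_le_of_card_ge hPC (by rw [hP, hk, mul_one])).symm
  · exfalso
    exact not_normalizer_le_centralizer hG (hP ▸ card_subgroup_dvd_card (P : Subgroup G)) P
      (eq_of_le_of_card_ge hCN (by rw [hN, hk])).ge

/-- A non-commutative group of order eight with a non-central involution is dihedral. -/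
theorem nonempty_dihedral_of_card_eight {T : Type*} [Group T] [Finite T] (hT : Nat.card T = 8)
    (hnc : ¬ IsMulCommutative T) {y : T} (hy : orderOf y = 2) (hyc : y ∉ center T) :
    Nonempty (T ≃* DihedralGroup 4) := by
  have hord : ∀ g : T, orderOf g ∣ 8 := fun g => hT ▸ _root_.orderOf_dvd_natCard g
  obtain ⟨g, hg⟩ : ∃ g : T, orderOf g = 4 := by
    by_contra! hne
    refine hnc ⟨⟨fun a b => ?_⟩⟩
    have hsq : ∀ c : T, c * c = 1 := by
      intro c
      obtain ⟨i, hi, hc⟩ := (Nat.dvd_prime_pow Nat.prime_two).1 (show orderOf c ∣ 2 ^ 3 from hord c)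
      interval_cases i
      · rw [orderOf_eq_one_iff.1 (hc.trans (pow_zero 2)), mul_one]
      · rw [← sq]; exact orderOf_dvd_iff_pow_eq_one.1 (hc.trans (pow_one 2)).dvd
      · exact absurd hc (hne c)
      · exfalso
        have : IsCyclic T := isCyclic_of_orderOf_eq_card c (hc.trans hT.symm)
        exact hnc ⟨⟨fun a b => by let _ := IsCyclic.commGroup (α := T); exact mul_comm a b⟩⟩
    have hi : ∀ c : T, c⁻¹ = c := fun c => inv_eq_of_mul_eq_one_right (hsq c)
    rw [← hi (a * b), mul_inv_rev, hi, hi]
  set A := zpowers g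
  have hAc : Nat.card A = 4 := by rw [Nat.card_zpowers, hg]
  have hAi : A.index = 2 := by
    have := A.card_mul_index
    rw [hAc, hT] at this
    omega
  have hAn : A.Normal := normal_of_index_eq_two hAi
  have hconj : ∀ c : T, c * g * c⁻¹ = g ∨ c * g * c⁻¹ = g⁻¹ := by
    intro c
    obtain ⟨i, hi⟩ := mem_zpowers_iff.1 (hAn.conj_mem g (mem_zpowers g) c)
    have ho : orderOf (c * g * c⁻¹) = 4 := by rw [← MulAut.conj_apply, MulEquiv.orderOf_eq, hg]
    rw [← hi, ← zpow_mod_orderOf, hg] at ho ⊢
    have h0 := Int.emod_nonneg i (show ((4 : ℕ) : ℤ) ≠ 0 by norm_num)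
    have h4 := Int.emod_lt_of_pos i (show (0 : ℤ) < ((4 : ℕ) : ℤ) by norm_num)
    rcases (show i % ((4 : ℕ) : ℤ) = 0 ∨ i % ((4 : ℕ) : ℤ) = 1 ∨ i % ((4 : ℕ) : ℤ) = 2 ∨
        i % ((4 : ℕ) : ℤ) = 3 by omega) with e | e | e | e <;> rw [e] at ho ⊢
    · simp at ho
    · left; simp
    · exfalso
      rw [zpow_two, ← sq, orderOf_pow' _ two_ne_zero, hg] at ho
      norm_num at ho
    · right
      refine eq_inv_of_mul_eq_one_left ?_
      rw [← zpow_add_one, show (3 : ℤ) + 1 = ((4 : ℕ) : ℤ) by norm_num, zpow_natCast, ← hg,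
        pow_orderOf_eq_one]
  have hyA : y ∉ A := by
    intro hyA
    apply hyc
    obtain ⟨i, rfl⟩ := mem_zpowers_iff.1 hyA
    have hinv : g ^ i = (g⁻¹) ^ i := by
      rw [inv_zpow, eq_inv_iff_mul_eq_one, ← sq]
      exact orderOf_dvd_iff_pow_eq_one.1 hy.dvd
    refine mem_center_iff.2 fun c => mul_inv_eq_iff_eq_mul.1 ?_
    rw [← conj_zpow]
    rcases hconj c with e | e <;> rw [e]
    exact hinv.symm
  have hgen : closure ({g, y} : Set T) = ⊤ := by
    have hlt : A < closure ({g, y} : Set T) := lt_of_le_of_ne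
      (zpowers_le.2 (subset_closure (by simp))) fun e => hyA (e ▸ subset_closure (by simp))
    have h1 : (closure ({g, y} : Set T)).index ∣ 2 := hAi ▸ index_dvd_of_le hlt.le
    rcases (Nat.dvd_prime Nat.prime_two).1 h1 with e | e
    · exact index_eq_one.1 e
    · exfalso
      have h2 := (closure ({g, y} : Set T)).card_mul_index
      rw [e, hT] at h2
      exact hlt.ne (eq_of_le_of_card_ge hlt.le (by omega))
  have hinv : y * g * y⁻¹ = g⁻¹ := by
    rcases hconj y with e | e
    · exfalso
      refine hnc ?_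
      have hcomm : Commute y g := mul_inv_eq_iff_eq_mul.1 e
      have : IsMulCommutative (closure ({g, y} : Set T)) := isMulCommutative_closure (by
        rintro a (rfl | rfl) b (rfl | rfl)
        · rfl
        · exact hcomm.eq.symm
        · exact hcomm.eq
        · rfl)
      exact ⟨⟨fun a b => congrArg Subtype.val (this.is_comm.comm ⟨a, hgen.ge (mem_top a)⟩
        ⟨b, hgen.ge (mem_top b)⟩)⟩⟩
    · exact e
  obtain ⟨e⟩ := Invol.exists_mulEquiv_dihedral hg hy hinv hyA
  exact ⟨(topEquiv.symm.trans (MulEquiv.subgroupCongr hgen.symm)).trans e⟩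

end General

section OneSixtyEight

variable {G : Type*} [Group G] [Finite G] [IsSimpleGroup G] (h : Nat.card G = 168)
include h

theorem nonabelian_168 : ¬ IsMulCommutative G :=
  not_isMulCommutative_of_not_prime (by rw [h]; norm_num)

theorem sylow7_168 :
    Nat.card (Sylow 7 G) = 8 ∧ ∀ P : Sylow 7 G, Nat.card (P : Subgroup G) = 7 ∧
      Nat.card (normalizer ((P : Subgroup G) : Set G)) = 21 ∧
      centralizer ((P : Subgroup G) : Set G) = (P : Subgroup G) := by
  have : Fact (Nat.Prime 7) := ⟨by norm_num⟩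
  have hG := nonabelian_168 h
  obtain ⟨h1, hm, hd, hf⟩ := sylow_count_of_simple hG (p := 7) (by rw [h]; norm_num)
  have hP : ∀ P : Sylow 7 G, Nat.card (P : Subgroup G) = 7 := by
    intro P
    rw [P.card_eq_multiplicity, h, show (168 : ℕ) = 7 * 24 by norm_num,
      Nat.factorization_mul (by norm_num) (by norm_num), Finsupp.add_apply,
      Nat.Prime.factorization_self (by norm_num),
      Nat.factorization_eq_zero_of_not_dvd (show ¬ 7 ∣ 24 by norm_num), add_zero, pow_one]
  have hn : Nat.card (Sylow 7 G) = 8 := by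
    have h24 : Nat.card (Sylow 7 G) ∣ 24 := by
      refine Nat.Coprime.dvd_of_dvd_mul_right (m := 24) (n := 7) ?_ (by rw [h] at hd; exact hd)
      refine Nat.Coprime.symm ((show Nat.Prime 7 by norm_num).coprime_iff_not_dvd.2 fun hd' => ?_)
      rw [Nat.mod_eq_zero_of_dvd hd'] at hm
      exact absurd hm (by norm_num)
    have hle := Nat.le_of_dvd (by norm_num) h24
    revert h1 hm h24
    interval_cases (Nat.card (Sylow 7 G)) <;> norm_num
  refine ⟨hn, fun P => ?_⟩
  have hN : Nat.card (normalizer ((P : Subgroup G) : Set G)) = 21 := by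
    have h2 := (normalizer ((P : Subgroup G) : Set G)).card_mul_index
    rw [show (normalizer ((P : Subgroup G) : Set G)).index = 8 from
      P.card_eq_index_normalizer.symm.trans hn, h] at h2
    omega
  exact ⟨hP P, hN, centralizer_eq_of_card_normalizer hG Nat.prime_three P (hP P) (by rw [hN])⟩

theorem sylow3_168 :
    Nat.card (Sylow 3 G) = 28 ∧ ∀ P : Sylow 3 G, Nat.card (P : Subgroup G) = 3 ∧
      Nat.card (normalizer ((P : Subgroup G) : Set G)) = 6 ∧
      centralizer ((P : Subgroup G) : Set G) = (P : Subgroup G) := by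
  classical
  have : Fact (Nat.Prime 7) := ⟨by norm_num⟩
  have : Fact (Nat.Prime 3) := ⟨Nat.prime_three⟩
  have hG := nonabelian_168 h
  obtain ⟨h7, hP7⟩ := sylow7_168 h
  obtain ⟨h1, hm, hd, hf⟩ := sylow_count_of_simple hG (p := 3) (by rw [h]; norm_num)
  have hP : ∀ P : Sylow 3 G, Nat.card (P : Subgroup G) = 3 := by
    intro P
    rw [P.card_eq_multiplicity, h, show (168 : ℕ) = 3 * 56 by norm_num,
      Nat.factorization_mul (by norm_num) (by norm_num), Finsupp.add_apply,
      Nat.Prime.factorization_self Nat.prime_three,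
      Nat.factorization_eq_zero_of_not_dvd (show ¬ 3 ∣ 56 by norm_num), add_zero, pow_one]
  -- seven Sylow `3`-subgroups are impossible
  have hn7 : Nat.card (Sylow 3 G) ≠ 7 := by
    intro hn
    let S := fun R : Sylow 7 G => {Q : Sylow 3 G // (Q : Subgroup G) ≤ normalizer ((R : Subgroup G) : Set G)}
    -- every normalizer of a Sylow `7`-subgroup contains all seven
    have hall : ∀ (R : Sylow 7 G) (Q : Sylow 3 G),
        (Q : Subgroup G) ≤ normalizer ((R : Subgroup G) : Set G) := by
      intro R
      set N := normalizer ((R : Subgroup G) : Set G)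
      obtain ⟨Q₀⟩ := (inferInstance : Nonempty (Sylow 3 N))
      have hQ0 : Nat.card (Q₀ : Subgroup N) = 3 := by
        rw [Q₀.card_eq_multiplicity, (hP7 R).2.1, show (21 : ℕ) = 3 * 7 by norm_num,
          Nat.factorization_mul (by norm_num) (by norm_num), Finsupp.add_apply,
          Nat.Prime.factorization_self Nat.prime_three,
          Nat.factorization_eq_zero_of_not_dvd (show ¬ 3 ∣ 7 by norm_num), add_zero, pow_one]
      have hQ0' : Nat.card ((Q₀ : Subgroup N).map N.subtype) = 3 := by
        rw [card_map_of_injective N.subtype_injective, hQ0]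
      obtain ⟨Q₁, hQ₁⟩ := (Q₀.2.map N.subtype).exists_le_sylow
      have hQ1 : (Q₀ : Subgroup N).map N.subtype = (Q₁ : Subgroup G) :=
        eq_of_le_of_card_ge hQ₁ (by rw [hP Q₁, hQ0'])
      have hQ1N : (Q₁ : Subgroup G) ≤ N := hQ1 ▸ map_subtype_le _
      -- `R` moves `Q₁` through all seven
      let f : ↥(R : Subgroup G) → Sylow 3 G := fun r => (r : G) • Q₁
      have hf : Function.Injective f := by
        intro r r' he
        by_contra hne
        have hrr : ((r'⁻¹ * r : (R : Subgroup G)) : G) ∈ normalizer ((Q₁ : Subgroup G) : Set G) := by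
          refine Sylow.smul_eq_iff_mem_normalizer.1 ?_
          show ((r' : G)⁻¹ * (r : G)) • Q₁ = Q₁
          rw [mul_smul, show (r : G) • Q₁ = (r' : G) • Q₁ from he, inv_smul_smul]
        set u := r'⁻¹ * r
        have hu1 : u ≠ 1 := fun e => hne (inv_mul_eq_one.1 e).symm
        have huo : orderOf (u : G) = 7 := by
          rw [orderOf_coe]
          rcases (Nat.dvd_prime (show Nat.Prime 7 by norm_num)).1
            ((_root_.orderOf_dvd_natCard u).trans (hP7 R).1.dvd) with e | e
          · exact absurd (orderOf_eq_one_iff.1 e) hu1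
          · exact e
        -- `u` centralizes `Q₁`
        have hcen : ∀ q ∈ (Q₁ : Subgroup G), Commute q (u : G) := by
          intro q hq
          have h1 : q * u * q⁻¹ * (u : G)⁻¹ ∈ (Q₁ : Subgroup G) ⊓ (R : Subgroup G) := by
            refine mem_inf.2 ⟨?_, mul_mem ((mem_normalizer_iff.1 (hQ1N hq) _).1 u.2) (inv_mem u.2)⟩
            rw [mul_assoc q, mul_assoc q]
            exact mul_mem hq ((mem_normalizer_iff.1 hrr q⁻¹).1 (inv_mem hq))
          rw [(disjoint_of_coprime_natCard (by rw [hP Q₁, (hP7 R).1]; norm_num)).eq_bot, mem_bot,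
            mul_inv_eq_one, mul_inv_eq_iff_eq_mul] at h1
          exact h1
        have hzu : zpowers (u : G) = (R : Subgroup G) :=
          eq_of_le_of_card_ge (zpowers_le.2 u.2) (by rw [Nat.card_zpowers, huo, (hP7 R).1])
        have hQR : (Q₁ : Subgroup G) ≤ (R : Subgroup G) := by
          rw [← (hP7 R).2.2]
          intro q hq
          rw [mem_centralizer_iff]
          intro x hx
          rw [← hzu] at hx
          obtain ⟨i, rfl⟩ := mem_zpowers_iff.1 hx
          exact ((hcen q hq).zpow_right i).eq.symm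
        have := card_dvd_of_le hQR
        rw [hP Q₁, (hP7 R).1] at this
        norm_num at this
      have hsurj : Function.Surjective f :=
        ((Nat.bijective_iff_injective_and_card f).2 ⟨hf, by rw [hn]; exact (hP7 R).1⟩).2
      intro Q
      obtain ⟨r, rfl⟩ := hsurj Q
      intro x hx
      change x ∈ (r : G) • Q₁ at hx
      rw [sylow_smul_mem_iff] at hx
      have hr : (r : G) ∈ N := le_normalizer r.2
      have := mul_mem (mul_mem hr (hQ1N hx)) (inv_mem hr)
      simpa [mul_assoc] using this
    -- so they fix every Sylow `7`-subgroup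
    obtain ⟨Q⟩ := (inferInstance : Nonempty (Sylow 3 G))
    have hker : (Q : Subgroup G) ≤ (MulAction.toPermHom G (Sylow 7 G)).ker := fun x hx => by
      rw [MonoidHom.mem_ker]
      refine Equiv.ext fun R => ?_
      exact Sylow.smul_eq_iff_mem_normalizer.2 (hall R Q hx)
    rcases IsSimpleGroup.eq_bot_or_eq_top_of_normal (MulAction.toPermHom G (Sylow 7 G)).ker
      inferInstance with e | e
    · have := card_dvd_of_le (e ▸ hker)
      rw [hP Q, card_bot] at this
      norm_num at this
    · obtain ⟨R⟩ := (inferInstance : Nonempty (Sylow 7 G))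
      have hR : normalizer ((R : Subgroup G) : Set G) = ⊤ := top_le_iff.1 fun g _ =>
        Sylow.smul_eq_iff_mem_normalizer.1 (congrArg (fun π : Equiv.Perm (Sylow 7 G) => π R)
          (MonoidHom.mem_ker.1 (e ▸ mem_top g)))
      have h2 := (hP7 R).2.1
      rw [hR, card_top, h] at h2
      norm_num at h2
  have hn : Nat.card (Sylow 3 G) = 28 := by
    have h56 : Nat.card (Sylow 3 G) ∣ 56 := by
      refine Nat.Coprime.dvd_of_dvd_mul_right (m := 56) (n := 3) ?_ (by rw [h] at hd; exact hd)
      refine Nat.Coprime.symm (Nat.prime_three.coprime_iff_not_dvd.2 fun hd' => ?_)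
      rw [Nat.mod_eq_zero_of_dvd hd'] at hm
      exact absurd hm (by norm_num)
    have hle := Nat.le_of_dvd (by norm_num) h56
    rw [h] at hf
    revert h1 hm h56 hf hn7
    interval_cases (Nat.card (Sylow 3 G)) <;> norm_num [Nat.factorial]
  refine ⟨hn, fun P => ?_⟩
  have hN : Nat.card (normalizer ((P : Subgroup G) : Set G)) = 6 := by
    have h2 := (normalizer ((P : Subgroup G) : Set G)).card_mul_index
    rw [show (normalizer ((P : Subgroup G) : Set G)).index = 28 from
      P.card_eq_index_normalizer.symm.trans hn, h] at h2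
    omega
  exact ⟨hP P, hN, centralizer_eq_of_card_normalizer hG Nat.prime_two P (hP P) (by rw [hN])⟩

theorem centralizer_order_three_168 {x : G} (hx : orderOf x = 3) :
    Nat.card (centralizer ({x} : Set G)) = 3 := by
  have : Fact (Nat.Prime 3) := ⟨Nat.prime_three⟩
  obtain ⟨Q, hQ⟩ := (IsPGroup.of_card (n := 1)
    (show Nat.card (zpowers x) = 3 ^ 1 by rw [Nat.card_zpowers, hx, pow_one])).exists_le_sylow
  obtain ⟨hc, -, hC⟩ := (sylow3_168 h).2 Q
  have e : zpowers x = (Q : Subgroup G) := eq_of_le_of_card_ge hQ (by rw [hc, Nat.card_zpowers, hx])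
  have e2 : centralizer ({x} : Set G) = centralizer ((Q : Subgroup G) : Set G) := by
    rw [← e, zpowers_eq_closure, centralizer_closure]
  rw [e2, hC, hc]

theorem centralizer_order_seven_168 {x : G} (hx : orderOf x = 7) :
    Nat.card (centralizer ({x} : Set G)) = 7 := by
  have : Fact (Nat.Prime 7) := ⟨by norm_num⟩
  obtain ⟨Q, hQ⟩ := (IsPGroup.of_card (n := 1)
    (show Nat.card (zpowers x) = 7 ^ 1 by rw [Nat.card_zpowers, hx, pow_one])).exists_le_sylow
  obtain ⟨hc, -, hC⟩ := (sylow7_168 h).2 Q
  have e : zpowers x = (Q : Subgroup G) := eq_of_le_of_card_ge hQ (by rw [hc, Nat.card_zpowers, hx])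
  have e2 : centralizer ({x} : Set G) = centralizer ((Q : Subgroup G) : Set G) := by
    rw [← e, zpowers_eq_closure, centralizer_closure]
  rw [e2, hC, hc]

/-- No involution commutes with an element of odd prime order. -/
theorem not_commute_168 {x y : G} (hx : orderOf x = 3 ∨ orderOf x = 7) (hy : orderOf y = 2) :
    ¬ Commute y x := by
  intro hc
  have h1 := (_root_.orderOf_dvd_natCard (⟨y, mem_centralizer_singleton_comm.2 hc⟩ :
    centralizer ({x} : Set G)))
  rw [Subgroup.orderOf_mk, hy] at h1
  rcases hx with e | e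
  · rw [centralizer_order_three_168 h e] at h1; norm_num at h1
  · rw [centralizer_order_seven_168 h e] at h1; norm_num at h1

omit [IsSimpleGroup G] in
theorem card_sylow_two_168 (T : Sylow 2 G) : Nat.card (T : Subgroup G) = 8 := by
  have : Fact (Nat.Prime 2) := ⟨Nat.prime_two⟩
  rw [T.card_eq_multiplicity, h, show (168 : ℕ) = 2 ^ 3 * 21 by norm_num,
    Nat.factorization_mul (by norm_num) (by norm_num), Finsupp.add_apply,
    Nat.Prime.factorization_pow Nat.prime_two, Finsupp.single_eq_same,
    Nat.factorization_eq_zero_of_not_dvd (show ¬ 2 ∣ 21 by norm_num), add_zero]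
  norm_num

/-- The centralizer of an involution is a `2`-group of order at most eight. -/
theorem centralizer_involution_dvd_168 {y : G} (hy : orderOf y = 2) :
    Nat.card (centralizer ({y} : Set G)) ∣ 8 := by
  set C := centralizer ({y} : Set G)
  have key : ∀ p : ℕ, p.Prime → p = 3 ∨ p = 7 → ¬ p ∣ Nat.card C := by
    intro p hp hp37 hd
    have := Fact.mk hp
    obtain ⟨x, hx⟩ := exists_prime_orderOf_dvd_card' (G := C) p hd
    rw [← orderOf_coe] at hx
    exact not_commute_168 h (x := (x : G)) (by rcases hp37 with rfl | rfl <;> simp [hx]) hy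
      (mem_centralizer_singleton_comm.1 x.2).symm
  have h1 : Nat.card C ∣ 8 * 21 := by
    have h2 := card_subgroup_dvd_card C
    rw [h] at h2
    exact h2
  refine Nat.Coprime.dvd_of_dvd_mul_right ?_ h1
  rw [show (21 : ℕ) = 3 * 7 by norm_num]
  exact Nat.Coprime.mul_right
    (Nat.prime_three.coprime_iff_not_dvd.2 (key 3 Nat.prime_three (Or.inl rfl))).symm
    ((show Nat.Prime 7 by norm_num).coprime_iff_not_dvd.2 (key 7 (by norm_num) (Or.inr rfl))).symm

theorem orderOf_cases_168 (g : G) :
    orderOf g = 1 ∨ orderOf g = 2 ∨ orderOf g = 3 ∨ orderOf g = 4 ∨ orderOf g = 7 ∨ orderOf g = 8 := by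
  have hd : orderOf g ∣ 168 := h ▸ _root_.orderOf_dvd_natCard g
  by_cases h2 : 2 ∣ orderOf g
  · -- an even order is a power of two
    set m := orderOf g / 2
    have hm : orderOf g = 2 * m := (Nat.mul_div_cancel' h2).symm
    have hy : orderOf (g ^ m) = 2 := by
      rw [orderOf_pow' g (fun e => (orderOf_pos g).ne' (by rw [hm, e])), hm,
        Nat.gcd_eq_right (dvd_mul_left m 2),
        Nat.mul_div_cancel _ (Nat.pos_of_ne_zero fun e => (orderOf_pos g).ne' (by rw [hm, e]))]
    have h1 := _root_.orderOf_dvd_natCard (⟨g, mem_centralizer_singleton_comm.2 (Commute.self_pow g m)⟩ :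
      centralizer ({g ^ m} : Set G))
    rw [Subgroup.orderOf_mk] at h1
    obtain ⟨i, hi, e⟩ := (Nat.dvd_prime_pow Nat.prime_two).1
      (show orderOf g ∣ 2 ^ 3 from h1.trans (centralizer_involution_dvd_168 h hy))
    interval_cases i <;> simp [e]
  · have h21 : orderOf g ∣ 21 := by
      refine Nat.Coprime.dvd_of_dvd_mul_left (m := 8) ?_ (show orderOf g ∣ 8 * 21 from hd)
      exact Nat.Coprime.pow_right 3 (Nat.prime_two.coprime_iff_not_dvd.2 h2).symm
    have hle := Nat.le_of_dvd (by norm_num) h21
    by_cases e21 : orderOf g = 21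
    · exfalso
      have hx : orderOf (g ^ 7) = 3 := by
        rw [orderOf_pow' g (by norm_num), e21]; norm_num
      have h1 := _root_.orderOf_dvd_natCard (⟨g, mem_centralizer_singleton_comm.2 (Commute.self_pow g 7)⟩ :
        centralizer ({g ^ 7} : Set G))
      rw [Subgroup.orderOf_mk, e21, centralizer_order_three_168 h hx] at h1
      norm_num at h1
    · revert h21 e21
      interval_cases (orderOf g) <;> norm_num

theorem sylow2_168 (T : Sylow 2 G) :
    ¬ IsMulCommutative (T : Subgroup G) ∧ Nat.card (center (T : Subgroup G)) = 2 ∧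
      normalizer ((T : Subgroup G) : Set G) = (T : Subgroup G) := by
  classical
  have : Fact (Nat.Prime 2) := ⟨Nat.prime_two⟩
  have : Fact (Nat.Prime 3) := ⟨Nat.prime_three⟩
  have hG := nonabelian_168 h
  have hT := card_sylow_two_168 h T
  set N := normalizer ((T : Subgroup G) : Set G)
  -- an element of order three normalizing `T` fixes no involution
  have hN8 : N ≠ (T : Subgroup G) → ∃ x ∈ N, orderOf x = 3 := by
    intro hne
    obtain ⟨h1, hm, hd, hf⟩ := sylow_count_of_simple hG (p := 2) (by rw [h]; norm_num)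
    have hi : Nat.card (Sylow 2 G) = N.index := T.card_eq_index_normalizer
    have h2 := N.card_mul_index
    rw [← hi, h] at h2
    obtain ⟨k, hk⟩ : 8 ∣ Nat.card N := hT.symm.dvd.trans (card_dvd_of_le le_normalizer)
    rw [hk, mul_assoc] at h2
    have hk21 : k * Nat.card (Sylow 2 G) = 21 := by omega
    have hk1 : k ≠ 1 := fun e => hne (eq_of_le_of_card_ge le_normalizer (by rw [hT, hk, e])).symm
    have h3 : 3 ∣ k := by
      have hdk : k ∣ 21 := Dvd.intro _ hk21
      have hle := Nat.le_of_dvd (by norm_num) hdk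
      rw [h] at hf
      by_contra h3
      have hk7 : k = 7 ∨ k = 21 := by
        revert hdk hk1 h3
        interval_cases k <;> norm_num
      rcases hk7 with rfl | rfl
      · rw [show Nat.card (Sylow 2 G) = 3 by omega] at hf
        norm_num [Nat.factorial] at hf
      · omega
    obtain ⟨x, hx⟩ := exists_prime_orderOf_dvd_card' (G := N) 3 (hk ▸ dvd_mul_of_dvd_right h3 8)
    exact ⟨x, x.2, by rw [orderOf_coe, hx]⟩
  have hfix : ∀ x : G, orderOf x = 3 → ∀ u ∈ (T : Subgroup G), Commute u x → u = 1 := by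
    intro x hx u hu hc
    have h1 := _root_.orderOf_dvd_natCard (⟨u, mem_centralizer_singleton_comm.2 hc⟩ : centralizer ({x} : Set G))
    rw [Subgroup.orderOf_mk, centralizer_order_three_168 h hx] at h1
    have h2 : orderOf u ∣ 8 := hT ▸ Subgroup.orderOf_dvd_natCard _ hu
    exact orderOf_eq_one_iff.1 (Nat.eq_one_of_dvd_coprimes (by norm_num) h2 h1)
  have hnc : ¬ IsMulCommutative (T : Subgroup G) := by
    intro hab
    by_cases hne : N = (T : Subgroup G)
    · refine not_normalizer_le_centralizer hG (by rw [h]; norm_num) T ?_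
      exact hne.le.trans (Subgroup.le_centralizer _)
    obtain ⟨x, hxN, hx⟩ := hN8 hne
    let act : MulAction (zpowers x) (T : Subgroup G) :=
      { smul := fun g u => ⟨(g : G) * u * (g : G)⁻¹,
          (mem_normalizer_iff.1 ((zpowers_le.2 hxN) g.2) _).1 u.2⟩
        one_smul := fun u => Subtype.ext (show (1 : G) * u * (1 : G)⁻¹ = u by simp)
        mul_smul := fun g k u => Subtype.ext (show ((g : G) * k) * u * ((g : G) * k)⁻¹ =
          g * (k * u * (k : G)⁻¹) * (g : G)⁻¹ by group) }
    have hpg : IsPGroup 3 (zpowers x) :=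
      IsPGroup.of_card (n := 1) (by rw [Nat.card_zpowers, hx, pow_one])
    have hmod := hpg.card_modEq_card_fixedPoints (α := (T : Subgroup G))
    have hone : Nat.card (MulAction.fixedPoints (zpowers x) (T : Subgroup G)) = 1 := by
      rw [Nat.card_eq_one_iff_unique]
      refine ⟨⟨fun a b => ?_⟩, ⟨⟨1, fun g => Subtype.ext ?_⟩⟩⟩
      · have key : ∀ a : MulAction.fixedPoints (zpowers x) (T : Subgroup G), a.1 = 1 := fun a =>
          Subtype.ext (hfix x hx _ a.1.2 (mul_inv_eq_iff_eq_mul.1
            (congrArg Subtype.val (a.2 ⟨x, mem_zpowers x⟩) :)).symm)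
        exact Subtype.ext ((key a).trans (key b).symm)
      · show (g : G) * (1 : G) * (g : G)⁻¹ = 1
        simp
    rw [hone, hT] at hmod
    exact absurd hmod (by decide)
  refine ⟨hnc, ?_⟩
  have : Nontrivial (T : Subgroup G) := by
    rw [← Finite.one_lt_card_iff_nontrivial, hT]; norm_num
  have hcn := T.2.center_nontrivial
  have hc8 : Nat.card (center (T : Subgroup G)) ∣ 8 := hT ▸ card_subgroup_dvd_card _
  have hc1 : 1 < Nat.card (center (T : Subgroup G)) := Finite.one_lt_card_iff_nontrivial.2 hcn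
  have hcard : Nat.card (center (T : Subgroup G)) = 2 := by
    have hle := Nat.le_of_dvd (by norm_num) hc8
    by_contra hne
    have hi : (center (T : Subgroup G)).index ∣ 2 := by
      have h4 := (center (T : Subgroup G)).card_mul_index
      rw [hT] at h4
      revert hne hc8 hc1 h4
      generalize (center (T : Subgroup G)).index = i
      intro hne hc8 hc1 h4
      have hi2 : i ≤ 2 := by
        have : 4 ≤ Nat.card (center (T : Subgroup G)) := by
          revert hne hc8 hc1
          interval_cases (Nat.card (center (T : Subgroup G))) <;> norm_num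
        nlinarith
      interval_cases i <;> first | omega | norm_num
    apply hnc
    have : IsCyclic ((T : Subgroup G) ⧸ center (T : Subgroup G)) := by
      rcases (Nat.dvd_prime Nat.prime_two).1 hi with e | e
      · have := (Nat.card_eq_one_iff_unique.1 ((index_eq_card _).symm.trans e)).1
        exact isCyclic_of_subsingleton
      · exact isCyclic_of_prime_card (p := 2) ((index_eq_card _).symm.trans e)
    exact (QuotientGroup.mk' (center (T : Subgroup G))).isMulCommutative_of_isCyclic_of_ker_le_center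
      (by rw [QuotientGroup.ker_mk'])
  refine ⟨hcard, ?_⟩
  by_contra hne
  obtain ⟨x, hxN, hx⟩ := hN8 hne
  have := hcn
  obtain ⟨⟨z, hz⟩, hz1⟩ := exists_ne (1 : center (T : Subgroup G))
  have hxz : x * z * x⁻¹ = z := by
    have hw : (⟨x * z * x⁻¹, (mem_normalizer_iff.1 hxN _).1 z.2⟩ : (T : Subgroup G)) ∈
        center (T : Subgroup G) := by
      rw [mem_center_iff]
      intro t
      have ht : x⁻¹ * t * x ∈ (T : Subgroup G) := by
        have := (mem_normalizer_iff.1 (inv_mem hxN) (t : G)).1 t.2
        simpa using this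
      have h5 : (x⁻¹ * t * x) * z = z * (x⁻¹ * t * x) :=
        congrArg Subtype.val (mem_center_iff.1 hz ⟨_, ht⟩)
      apply Subtype.ext
      show (t : G) * (x * z * x⁻¹) = x * z * x⁻¹ * t
      calc (t : G) * (x * z * x⁻¹) = x * ((x⁻¹ * t * x) * z) * x⁻¹ := by group
        _ = x * (z * (x⁻¹ * t * x)) * x⁻¹ := by rw [h5]
        _ = _ := by group
    obtain ⟨a, b, hab, huniv⟩ := Nat.card_eq_two_iff.1 hcard
    have hcases : ∀ w : center (T : Subgroup G), w = 1 ∨ w = ⟨z, hz⟩ := by
      intro w
      have : ∀ v : center (T : Subgroup G), v = a ∨ v = b := fun v => by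
        have := huniv.ge (Set.mem_univ v)
        simpa using this
      rcases this w with e1 | e1 <;> rcases this 1 with e2 | e2 <;>
        rcases this ⟨z, hz⟩ with e3 | e3 <;> first
          | exact Or.inl (e1.trans e2.symm)
          | exact Or.inr (e1.trans e3.symm)
          | exact absurd (e3.trans e2.symm) hz1
    rcases hcases ⟨_, hw⟩ with e | e
    · exfalso
      have h6 : x * z * x⁻¹ = 1 := congrArg (fun w : center (T : Subgroup G) => ((w : (T : Subgroup G)) : G)) e
      rw [conj_eq_one_iff] at h6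
      exact hz1 (Subtype.ext (Subtype.ext h6))
    · exact congrArg (fun w : center (T : Subgroup G) => ((w : (T : Subgroup G)) : G)) e
  have := hfix x hx z z.2 (mul_inv_eq_iff_eq_mul.1 hxz).symm
  exact hz1 (Subtype.ext (Subtype.ext this))

theorem card_sylow_two_eq_168 : Nat.card (Sylow 2 G) = 21 := by
  have : Fact (Nat.Prime 2) := ⟨Nat.prime_two⟩
  obtain ⟨T⟩ := (inferInstance : Nonempty (Sylow 2 G))
  have h1 : Nat.card (Sylow 2 G) = (normalizer ((T : Subgroup G) : Set G)).index :=
    T.card_eq_index_normalizer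
  rw [h1, (sylow2_168 h T).2.2]
  have h2 := (T : Subgroup G).card_mul_index
  rw [card_sylow_two_168 h T, h] at h2
  omega

theorem orderOf_cases'_168 (g : G) :
    orderOf g = 1 ∨ orderOf g = 2 ∨ orderOf g = 3 ∨ orderOf g = 4 ∨ orderOf g = 7 := by
  rcases orderOf_cases_168 h g with e | e | e | e | e | e
  all_goals try simp [e]
  exfalso
  have : Fact (Nat.Prime 2) := ⟨Nat.prime_two⟩
  obtain ⟨T, hT⟩ := (IsPGroup.of_card (n := 3)
    (show Nat.card (zpowers g) = 2 ^ 3 by rw [Nat.card_zpowers, e]; norm_num)).exists_le_sylow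
  have he : zpowers g = (T : Subgroup G) :=
    eq_of_le_of_card_ge hT (by rw [card_sylow_two_168 h T, Nat.card_zpowers, e])
  exact (sylow2_168 h T).1 (he ▸ inferInstance)

theorem centralizer_central_168 (T : Sylow 2 G) {z : G} (hz : z ∈ (T : Subgroup G)) (hz1 : z ≠ 1)
    (hc : ∀ t ∈ (T : Subgroup G), t * z = z * t) :
    orderOf z = 2 ∧ centralizer ({z} : Set G) = (T : Subgroup G) := by
  have hzc : (⟨z, hz⟩ : (T : Subgroup G)) ∈ center (T : Subgroup G) :=
    mem_center_iff.2 fun t => Subtype.ext (hc t t.2)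
  have ho : orderOf z = 2 := by
    have h1 := _root_.orderOf_dvd_natCard (⟨⟨z, hz⟩, hzc⟩ : center (T : Subgroup G))
    rw [Subgroup.orderOf_mk, Subgroup.orderOf_mk, (sylow2_168 h T).2.1] at h1
    exact ((Nat.dvd_prime Nat.prime_two).1 h1).resolve_left fun e => hz1 (orderOf_eq_one_iff.1 e)
  refine ⟨ho, (eq_of_le_of_card_ge (fun t ht => mem_centralizer_singleton_comm.2 (hc t ht)) ?_).symm⟩
  rw [card_sylow_two_168 h T]
  exact Nat.le_of_dvd (by norm_num) (centralizer_involution_dvd_168 h ho)

theorem card_orderOf_odd_168 :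
    Nat.card {g : G // orderOf g = 3} = 56 ∧ Nat.card {g : G // orderOf g = 7} = 48 := by
  have : Fact (Nat.Prime 3) := ⟨Nat.prime_three⟩
  have : Fact (Nat.Prime 7) := ⟨by norm_num⟩
  refine ⟨?_, ?_⟩
  · rw [card_orderOf_eq_prime default ((sylow3_168 h).2 _).1, (sylow3_168 h).1]
  · rw [card_orderOf_eq_prime default ((sylow7_168 h).2 _).1, (sylow7_168 h).1]

theorem card_two_add_four_168 :
    Nat.card {g : G // orderOf g = 2} + Nat.card {g : G // orderOf g = 4} = 63 := by
  classical
  have := Fintype.ofFinite G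
  have h1 := Finset.card_eq_sum_card_fiberwise (f := fun g : G => orderOf g)
    (s := Finset.univ) (t := ({1, 2, 3, 4, 7} : Finset ℕ))
    (fun g _ => by simpa using orderOf_cases'_168 h g)
  have e : ∀ n, ({g ∈ (Finset.univ : Finset G) | orderOf g = n}).card =
      Nat.card {g : G // orderOf g = n} := fun n => by
    rw [Nat.card_eq_fintype_card, Fintype.card_subtype]
  have one : Nat.card {g : G // orderOf g = 1} = 1 := by
    rw [Nat.card_eq_one_iff_unique]
    exact ⟨⟨fun a b => Subtype.ext ((orderOf_eq_one_iff.1 a.2).trans (orderOf_eq_one_iff.1 b.2).symm)⟩,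
      ⟨⟨1, orderOf_one⟩⟩⟩
  rw [Finset.card_univ, ← Nat.card_eq_fintype_card, h] at h1
  simp only [e] at h1
  rw [Finset.sum_insert (by decide), Finset.sum_insert (by decide), Finset.sum_insert (by decide),
    Finset.sum_insert (by decide), Finset.sum_singleton, one, (card_orderOf_odd_168 h).1,
    (card_orderOf_odd_168 h).2] at h1
  omega

theorem exists_noncentral_involution_168 (T : Sylow 2 G) :
    ∃ y : (T : Subgroup G), orderOf y = 2 ∧ y ∉ center (T : Subgroup G) := by
  classical
  have : Fact (Nat.Prime 2) := ⟨Nat.prime_two⟩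
  by_contra hne
  push Not at hne
  obtain ⟨hnc, hcard, -⟩ := sylow2_168 h T
  have hT := card_sylow_two_168 h T
  obtain ⟨⟨⟨z, hzT⟩, hzc⟩, hz⟩ := exists_prime_orderOf_dvd_card' (G := center (T : Subgroup G)) 2
    hcard.symm.dvd
  rw [Subgroup.orderOf_mk, Subgroup.orderOf_mk] at hz
  have hz1 : z ≠ 1 := fun e => by rw [e, orderOf_one] at hz; norm_num at hz
  obtain ⟨-, hCz⟩ := centralizer_central_168 h T hzT hz1 fun t ht =>
    congrArg Subtype.val (mem_center_iff.1 hzc ⟨t, ht⟩)
  -- all elements outside the centre have order four and square `z`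
  have huniq : ∀ w : center (T : Subgroup G), w = 1 ∨ ((w : (T : Subgroup G)) : G) = z := by
    intro w
    obtain ⟨a, b, hab, huniv⟩ := Nat.card_eq_two_iff.1 hcard
    have hm : ∀ v : center (T : Subgroup G), v = a ∨ v = b := fun v => by
      have := huniv.ge (Set.mem_univ v)
      simpa using this
    have hz' : (⟨⟨z, hzT⟩, hzc⟩ : center (T : Subgroup G)) ≠ 1 := fun e =>
      hz1 (congrArg (fun v : center (T : Subgroup G) => ((v : (T : Subgroup G)) : G)) e)
    rcases hm w with e1 | e1 <;> rcases hm 1 with e2 | e2 <;>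
      rcases hm ⟨⟨z, hzT⟩, hzc⟩ with e3 | e3 <;> first
        | exact Or.inl (e1.trans e2.symm)
        | exact Or.inr (congrArg (fun v : center (T : Subgroup G) => ((v : (T : Subgroup G)) : G))
            (e1.trans e3.symm))
        | exact absurd (e3.trans e2.symm) hz'
  let S := {y : (T : Subgroup G) // y ∉ center (T : Subgroup G)}
  have hS : Nat.card S = 6 := by
    have := Fintype.ofFinite (T : Subgroup G)
    rw [Nat.card_eq_fintype_card, Fintype.card_subtype_compl, ← Nat.card_eq_fintype_card, hT,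
      ← Nat.card_eq_fintype_card]
    have : Nat.card {y : (T : Subgroup G) // y ∈ center (T : Subgroup G)} = 2 := hcard
    omega
  have hord : ∀ y : S, orderOf ((y.1 : (T : Subgroup G)) : G) = 4 ∧ ((y.1 : G)) ^ 2 = z := by
    intro y
    have ho : orderOf (y.1 : G) = 4 := by
      rcases orderOf_cases'_168 h (y.1 : G) with e | e | e | e | e
      · exact absurd (one_mem _) (show (1 : (T : Subgroup G)) ∉ center (T : Subgroup G) from
          (Subtype.ext (orderOf_eq_one_iff.1 e) : y.1 = 1) ▸ y.2)
      · exact absurd (hne y.1 (by rw [← orderOf_coe, e])) y.2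
      all_goals first
        | exact e
        | (exfalso
           have h8 := Subgroup.orderOf_dvd_natCard _ (y.1).2
           rw [hT, e] at h8
           norm_num at h8)
    refine ⟨ho, ?_⟩
    have h2 : orderOf (y.1 ^ 2 : (T : Subgroup G)) = 2 := by
      rw [← orderOf_coe, SubmonoidClass.coe_pow, orderOf_pow' _ two_ne_zero, ho]
      norm_num
    have hmem := hne _ h2
    rcases huniq ⟨_, hmem⟩ with e | e
    · exfalso
      have e' : y.1 ^ 2 = 1 := congrArg Subtype.val e
      rw [e', orderOf_one] at h2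
      norm_num at h2
    · simpa using e
  choose c hc using fun R : Sylow 2 G => MulAction.exists_smul_eq G T R
  let F : Sylow 2 G × S → {g : G // orderOf g = 4} := fun a =>
    ⟨c a.1 * (a.2.1 : G) * (c a.1)⁻¹, by rw [← MulAut.conj_apply, MulEquiv.orderOf_eq, (hord a.2).1]⟩
  have hF : Function.Injective F := by
    rintro ⟨R, y⟩ ⟨R', y'⟩ e
    have e' : c R * (y.1 : G) * (c R)⁻¹ = c R' * (y'.1 : G) * (c R')⁻¹ := congrArg Subtype.val e
    have e2 := congrArg (fun w : G => w ^ 2) e'
    simp only [conj_pow, (hord y).2, (hord y').2] at e2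
    have hmem : (c R')⁻¹ * c R ∈ centralizer ({z} : Set G) := by
      rw [mem_centralizer_singleton_comm]
      show (c R')⁻¹ * c R * z = z * ((c R')⁻¹ * c R)
      calc (c R')⁻¹ * c R * z = (c R')⁻¹ * (c R * z * (c R)⁻¹) * c R := by group
        _ = _ := by rw [e2]; group
    rw [hCz] at hmem
    have hR : R = R' := by
      rw [← hc R, ← hc R']
      have h3 := Sylow.smul_eq_iff_mem_normalizer.2 (le_normalizer hmem : _ ∈ normalizer ((T : Subgroup G) : Set G))
      rw [mul_smul, inv_smul_eq_iff] at h3
      exact h3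
    subst hR
    have e3 : (y.1 : G) = y'.1 := by
      have := mul_right_cancel e'
      exact mul_left_cancel this
    exact Prod.ext rfl (Subtype.ext (Subtype.ext e3))
  have hle := Nat.card_le_card_of_injective F hF
  rw [Nat.card_prod, card_sylow_two_eq_168 h, hS] at hle
  have := card_two_add_four_168 h
  omega

theorem sylow_two_dihedral_168 (T : Sylow 2 G) :
    Nonempty ((T : Subgroup G) ≃* DihedralGroup 4) := by
  obtain ⟨y, hy, hyc⟩ := exists_noncentral_involution_168 h T
  exact nonempty_dihedral_of_card_eight (card_sylow_two_168 h T) (sylow2_168 h T).1 hy hyc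

theorem isConj_involution_168 {s t : G} (hs : orderOf s = 2) (ht : orderOf t = 2) : IsConj s t := by
  classical
  have : Fact (Nat.Prime 2) := ⟨Nat.prime_two⟩
  have hG := nonabelian_168 h
  obtain ⟨T⟩ := (inferInstance : Nonempty (Sylow 2 G))
  have hT := card_sylow_two_168 h T
  obtain ⟨a, ha⟩ : ∃ a : (T : Subgroup G), orderOf a = 4 := by
    by_contra! hne
    refine (sylow2_168 h T).1 ⟨⟨fun a b => ?_⟩⟩
    have hsq : ∀ c : (T : Subgroup G), c * c = 1 := by
      intro c
      rcases orderOf_cases'_168 h (c : G) with e | e | e | e | e <;> rw [orderOf_coe] at e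
      · rw [orderOf_eq_one_iff.1 e, mul_one]
      · rw [← sq]; exact orderOf_dvd_iff_pow_eq_one.1 e.dvd
      all_goals first
        | exact absurd e (hne c)
        | (exfalso
           have h8 := _root_.orderOf_dvd_natCard c
           rw [hT, e] at h8
           norm_num at h8)
    have hi : ∀ c : (T : Subgroup G), c⁻¹ = c := fun c => inv_eq_of_mul_eq_one_right (hsq c)
    rw [← hi (a * b), mul_inv_rev, hi, hi]
  set Q := zpowers (a : G)
  have hQc : Nat.card Q = 4 := by rw [Nat.card_zpowers, orderOf_coe, ha]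
  have hQT : Q ≤ (T : Subgroup G) := zpowers_le.2 a.2
  have hQi : Q.relIndex (T : Subgroup G) = 2 := by
    have h2 := relIndex_mul_relIndex ⊥ Q (T : Subgroup G) bot_le hQT
    rw [relIndex_bot_left, relIndex_bot_left, hQc, hT] at h2
    omega
  have hQinv : ∀ w ∈ Q, orderOf w = 2 → w = (a : G) ^ 2 := by
    intro w hw ho
    obtain ⟨i, rfl⟩ := mem_zpowers_iff.1 hw
    have hao : orderOf (a : G) = 4 := by rw [orderOf_coe, ha]
    rw [← zpow_mod_orderOf, hao] at ho ⊢
    have h0 := Int.emod_nonneg i (show ((4 : ℕ) : ℤ) ≠ 0 by norm_num)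
    have h4 := Int.emod_lt_of_pos i (show (0 : ℤ) < ((4 : ℕ) : ℤ) by norm_num)
    rcases (show i % ((4 : ℕ) : ℤ) = 0 ∨ i % ((4 : ℕ) : ℤ) = 1 ∨ i % ((4 : ℕ) : ℤ) = 2 ∨
        i % ((4 : ℕ) : ℤ) = 3 by omega) with e | e | e | e <;> rw [e] at ho ⊢
    · simp at ho
    · rw [zpow_one, hao] at ho; norm_num at ho
    · exact zpow_natCast (a : G) 2
    · exfalso
      rw [show (3 : ℤ) = ((3 : ℕ) : ℤ) by norm_num, zpow_natCast, orderOf_pow' _ (by norm_num), hao] at ho
      norm_num at ho
  have key : ∀ u : G, orderOf u = 2 → IsConj u ((a : G) ^ 2) := by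
    intro u hu
    obtain ⟨R, hR⟩ := (IsPGroup.of_card (n := 1)
      (show Nat.card (zpowers u) = 2 ^ 1 by rw [Nat.card_zpowers, hu, pow_one])).exists_le_sylow
    obtain ⟨g, hg⟩ := MulAction.exists_smul_eq G R T
    set v := g * u * g⁻¹ with hv
    have hvT : v ∈ (T : Subgroup G) := by
      rw [← hg, Sylow.smul_def, Sylow.pointwise_smul_def]
      exact Subgroup.smul_mem_pointwise_smul _ _ _ (hR (mem_zpowers u))
    have hvo : orderOf v = 2 := by rw [hv, ← MulAut.conj_apply, MulEquiv.orderOf_eq, hu]
    rcases thompson_transfer_involution T hQT hQi (orderOf_dvd_iff_pow_eq_one.1 hvo.dvd) hvT with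
      ⟨M, hMn, hMi, -⟩ | ⟨k, hk⟩
    · exfalso
      rcases IsSimpleGroup.eq_bot_or_eq_top_of_normal M hMn with e | e
      · rw [e, index_bot, h] at hMi; norm_num at hMi
      · rw [e, index_top] at hMi; norm_num at hMi
    · have e := hQinv _ hk (by rw [← MulAut.conj_apply, MulEquiv.orderOf_eq, hvo])
      exact isConj_iff.2 ⟨k * g, by rw [← e, hv]; group⟩
  exact (key s hs).trans (key t ht).symm

theorem card_involutions_168 : Nat.card {g : G // orderOf g = 2} = 21 := by
  classical
  have : Fact (Nat.Prime 2) := ⟨Nat.prime_two⟩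
  obtain ⟨T⟩ := (inferInstance : Nonempty (Sylow 2 G))
  obtain ⟨⟨⟨z, hzT⟩, hzc⟩, hz⟩ := exists_prime_orderOf_dvd_card' (G := center (T : Subgroup G)) 2
    (sylow2_168 h T).2.1.symm.dvd
  rw [Subgroup.orderOf_mk, Subgroup.orderOf_mk] at hz
  have hz1 : z ≠ 1 := fun e => by rw [e, orderOf_one] at hz; norm_num at hz
  obtain ⟨-, hCz⟩ := centralizer_central_168 h T hzT hz1 fun t ht =>
    congrArg Subtype.val (mem_center_iff.1 hzc ⟨t, ht⟩)
  have h1 := card_isConj_mul_card_centralizer z
  rw [hCz, card_sylow_two_168 h T, h] at h1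
  rw [show Nat.card {g : G // orderOf g = 2} = Nat.card {g : G // IsConj z g} from
    Nat.card_congr (Equiv.subtypeEquivRight fun g => ⟨fun hg => isConj_involution_168 h hz hg,
      fun hg => by
        obtain ⟨k, rfl⟩ := isConj_iff.1 hg
        rw [← MulAut.conj_apply, MulEquiv.orderOf_eq, hz]⟩)]
  omega

theorem card_orderOf_four_168 :
    Nat.card {g : G // orderOf g = 4} = 42 ∧
      ∀ s t : G, orderOf s = 4 → orderOf t = 4 → IsConj s t := by
  classical
  have h42 : Nat.card {g : G // orderOf g = 4} = 42 := by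
    have := card_two_add_four_168 h
    have := card_involutions_168 h
    omega
  refine ⟨h42, fun s t hs ht => ?_⟩
  have hC : Nat.card (centralizer ({s} : Set G)) = 4 := by
    have hs2 : orderOf (s ^ 2) = 2 := by rw [orderOf_pow' _ two_ne_zero, hs]; norm_num
    have hle : centralizer ({s} : Set G) ≤ centralizer ({s ^ 2} : Set G) := fun x hx =>
      mem_centralizer_singleton_comm.2 ((mem_centralizer_singleton_comm.1 hx).pow_right 2)
    have h8 : Nat.card (centralizer ({s} : Set G)) ∣ 8 :=
      (card_dvd_of_le hle).trans (centralizer_involution_dvd_168 h hs2)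
    have h4 : 4 ∣ Nat.card (centralizer ({s} : Set G)) := by
      rw [← hs, ← Nat.card_zpowers]
      exact card_dvd_of_le (zpowers_le.2 (mem_centralizer_singleton_comm.2 (Commute.refl s)))
    have hne : Nat.card (centralizer ({s} : Set G)) ≠ 8 := by
      intro e8
      have : Fact (Nat.Prime 2) := ⟨Nat.prime_two⟩
      obtain ⟨R, hR⟩ := (IsPGroup.of_card (n := 3)
        (show Nat.card (centralizer ({s} : Set G)) = 2 ^ 3 by rw [e8]; norm_num)).exists_le_sylow
      have e := eq_of_le_of_card_ge hR (by rw [card_sylow_two_168 h R, e8])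
      have hsR : s ∈ (R : Subgroup G) := e ▸ mem_centralizer_singleton_comm.2 (Commute.refl s)
      have hs1 : s ≠ 1 := fun e' => by rw [e', orderOf_one] at hs; norm_num at hs
      obtain ⟨h2, -⟩ := centralizer_central_168 h R hsR hs1 fun u hu =>
        (mem_centralizer_singleton_comm.1 (e.ge hu)).eq
      omega
    have hle8 := Nat.le_of_dvd (by norm_num) h8
    revert h8 h4 hne
    interval_cases (Nat.card (centralizer ({s} : Set G))) <;> norm_num
  have h1 := card_isConj_mul_card_centralizer s
  rw [hC, h] at h1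
  let f : {g : G // IsConj s g} → {g : G // orderOf g = 4} := fun g =>
    ⟨g.1, by obtain ⟨k, hk⟩ := isConj_iff.1 g.2; rw [← hk, ← MulAut.conj_apply, MulEquiv.orderOf_eq, hs]⟩
  have hf : Function.Bijective f := (Nat.bijective_iff_injective_and_card f).2
    ⟨fun a b e => Subtype.ext (congrArg (fun w : {g : G // orderOf g = 4} => w.1) e),
      by rw [h42]; omega⟩
  obtain ⟨g, hg⟩ := hf.2 ⟨t, ht⟩
  have e : g.1 = t := congrArg Subtype.val hg
  exact e ▸ g.2

theorem orderOf_three_conj_168 (s t : G) (hs : orderOf s = 3) (ht : orderOf t = 3) :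
    IsConj s t := by
  classical
  have h1 := card_isConj_mul_card_centralizer s
  rw [centralizer_order_three_168 h hs, h] at h1
  let f : {g : G // IsConj s g} → {g : G // orderOf g = 3} := fun g =>
    ⟨g.1, by obtain ⟨k, hk⟩ := isConj_iff.1 g.2; rw [← hk, ← MulAut.conj_apply, MulEquiv.orderOf_eq, hs]⟩
  have hf : Function.Bijective f := (Nat.bijective_iff_injective_and_card f).2
    ⟨fun a b e => Subtype.ext (congrArg (fun w : {g : G // orderOf g = 3} => w.1) e),
      by rw [(card_orderOf_odd_168 h).1]; omega⟩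
  obtain ⟨g, hg⟩ := hf.2 ⟨t, ht⟩
  have e : g.1 = t := congrArg Subtype.val hg
  exact e ▸ g.2

theorem orderOf_seven_class_168 (x : G) (hx : orderOf x = 7) :
    Nat.card {g : G // IsConj x g} = 24 ∧ ¬ IsConj x x⁻¹ := by
  classical
  have : Fact (Nat.Prime 7) := ⟨by norm_num⟩
  refine ⟨?_, fun hc => ?_⟩
  · have h1 := card_isConj_mul_card_centralizer x
    rw [centralizer_order_seven_168 h hx, h] at h1
    omega
  obtain ⟨u, hu⟩ := isConj_iff.1 hc
  have hx1 : x ≠ x⁻¹ := by
    intro e
    have h2 : x ^ 2 = 1 := by rw [sq]; conv_lhs => arg 1; rw [e]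
                              exact inv_mul_cancel x
    have := orderOf_dvd_of_pow_eq_one h2
    rw [hx] at this
    norm_num at this
  obtain ⟨P, hP⟩ := (IsPGroup.of_card (n := 1)
    (show Nat.card (zpowers x) = 7 ^ 1 by rw [Nat.card_zpowers, hx, pow_one])).exists_le_sylow
  obtain ⟨hPc, hN, -⟩ := (sylow7_168 h).2 P
  have e : zpowers x = (P : Subgroup G) := eq_of_le_of_card_ge hP (by rw [hPc, Nat.card_zpowers, hx])
  have huN : u ∈ normalizer ((P : Subgroup G) : Set G) := by
    refine mem_normalizer_iff_map_conj_eq.2 ?_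
    change (P : Subgroup G).map (MulAut.conj u).toMonoidHom = (P : Subgroup G)
    rw [← e, MonoidHom.map_zpowers]
    show zpowers (u * x * u⁻¹) = zpowers x
    rw [hu, zpowers_inv]
  have hodd : ¬ 2 ∣ orderOf u := fun hd => by
    have := hd.trans (hN ▸ Subgroup.orderOf_dvd_natCard _ huN)
    norm_num at this
  have hsq : Commute (u ^ 2) x := by
    show u ^ 2 * x = x * u ^ 2
    have h3 : u * x⁻¹ * u⁻¹ = x := by rw [← inv_inj, mul_inv_rev, mul_inv_rev, inv_inv, inv_inv, ← mul_assoc, hu]
    calc u ^ 2 * x = u * (u * x * u⁻¹) * u := by rw [sq]; group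
      _ = (u * x⁻¹ * u⁻¹) * u ^ 2 := by rw [hu, sq]; group
      _ = x * u ^ 2 := by rw [h3]
  obtain ⟨k, hk⟩ : ∃ k, orderOf u = 2 * k + 1 := ⟨orderOf u / 2, by omega⟩
  have hu' : u = (u ^ 2) ^ (k + 1) := by
    rw [← pow_mul, show 2 * (k + 1) = orderOf u + 1 by omega, pow_succ, pow_orderOf_eq_one, one_mul]
  have hcu : Commute u x := hu' ▸ hsq.pow_left (k + 1)
  exact hx1 (by rw [← hu, hcu.eq, mul_inv_cancel_right])

end OneSixtyEight

end CfsgLib.Transfer
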