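import Cfsg.Agent.Lib.Transfer.Basic
import Mathlib.GroupTheory.Nilpotent

/-!
# Fusion and the Frobenius normal `p`-complement theorem
-/

namespace CfsgLib.Transfer

open Subgroup
open scoped Pointwise commutatorElement

variable {G : Type*} [Group G] [Finite G] {p : ℕ} [Fact p.Prime]

omit [Finite G] [Fact p.Prime] in
theorem sylow_smul_mem_iff {P : Sylow p G} {g x : G} :
    x ∈ g • P ↔ g⁻¹ * x * g ∈ P := by
  change x ∈ ((g • P : Sylow p G) : Subgroup G) ↔ g⁻¹ * x * g ∈ (P : Subgroup G)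
  rw [Sylow.coe_subgroup_smul, Subgroup.mem_pointwise_smul_iff_inv_smul_mem, ← map_inv,
    MulAut.smul_def, MulAut.conj_apply, inv_inv]

/-- If `H ≤ K` and `H` is a Sylow subgroup's equal order part, normalizers grow in `p`-groups. -/
theorem exists_mem_normalizer_not_mem {K D : Subgroup G} (hK : IsPGroup p K) (hlt : D < K) :
    ∃ x ∈ K, x ∈ normalizer (D : Set G) ∧ x ∉ D := by
  have hD : D.subgroupOf K < ⊤ :=
    lt_top_iff_ne_top.2 fun h => hlt.not_ge (subgroupOf_eq_top.1 h)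
  have := hK.isNilpotent
  obtain ⟨x, hx, hxD⟩ := SetLike.exists_of_lt
    (Group.normalizerCondition_of_isNilpotent _ hD)
  rw [← subgroupOf_normalizer_eq hlt.le, mem_subgroupOf] at hx
  exact ⟨x, x.2, hx, hxD⟩

/-- A finite group is generated by a Sylow `p`-subgroup and its elements of order prime to `p`;
product form. -/
theorem exists_mem_sylow_mul (P : Sylow p G) {C : Subgroup G} [C.Normal]
    (hC : ∀ g : G, (orderOf g).Coprime p → g ∈ C) (g : G) :
    ∃ u ∈ P, ∃ c ∈ C, g = u * c := by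
  have h : Cfsg.pResidual p G ≤ C := by
    rw [Cfsg.pResidual, closure_le]; exact fun x hx => hC x hx
  have htop : (P : Subgroup G) ⊔ C = ⊤ := top_le_iff.1 <| by
    rw [← pResidual_sup_sylow P, sup_comm (P : Subgroup G)]
    exact sup_le_sup_right h _
  have hg : g ∈ ((P : Subgroup G) : Set G) * (C : Set G) := by
    rw [← mul_normal, htop]; trivial
  obtain ⟨u, hu, c, hc, huc⟩ := hg
  exact ⟨u, hu, c, hc, huc.symm⟩

/-- Frobenius' hypothesis on `N_G(D)`: `N_G(D) = S C_G(D)` for a Sylow subgroup `S`. -/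
theorem normalizer_exists_mul {D : Subgroup G}
    (hD : ∀ g ∈ normalizer (D : Set G), (orderOf g).Coprime p → g ∈ centralizer (D : Set G))
    (S : Sylow p (normalizer (D : Set G))) (n : normalizer (D : Set G)) :
    ∃ u ∈ S, ∃ c : normalizer (D : Set G), (c : G) ∈ centralizer (D : Set G) ∧ n = u * c := by
  obtain ⟨u, hu, c, hc, h⟩ := exists_mem_sylow_mul S
    (C := (centralizer (D : Set G)).subgroupOf (normalizer (D : Set G)))
    (fun g hg => mem_subgroupOf.2 (hD g g.2 (by rwa [Subgroup.orderOf_coe]))) n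
  exact ⟨u, hu, c, mem_subgroupOf.1 hc, h⟩

/-- Under Frobenius' hypothesis any two Sylow subgroups are conjugate by an element centralizing
their intersection. -/
theorem exists_centralizer_inf_smul_eq
    (hF : ∀ D : Subgroup G, IsPGroup p D → ∀ g ∈ normalizer (D : Set G),
      (orderOf g).Coprime p → g ∈ centralizer (D : Set G))
    (P Q : Sylow p G) :
    ∃ c ∈ centralizer (((P : Subgroup G) ⊓ (Q : Subgroup G) : Subgroup G) : Set G), c • P = Q := by
  induction hk : Nat.card G - Nat.card ((P : Subgroup G) ⊓ (Q : Subgroup G) : Subgroup G) using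
    Nat.strong_induction_on generalizing P Q with
  | _ k ih => ?_
  subst hk
  set D : Subgroup G := (P : Subgroup G) ⊓ (Q : Subgroup G) with hDdef
  have step : ∀ P' Q' : Sylow p G, ∀ x : G, D ≤ (P' : Subgroup G) → D ≤ (Q' : Subgroup G) →
      x ∈ (P' : Subgroup G) → x ∈ (Q' : Subgroup G) → x ∉ D →
      ∃ c ∈ centralizer (D : Set G), c • P' = Q' := by
    intro P' Q' x hP' hQ' hxP hxQ hxD
    have hlt : D < (P' : Subgroup G) ⊓ (Q' : Subgroup G) :=
      lt_of_le_of_ne (le_inf hP' hQ') fun h => hxD (h ▸ ⟨hxP, hxQ⟩)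
    have h1 : Nat.card D < Nat.card ((P' : Subgroup G) ⊓ (Q' : Subgroup G) : Subgroup G) := by
      refine lt_of_le_of_ne (Nat.le_of_dvd Nat.card_pos (card_dvd_of_le hlt.le)) fun h => hlt.ne ?_
      exact eq_of_le_of_card_ge hlt.le h.ge
    obtain ⟨c, hc, hcP⟩ := ih _ (by
      have := card_le_card_group ((P' : Subgroup G) ⊓ (Q' : Subgroup G))
      omega) P' Q' rfl
    exact ⟨c, centralizer_le hlt.le hc, hcP⟩
  by_cases hPQ : (P : Subgroup G) ≤ Q
  · exact ⟨1, one_mem _, by rw [one_smul]; exact Sylow.ext (P.3 Q.2 hPQ).symm⟩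
  have hQP : ¬ (Q : Subgroup G) ≤ P := fun h => hPQ (Q.3 P.2 h).le
  obtain ⟨x, hxP, hxN, hxD⟩ := exists_mem_normalizer_not_mem P.2 (D := D)
    (lt_of_le_of_ne inf_le_left fun h => hPQ (inf_eq_left.1 h))
  obtain ⟨y, hyQ, hyN, hyD⟩ := exists_mem_normalizer_not_mem Q.2 (D := D)
    (lt_of_le_of_ne inf_le_right fun h => hQP (inf_eq_right.1 h))
  set N := normalizer (D : Set G)
  have hDN : D ≤ N := le_normalizer
  obtain ⟨S, hS⟩ := IsPGroup.exists_le_sylow (P.2.comap_subtype (K := N))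
  obtain ⟨T, hT⟩ := IsPGroup.exists_le_sylow (Q.2.comap_subtype (K := N))
  obtain ⟨P1, hP1⟩ := (S.2.map N.subtype).exists_le_sylow
  obtain ⟨Q1, hQ1⟩ := (T.2.map N.subtype).exists_le_sylow
  have mem_P1 : ∀ z ∈ (P : Subgroup G), z ∈ N → z ∈ (P1 : Subgroup G) := fun z hz hzN =>
    hP1 ⟨⟨z, hzN⟩, hS hz, rfl⟩
  have mem_Q1 : ∀ z ∈ (Q : Subgroup G), z ∈ N → z ∈ (Q1 : Subgroup G) := fun z hz hzN =>
    hQ1 ⟨⟨z, hzN⟩, hT hz, rfl⟩
  obtain ⟨a, ha, haP⟩ := step P P1 x inf_le_left
    (fun z hz => mem_P1 z (inf_le_left (b := (Q : Subgroup G)) hz) (hDN hz))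
    hxP (mem_P1 x hxP hxN) hxD
  obtain ⟨b, hb, hbQ⟩ := step Q1 Q y
    (fun z hz => mem_Q1 z (inf_le_right (a := (P : Subgroup G)) hz) (hDN hz))
    inf_le_right (mem_Q1 y hyQ hyN) hyQ hyD
  obtain ⟨n, hn⟩ := MulAction.exists_smul_eq N S T
  obtain ⟨u, hu, c, hc, huc⟩ := normalizer_exists_mul (hF D (P.2.to_le inf_le_left)) S n⁻¹
  have hcS : c⁻¹ • S = T := by
    have hu' : u⁻¹ • S = S := by
      rw [Sylow.smul_eq_iff_mem_normalizer]; exact le_normalizer (inv_mem hu)
    rw [← hn, ← inv_inv n, huc, mul_inv_rev, mul_smul, hu']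
  have hTP : ∀ t : N, t ∈ T → (t : G) ∈ ((c : G)⁻¹ • P1 : Sylow p G) := by
    intro t ht
    rw [← hcS, sylow_smul_mem_iff, inv_inv] at ht
    rw [sylow_smul_mem_iff, inv_inv]
    exact hP1 ⟨_, ht, by simp⟩
  obtain ⟨e, he, heQ⟩ := step ((c : G)⁻¹ • P1) Q1 y
    (fun z hz => hTP ⟨z, hDN hz⟩ (hT (inf_le_right (a := (P : Subgroup G)) hz)))
    (fun z hz => mem_Q1 z (inf_le_right (a := (P : Subgroup G)) hz) (hDN hz))
    (hTP ⟨y, hyN⟩ (hT hyQ)) (mem_Q1 y hyQ hyN) hyD
  refine ⟨b * e * (c : G)⁻¹ * a, mul_mem (mul_mem (mul_mem hb he) (inv_mem hc)) ha, ?_⟩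
  rw [mul_smul, haP, mul_smul, mul_smul, heQ, hbQ]

/-- Frobenius' hypothesis implies that a Sylow subgroup controls its own fusion. -/
theorem exists_conj_eq_of_frobenius
    (hF : ∀ D : Subgroup G, IsPGroup p D → ∀ g ∈ normalizer (D : Set G),
      (orderOf g).Coprime p → g ∈ centralizer (D : Set G))
    (P : Sylow p G) {x y : G} (hx : x ∈ P) (hy : y ∈ P) (hxy : ∃ g : G, g * x * g⁻¹ = y) :
    ∃ z ∈ P, z * x * z⁻¹ = y := by
  obtain ⟨g, rfl⟩ := hxy
  have hxQ : x ∈ ((g⁻¹ • P : Sylow p G) : Subgroup G) := by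
    change x ∈ g⁻¹ • P
    rwa [sylow_smul_mem_iff, inv_inv]
  obtain ⟨c, hc, hcP⟩ := exists_centralizer_inf_smul_eq hF P (g⁻¹ • P)
  have hn : g * c ∈ normalizer ((P : Subgroup G) : Set G) := by
    exact Sylow.smul_eq_iff_mem_normalizer.1 (by rw [mul_smul, hcP, smul_inv_smul])
  have hle : (P : Subgroup G) ≤ normalizer ((P : Subgroup G) : Set G) := le_normalizer
  obtain ⟨u, hu, d, hd, hud⟩ := normalizer_exists_mul (hF P P.2) (P.subtype hle) ⟨g * c, hn⟩
  refine ⟨u, hu, ?_⟩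
  have h1 : c * x * c⁻¹ = x := by
    rw [← mem_centralizer_iff.1 hc x ⟨hx, hxQ⟩, mul_inv_cancel_right]
  have h2 : (d : G) * x * (d : G)⁻¹ = x := by
    rw [← mem_centralizer_iff.1 hd x hx, mul_inv_cancel_right]
  have h3 : g * c = (u : G) * d := congrArg Subtype.val hud
  calc (u : G) * x * (u : G)⁻¹ = u * ((d : G) * x * (d : G)⁻¹) * (u : G)⁻¹ := by rw [h2]
    _ = (g * c) * x * (g * c)⁻¹ := by rw [h3]; group
    _ = g * (c * x * c⁻¹) * g⁻¹ := by group
    _ = g * x * g⁻¹ := by rw [h1]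

omit [Finite G] in
/-- In a nilpotent group a subgroup with `Q ≤ ⁅Q, K⁆`, `Q ≤ K`, is trivial. -/
theorem eq_bot_of_le_commutator {K Q : Subgroup G} [Group.IsNilpotent K] (hQK : Q ≤ K)
    (h : Q ≤ ⁅Q, K⁆) : Q = ⊥ := by
  have key : ∀ n, Q ≤ K.lowerCentralSeries n := by
    intro n
    induction n with
    | zero => exact hQK
    | succ n ih => exact h.trans (commutator_mono ih le_rfl)
  obtain ⟨n, hn⟩ := (isNilpotent_iff_lowerCentralSeries K).1 ‹Group.IsNilpotent K›
  exact eq_bot_iff.2 (hn ▸ key n)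

/-- The intersection of a Sylow subgroup with a normal subgroup is a Sylow subgroup of it. -/
theorem exists_sylow_eq_subgroupOf (P : Sylow p G) (N : Subgroup G) [N.Normal] :
    ∃ S : Sylow p N, (S : Subgroup N) = (P : Subgroup G).subgroupOf N := by
  have h1 : (P : Subgroup G).relIndex N = (P : Subgroup G).relIndex ((P : Subgroup G) ⊔ N) := by
    have e1 := relIndex_mul_relIndex ⊥ N ((P : Subgroup G) ⊔ N) bot_le le_sup_right
    have e2 := relIndex_mul_relIndex ⊥ (P : Subgroup G) ((P : Subgroup G) ⊔ N) bot_le le_sup_left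
    have e3 := relIndex_mul_relIndex ⊥ ((P : Subgroup G) ⊓ N) (P : Subgroup G) bot_le inf_le_left
    have e4 := relIndex_mul_relIndex ⊥ ((P : Subgroup G) ⊓ N) N bot_le inf_le_right
    rw [relIndex_sup_right] at e1
    rw [inf_relIndex_left] at e3
    rw [inf_relIndex_right] at e4
    rw [← e4, ← e2, ← e3] at e1
    have hpos : (⊥ : Subgroup G).relIndex ((P : Subgroup G) ⊓ N) *
        N.relIndex (P : Subgroup G) ≠ 0 := by
      rw [e3, relIndex_bot_left]; exact Nat.card_pos.ne'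
    exact Nat.eq_of_mul_eq_mul_left (Nat.pos_of_ne_zero hpos) (by rw [← e1]; ring)
  have h2 : (P : Subgroup G).relIndex N ∣ (P : Subgroup G).index := by
    rw [h1]; exact relIndex_dvd_index_of_le le_sup_left
  have hnd : ¬ p ∣ ((P : Subgroup G).subgroupOf N).index := fun hd => P.not_dvd_index
    (hd.trans h2)
  exact ⟨P.2.comap_subtype.toSylow hnd, rfl⟩

omit [Finite G] [Fact p.Prime] in
theorem commutatorElement_mem_of_controls_fusion (P : Sylow p G) {K Q : Subgroup G} [K.Normal]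
    (hQ : Q = K ⊓ (P : Subgroup G))
    (h : ∀ x ∈ P, ∀ y ∈ P, (∃ g : G, g * x * g⁻¹ = y) → ∃ z ∈ P, z * x * z⁻¹ = y)
    {x u : G} (hx : x ∈ Q) (hxu : ⁅x, u⁆ ∈ Q) : ⁅x, u⁆ ∈ ⁅Q, (P : Subgroup G)⁆ := by
  subst hQ
  have hy : u * x⁻¹ * u⁻¹ ∈ (P : Subgroup G) := by
    have := mul_mem (inv_mem (mem_inf.1 hx).2) (mem_inf.1 hxu).2
    simpa [commutatorElement_def, mul_assoc] using this
  obtain ⟨z, hz, hzu⟩ := h x⁻¹ (inv_mem (mem_inf.1 hx).2) _ hy ⟨u, rfl⟩
  have : ⁅x, u⁆ = ⁅x, z⁆ := by simp only [commutatorElement_def, mul_assoc] at hzu ⊢; rw [hzu]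
  rw [this]
  exact commutator_mem_commutator hx hz

/-- A Sylow subgroup controlling its own fusion has a normal complement. -/
theorem hasNormalPComplement_of_controls_fusion (P : Sylow p G)
    (h : ∀ x ∈ P, ∀ y ∈ P, (∃ g : G, g * x * g⁻¹ = y) → ∃ z ∈ P, z * x * z⁻¹ = y) :
    Cfsg.HasNormalPComplement p G := by
  have := pResidual_normal (G := G) (p := p)
  rw [hasNormalPComplement_iff_pResidual_inf_eq_bot P]
  have := P.2.isNilpotent
  set K := Cfsg.pResidual p G
  obtain ⟨S, hS⟩ := exists_sylow_eq_subgroupOf P K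
  -- `S` is its own focal subgroup, as `K = O^p(K)`
  have hfoc : (S : Subgroup K) ≤ (S : Subgroup K).focalSubgroup := by
    rw [← ker_transferFocal_inf_eq_focalSubgroup S]
    exact le_inf (fun x _ => eq_one_of_pResidual_eq_top _ (S.2.to_quotient _)
      pResidual_pResidual x) le_rfl
  have hmap : (S : Subgroup K).focalSubgroup.map K.subtype ≤
      ⁅K ⊓ (P : Subgroup G), (P : Subgroup G)⁆ := by
    rw [Subgroup.focalSubgroup, MonoidHom.map_closure, closure_le]
    rintro _ ⟨_, ⟨hmem, x, hx, u, rfl⟩, rfl⟩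
    rw [hS, mem_subgroupOf] at hx hmem
    rw [map_commutatorElement]
    exact commutatorElement_mem_of_controls_fusion P rfl h ⟨x.2, hx⟩
      ⟨by rw [← map_commutatorElement]; exact (⁅x, u⁆ : K).2,
        by rw [← map_commutatorElement]; exact hmem⟩
  refine eq_bot_of_le_commutator (K := (P : Subgroup G)) inf_le_right ?_
  refine le_trans ?_ hmap
  rintro x ⟨hxK, hxP⟩
  exact ⟨⟨x, hxK⟩, hfoc (by rw [hS]; exact hxP), rfl⟩

/-- The `p'`-elements of the normalizer of a `p`-subgroup centralize it, in a `p`-nilpotent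
normalizer. -/
theorem mem_centralizer_of_hasNormalPComplement {D : Subgroup G} (hD : IsPGroup p D)
    (h : Cfsg.HasNormalPComplement p (normalizer (D : Set G))) {g : G}
    (hg : g ∈ normalizer (D : Set G)) (hgp : (orderOf g).Coprime p) :
    g ∈ centralizer (D : Set G) := by
  set N := normalizer (D : Set G)
  have := pResidual_normal (G := N) (p := p)
  have := normal_in_normalizer (H := D)
  rw [hasNormalPComplement_iff_coprime_pResidual] at h
  have hbot : Disjoint (Cfsg.pResidual p N) (D.subgroupOf N) := by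
    rw [disjoint_iff, ← Subgroup.card_eq_one]
    obtain ⟨n, hn⟩ := (hD.comap_subtype (K := N)).exists_card_eq
    exact Nat.eq_one_of_dvd_coprimes (h.pow_right n) (card_dvd_of_le inf_le_left)
      (hn ▸ card_dvd_of_le inf_le_right)
  rw [mem_centralizer_iff]
  intro d hd
  exact congrArg Subtype.val (commute_of_normal_of_disjoint _ _ ‹_› ‹_› hbot ⟨g, hg⟩
    ⟨d, le_normalizer hd⟩ (mem_pResidual_of_coprime (by rw [Subgroup.orderOf_mk]; exact hgp))
    hd).symm

/-- **Frobenius' normal `p`-complement theorem**. -/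
theorem hasNormalPComplement_iff_frobenius :
    Cfsg.HasNormalPComplement p G ↔ ∀ D : Subgroup G, IsPGroup p D →
      ∀ g ∈ normalizer (D : Set G), (orderOf g).Coprime p → g ∈ centralizer (D : Set G) := by
  refine ⟨fun h D hD g hg hgp =>
    mem_centralizer_of_hasNormalPComplement hD (hasNormalPComplement_subgroup _ h) hg hgp,
    fun h => ?_⟩
  obtain ⟨P⟩ := (inferInstance : Nonempty (Sylow p G))
  exact hasNormalPComplement_of_controls_fusion P fun x hx y hy hxy =>
    exists_conj_eq_of_frobenius h P hx hy hxy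

/-- **Burnside's normal `p`-complement theorem**, in `HasNormalPComplement` form. -/
theorem hasNormalPComplement_of_normalizer_le_centralizer (P : Sylow p G)
    (h : normalizer ((P : Subgroup G) : Set G) ≤ centralizer ((P : Subgroup G) : Set G)) :
    Cfsg.HasNormalPComplement p G :=
  ⟨P, _, inferInstance, MonoidHom.ker_transferSylow_isComplement' P h⟩

end CfsgLib.Transfer
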