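import Cfsg.Prelude.Def_Transfer
import Mathlib.GroupTheory.Transfer
import Mathlib.GroupTheory.Focal
import Mathlib.GroupTheory.IndexNormal
import Mathlib.Tactic

/-!
# `O^p(G)` and normal `p`-complements: basic facts
-/

namespace CfsgLib.Transfer

open Subgroup
open scoped Pointwise

variable {G : Type*} [Group G] {p : ℕ}

theorem mem_pResidual_of_coprime {g : G} (h : (orderOf g).Coprime p) :
    g ∈ Cfsg.pResidual p G :=
  subset_closure h

theorem map_pResidual_le {H : Type*} [Group H] (f : G →* H) :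
    (Cfsg.pResidual p G).map f ≤ Cfsg.pResidual p H := by
  rw [Cfsg.pResidual, MonoidHom.map_closure, closure_le]
  rintro _ ⟨g, hg, rfl⟩
  exact subset_closure (Nat.Coprime.coprime_dvd_left (orderOf_map_dvd f g) hg)

theorem pResidual_characteristic : (Cfsg.pResidual p G).Characteristic :=
  characteristic_iff_map_le.2 fun e => map_pResidual_le e.toMonoidHom

theorem pResidual_normal : (Cfsg.pResidual p G).Normal := by
  have := pResidual_characteristic (G := G) (p := p); infer_instance

theorem pResidual_le_of_isPGroup_quotient [Fact p.Prime] {N : Subgroup G} [N.Normal]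
    (h : IsPGroup p (G ⧸ N)) : Cfsg.pResidual p G ≤ N := by
  rw [Cfsg.pResidual, closure_le]
  intro g hg
  have h1 : orderOf (g : G ⧸ N) ∣ orderOf g := orderOf_map_dvd (QuotientGroup.mk' N) g
  by_contra hne
  have : p ∣ orderOf (g : G ⧸ N) := h.dvd_orderOf fun h' => hne ((QuotientGroup.eq_one_iff g).1 h')
  exact (Fact.out : p.Prime).not_dvd_one (Nat.Coprime.eq_one_of_dvd (Nat.Coprime.symm hg) (this.trans h1) ▸ dvd_rfl)

theorem le_pResidual_of_coprime {N : Subgroup G} (h : (Nat.card N).Coprime p) :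
    N ≤ Cfsg.pResidual p G := fun g hg =>
  mem_pResidual_of_coprime (Nat.Coprime.coprime_dvd_left
    (N.orderOf_dvd_natCard hg) h)

section Finite

variable [Finite G] [Fact p.Prime]

/-- A `p'`-power exponent: for each `g` there is `m` prime to `p` and `k` with `g ^ (m * p ^ k) = 1`. -/
theorem isPGroup_quotient_of_coprime_mem {N : Subgroup G} [N.Normal]
    (h : ∀ g : G, (orderOf g).Coprime p → g ∈ N) : IsPGroup p (G ⧸ N) := by
  intro x
  obtain ⟨g, rfl⟩ := QuotientGroup.mk'_surjective N x
  obtain ⟨k, m, hm, hkm⟩ :=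
    Nat.exists_eq_pow_mul_and_not_dvd (orderOf_pos g).ne' p (Fact.out : p.Prime).ne_one
  refine ⟨k, ?_⟩
  rw [← map_pow, ← MonoidHom.mem_ker, QuotientGroup.ker_mk']
  apply h
  rw [orderOf_pow' g (pow_ne_zero _ (Fact.out : p.Prime).ne_zero),
    Nat.gcd_eq_right (hkm ▸ Dvd.intro m rfl), hkm,
    Nat.mul_div_cancel_left _ (pow_pos (Fact.out : p.Prime).pos k)]
  exact ((Nat.Prime.coprime_iff_not_dvd Fact.out).2 hm).symm

theorem isPGroup_quotient_of_pResidual_le {N : Subgroup G} [N.Normal]
    (h : Cfsg.pResidual p G ≤ N) : IsPGroup p (G ⧸ N) :=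
  isPGroup_quotient_of_coprime_mem fun _ hg => h (mem_pResidual_of_coprime hg)

theorem pResidual_index_eq_pow : ∃ n, (Cfsg.pResidual p G).index = p ^ n := by
  have := pResidual_normal (G := G) (p := p)
  rw [Subgroup.index_eq_card]
  exact IsPGroup.iff_card.1 (isPGroup_quotient_of_pResidual_le le_rfl)

theorem pResidual_le_iff {N : Subgroup G} [N.Normal] :
    Cfsg.pResidual p G ≤ N ↔ IsPGroup p (G ⧸ N) :=
  ⟨isPGroup_quotient_of_pResidual_le, pResidual_le_of_isPGroup_quotient⟩

omit [Finite G] in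
theorem pResidual_eq_of_coprime_isPGroup_quotient {N : Subgroup G} [N.Normal]
    (hc : (Nat.card N).Coprime p) (hq : IsPGroup p (G ⧸ N)) : Cfsg.pResidual p G = N :=
  le_antisymm (pResidual_le_of_isPGroup_quotient hq) (le_pResidual_of_coprime hc)

omit [Finite G] [Fact p.Prime] in
/-- `O^p(O^p(G)) = O^p(G)`. -/
theorem pResidual_pResidual :
    Cfsg.pResidual p (Cfsg.pResidual p G) = ⊤ := by
  rw [← map_subtype_inj, ← MonoidHom.range_eq_map, range_subtype]
  refine le_antisymm (map_subtype_le _) ?_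
  conv_lhs => rw [Cfsg.pResidual]
  rw [closure_le]
  intro g hg
  exact ⟨⟨g, mem_pResidual_of_coprime hg⟩,
    mem_pResidual_of_coprime (by rw [orderOf_mk]; exact hg), rfl⟩

omit [Finite G] in
/-- Homomorphisms to `p`-groups kill `O^p`. -/
theorem pResidual_le_ker {H : Type*} [Group H] (f : G →* H) (hH : IsPGroup p H) :
    Cfsg.pResidual p G ≤ f.ker :=
  pResidual_le_of_isPGroup_quotient ((hH.to_subgroup f.range).of_equiv
    (QuotientGroup.quotientKerEquivRange f).symm)

omit [Finite G] in
theorem eq_one_of_pResidual_eq_top {H : Type*} [Group H] (f : G →* H) (hH : IsPGroup p H)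
    (htop : Cfsg.pResidual p G = ⊤) (g : G) : f g = 1 :=
  pResidual_le_ker f hH (htop ▸ mem_top g)

/-- A normal subgroup with index a power of `p` together with a Sylow `p`-subgroup generates. -/
theorem sup_sylow_eq_top (P : Sylow p G) {N : Subgroup G} [N.Normal] {n : ℕ}
    (hn : N.index = p ^ n) : N ⊔ (P : Subgroup G) = ⊤ := by
  have h1 : (N ⊔ (P : Subgroup G)).index ∣ (P : Subgroup G).index := index_dvd_of_le le_sup_right
  have h2 : (N ⊔ (P : Subgroup G)).index ∣ p ^ n := hn ▸ index_dvd_of_le le_sup_left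
  rw [← index_eq_one]
  refine Nat.eq_one_of_dvd_coprimes ?_ h1 h2
  exact Nat.Coprime.pow_right n ((Nat.Prime.coprime_iff_not_dvd Fact.out).2 P.not_dvd_index).symm

theorem pResidual_sup_sylow (P : Sylow p G) :
    Cfsg.pResidual p G ⊔ (P : Subgroup G) = ⊤ := by
  have := pResidual_normal (G := G) (p := p)
  obtain ⟨n, hn⟩ := pResidual_index_eq_pow (G := G) (p := p)
  exact sup_sylow_eq_top P hn

/-- If a normal subgroup meets a Sylow `p`-subgroup trivially its order is prime to `p`. -/
theorem coprime_card_of_inf_sylow_eq_bot (P : Sylow p G) {N : Subgroup G} [N.Normal]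
    (h : N ⊓ (P : Subgroup G) = ⊥) : (Nat.card N).Coprime p := by
  rw [Nat.coprime_comm, Nat.Prime.coprime_iff_not_dvd Fact.out]
  intro hdvd
  obtain ⟨x, hx⟩ := exists_prime_orderOf_dvd_card' (G := N) p hdvd
  have hxp : IsPGroup p (zpowers (x : G)) :=
    IsPGroup.of_card (n := 1) (by rw [Nat.card_zpowers, Subgroup.orderOf_coe, hx, pow_one])
  obtain ⟨Q, hQ⟩ := hxp.exists_le_sylow
  obtain ⟨g, rfl⟩ := MulAction.exists_smul_eq G P Q
  have hxQ := hQ (mem_zpowers (x : G))
  rw [Sylow.coe_subgroup_smul, Subgroup.mem_pointwise_smul_iff_inv_smul_mem] at hxQ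
  have : g⁻¹ * x * g ∈ N ⊓ (P : Subgroup G) :=
    ⟨by simpa using Normal.conj_mem ‹N.Normal› x x.2 g⁻¹,
      by simp [← map_inv, MulAut.smul_def] at hxQ; exact hxQ⟩
  rw [h, mem_bot] at this
  have : (x : G) = 1 := by
    have h' := congrArg (fun y => g * y * g⁻¹) this
    simpa [mul_assoc] using h'
  rw [OneMemClass.coe_eq_one] at this
  exact (Fact.out : p.Prime).ne_one (hx ▸ by rw [this, orderOf_one])

/-- `G` has a normal `p`-complement iff it has a normal `p'`-subgroup with `p`-group quotient. -/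
theorem hasNormalPComplement_iff_exists :
    Cfsg.HasNormalPComplement p G ↔
      ∃ N : Subgroup G, ∃ _ : N.Normal, (Nat.card N).Coprime p ∧ IsPGroup p (G ⧸ N) := by
  constructor
  · rintro ⟨P, N, hN, hc⟩
    refine ⟨N, hN, ?_, ?_⟩
    · exact coprime_card_of_inf_sylow_eq_bot P hc.disjoint.eq_bot
    · obtain ⟨n, hn⟩ := P.2.exists_card_eq
      exact IsPGroup.of_card (n := n)
        (by rw [← Subgroup.index_eq_card, hc.symm.index_eq_card]; exact hn)
  · rintro ⟨N, hN, hc, hq⟩
    obtain ⟨P⟩ := (inferInstance : Nonempty (Sylow p G))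
    obtain ⟨n, hn⟩ := P.2.exists_card_eq
    obtain ⟨m, hm⟩ := IsPGroup.iff_card.1 hq
    rw [← Subgroup.index_eq_card] at hm
    refine ⟨P, N, hN, isComplement'_of_disjoint_and_mul_eq_univ ?_ ?_⟩
    · rw [disjoint_iff, ← Subgroup.card_eq_one]
      exact Nat.eq_one_of_dvd_coprimes (hc.pow_right n) (card_dvd_of_le inf_le_left)
        (hn ▸ card_dvd_of_le inf_le_right)
    · rw [← normal_mul, sup_sylow_eq_top P hm, coe_top]

theorem hasNormalPComplement_iff_coprime_pResidual :
    Cfsg.HasNormalPComplement p G ↔ (Nat.card (Cfsg.pResidual p G)).Coprime p := by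
  have := pResidual_normal (G := G) (p := p)
  rw [hasNormalPComplement_iff_exists]
  constructor
  · rintro ⟨N, hN, hc, hq⟩
    rwa [pResidual_eq_of_coprime_isPGroup_quotient hc hq]
  · intro h
    exact ⟨_, inferInstance, h, isPGroup_quotient_of_pResidual_le le_rfl⟩

theorem hasNormalPComplement_iff_pResidual_inf_eq_bot (P : Sylow p G) :
    Cfsg.HasNormalPComplement p G ↔ Cfsg.pResidual p G ⊓ (P : Subgroup G) = ⊥ := by
  have := pResidual_normal (G := G) (p := p)
  rw [hasNormalPComplement_iff_coprime_pResidual]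
  refine ⟨fun h => ?_, coprime_card_of_inf_sylow_eq_bot P⟩
  obtain ⟨n, hn⟩ := P.2.exists_card_eq
  rw [← Subgroup.card_eq_one]
  exact Nat.eq_one_of_dvd_coprimes (h.pow_right n) (card_dvd_of_le inf_le_left)
    (hn ▸ card_dvd_of_le inf_le_right)

theorem hasNormalPComplement_iff_exists_isComplement' (P : Sylow p G) :
    Cfsg.HasNormalPComplement p G ↔
      ∃ N : Subgroup G, N.Normal ∧ N.IsComplement' (P : Subgroup G) := by
  refine ⟨fun h => ?_, fun ⟨N, hN, hc⟩ => ⟨P, N, hN, hc⟩⟩
  have := pResidual_normal (G := G) (p := p)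
  rw [hasNormalPComplement_iff_pResidual_inf_eq_bot P] at h
  refine ⟨_, this, isComplement'_of_disjoint_and_mul_eq_univ (disjoint_iff.2 h) ?_⟩
  rw [← normal_mul, pResidual_sup_sylow, coe_top]

/-- In a group with a normal `p`-complement, the `p'`-elements form the complement. -/
theorem mem_pResidual_iff (h : Cfsg.HasNormalPComplement p G) (g : G) :
    g ∈ Cfsg.pResidual p G ↔ (orderOf g).Coprime p := by
  rw [hasNormalPComplement_iff_coprime_pResidual] at h
  exact ⟨fun hg => h.coprime_dvd_left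
    ((Cfsg.pResidual p G).orderOf_dvd_natCard hg),
    mem_pResidual_of_coprime⟩

theorem hasNormalPComplement_of_injective {H : Type*} [Group H] [Finite H]
    (f : H →* G) (hf : Function.Injective f) (h : Cfsg.HasNormalPComplement p G) :
    Cfsg.HasNormalPComplement p H := by
  rw [hasNormalPComplement_iff_coprime_pResidual] at h ⊢
  refine h.coprime_dvd_left ?_
  rw [← Subgroup.card_map_of_injective hf]
  exact card_dvd_of_le (map_pResidual_le f)

theorem hasNormalPComplement_subgroup (H : Subgroup G) (h : Cfsg.HasNormalPComplement p G) :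
    Cfsg.HasNormalPComplement p H :=
  hasNormalPComplement_of_injective H.subtype H.subtype_injective h

theorem hasNormalPComplement_of_surjective {H : Type*} [Group H] [Finite H]
    (f : G →* H) (hf : Function.Surjective f) (h : Cfsg.HasNormalPComplement p G) :
    Cfsg.HasNormalPComplement p H := by
  obtain ⟨N, hN, hc, hq⟩ := hasNormalPComplement_iff_exists.1 h
  refine hasNormalPComplement_iff_exists.2 ⟨N.map f, hN.map f hf,
    hc.coprime_dvd_left (card_map_dvd N f), ?_⟩
  have := hN.map f hf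
  exact hq.of_surjective (QuotientGroup.map N (N.map f) f (le_comap_map f N))
    (fun x => by
      obtain ⟨y, rfl⟩ := QuotientGroup.mk'_surjective _ x
      obtain ⟨g, rfl⟩ := hf y
      exact ⟨g, rfl⟩)

end Finite

end CfsgLib.Transfer
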