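import Mathlib.GroupTheory.Nilpotent
import Mathlib.GroupTheory.PGroup
import Mathlib.GroupTheory.Frattini
import Mathlib.GroupTheory.Sylow
import Mathlib.Data.Nat.Choose.Dvd
import Mathlib.Tactic

/-!
# Commutator calculus in groups of class two, and Frattini subgroups of `p`-groups
-/

namespace CfsgLib.Transfer

open Subgroup
open scoped commutatorElement

variable {G : Type*} [Group G]

/-- Class at most two: all commutators are central. -/
theorem commutatorElement_mem_center_of_class_two
    (h : ⁅_root_.commutator G, (⊤ : Subgroup G)⁆ = ⊥) (x y : G) : ⁅x, y⁆ ∈ center G := by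
  rw [mem_center_iff]
  intro g
  have := commutator_mem_commutator
    (commutator_mem_commutator (mem_top x) (mem_top y)) (mem_top g)
  rw [← commutator_def, h, mem_bot, commutatorElement_eq_one_iff_mul_comm] at this
  exact this.symm

theorem class_two_of_commutator_le_center (h : _root_.commutator G ≤ center G) :
    ⁅_root_.commutator G, (⊤ : Subgroup G)⁆ = ⊥ := by
  rw [commutator_eq_bot_iff_le_centralizer, coe_top, centralizer_univ]
  exact h

section ClassTwo

variable (hc : ∀ x y : G, ⁅x, y⁆ ∈ center G)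
include hc

theorem commutatorElement_mul_left (x y z : G) : ⁅x * y, z⁆ = ⁅x, z⁆ * ⁅y, z⁆ := by
  have h := mem_center_iff.1 (hc y z)
  calc ⁅x * y, z⁆ = x * ⁅y, z⁆ * x⁻¹ * ⁅x, z⁆ := by
        simp only [commutatorElement_def]; group
    _ = ⁅x, z⁆ * ⁅y, z⁆ := by rw [h x, mul_assoc, mul_assoc, ← mul_assoc x, mul_inv_cancel, one_mul, h]

theorem commutatorElement_mul_right (x y z : G) : ⁅x, y * z⁆ = ⁅x, y⁆ * ⁅x, z⁆ := by
  have h := mem_center_iff.1 (hc x z)
  calc ⁅x, y * z⁆ = ⁅x, y⁆ * (y * ⁅x, z⁆ * y⁻¹) := by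
        simp only [commutatorElement_def]; group
    _ = ⁅x, y⁆ * ⁅x, z⁆ := by rw [h y, mul_inv_cancel_right]

theorem commutatorElement_pow_left (x y : G) (n : ℕ) : ⁅x ^ n, y⁆ = ⁅x, y⁆ ^ n := by
  induction n with
  | zero => simp
  | succ n ih => rw [pow_succ, commutatorElement_mul_left hc, ih, pow_succ]

theorem commutatorElement_pow_right (x y : G) (n : ℕ) : ⁅x, y ^ n⁆ = ⁅x, y⁆ ^ n := by
  induction n with
  | zero => simp
  | succ n ih => rw [pow_succ, commutatorElement_mul_right hc, ih, pow_succ]

omit hc in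
theorem mul_comm_eq_commutatorElement (x y : G) : y * x = ⁅y, x⁆ * (x * y) := by
  simp only [commutatorElement_def]; group

/-- `(xy)^n = x^n y^n [y,x]^(n choose 2)` in class two. -/
theorem mul_pow_class_two (x y : G) (n : ℕ) :
    (x * y) ^ n = x ^ n * y ^ n * ⁅y, x⁆ ^ n.choose 2 := by
  induction n with
  | zero => simp
  | succ n ih =>
    have h := mem_center_iff.1 (hc y x)
    have hk : Commute (x * y) (⁅y, x⁆ ^ n.choose 2) := (Commute.pow_right (h (x * y)) _)
    have hyx : y ^ n * x = ⁅y, x⁆ ^ n * (x * y ^ n) := by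
      rw [mul_comm_eq_commutatorElement x (y ^ n), commutatorElement_pow_left hc]
    calc (x * y) ^ (n + 1) = x ^ n * (y ^ n * x) * y * ⁅y, x⁆ ^ n.choose 2 := by
          rw [pow_succ, ih, mul_assoc _ _ (x * y), ← hk.eq]
          simp only [mul_assoc]
      _ = x ^ n * x * (y ^ n * y) * (⁅y, x⁆ ^ n * ⁅y, x⁆ ^ n.choose 2) := by
          rw [hyx, ← (Commute.pow_right (h (x * y ^ n)) n).eq]
          simp only [mul_assoc]
          rw [← mul_assoc (⁅y, x⁆ ^ n) y, ← (Commute.pow_right (h y) n).eq]
          simp only [mul_assoc]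
      _ = x ^ (n + 1) * y ^ (n + 1) * ⁅y, x⁆ ^ (n + 1).choose 2 := by
          rw [← pow_succ, ← pow_succ, ← pow_add, Nat.choose_succ_succ, Nat.choose_one_right]

theorem mul_pow_prime_class_two {p : ℕ} (hp : p.Prime) (hp2 : p ≠ 2) (x y : G)
    (h : ⁅y, x⁆ ^ p = 1) : (x * y) ^ p = x ^ p * y ^ p := by
  rw [mul_pow_class_two hc]
  obtain ⟨k, hk⟩ := Nat.Prime.dvd_choose_self hp (k := 2) (by norm_num) (lt_of_le_of_ne hp.two_le (Ne.symm hp2))
  rw [hk, pow_mul, h, one_pow, mul_one]

end ClassTwo

/-- For odd `p`, the elements of order dividing `p` form a subgroup in a group of class two. -/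
theorem pow_eq_one_of_mem_closure_class_two {p : ℕ} (hp : p.Prime) (hp2 : p ≠ 2)
    (hc : ∀ x y : G, ⁅x, y⁆ ∈ center G) {g : G} (hg : g ∈ closure {x : G | x ^ p = 1}) :
    g ^ p = 1 := by
  induction hg using closure_induction with
  | mem x hx => exact hx
  | one => exact one_pow p
  | mul x y _ _ hx hy =>
    rw [mul_pow_prime_class_two hc hp hp2 x y
      (by rw [← commutatorElement_pow_left hc, hy, commutatorElement_one_left]), hx, hy, one_mul]
  | inv x _ hx => rw [inv_pow, hx, inv_one]

section Frattini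

variable [Finite G] {p : ℕ} [Fact p.Prime] (hG : IsPGroup p G)
include hG

/-- Maximal subgroups of a `p`-group are normal of index `p`. -/
theorem coatom_index_eq_prime {M : Subgroup G} (hM : IsCoatom M) : M.Normal ∧ M.index = p := by
  have hnil := hG.isNilpotent
  have hN : M.Normal := by
    rw [← normalizer_eq_top_iff]
    refine hM.2 _ (lt_of_le_of_ne le_normalizer fun h => hM.1 ?_)
    by_contra hne
    exact (Group.normalizerCondition_of_isNilpotent _ (lt_top_iff_ne_top.2 hne)).ne h
  refine ⟨hN, ?_⟩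
  obtain ⟨n, hn⟩ := IsPGroup.iff_card.1 (hG.to_quotient M)
  rw [← index_eq_card] at hn
  rcases n with _ | n
  · exact absurd (index_eq_one.1 (by simpa using hn)) hM.1
  have : Nontrivial (G ⧸ M) := by
    rw [← Finite.one_lt_card_iff_nontrivial, ← index_eq_card, hn]
    exact Nat.one_lt_pow n.succ_ne_zero (Fact.out : p.Prime).one_lt
  obtain ⟨x, hx⟩ := exists_prime_orderOf_dvd_card' (G := G ⧸ M) p
    (by rw [← index_eq_card, hn]; exact dvd_pow_self p n.succ_ne_zero)
  have hlt : M < (zpowers x).comap (QuotientGroup.mk' M) := by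
    refine lt_of_le_of_ne ?_ fun h => ?_
    · intro m hm
      rw [mem_comap, QuotientGroup.mk'_apply, (QuotientGroup.eq_one_iff m).2 hm]
      exact one_mem _
    · have h1 := congrArg (Subgroup.map (QuotientGroup.mk' M)) h
      rw [map_comap_eq_self_of_surjective (QuotientGroup.mk'_surjective M),
        QuotientGroup.map_mk'_self, eq_comm, zpowers_eq_bot] at h1
      exact (Fact.out : p.Prime).ne_one (hx ▸ by rw [h1, orderOf_one])
  have htop := hM.2 _ hlt
  have hz : zpowers x = ⊤ := by
    rw [← map_comap_eq_self_of_surjective (QuotientGroup.mk'_surjective M) (zpowers x), htop,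
      map_top_of_surjective _ (QuotientGroup.mk'_surjective M)]
  rw [index_eq_card, ← card_top, ← hz, Nat.card_zpowers, hx]

/-- `p`-th powers lie in the Frattini subgroup. -/
theorem pow_mem_frattini (x : G) : x ^ p ∈ frattini G := by
  rw [frattini, Order.radical, mem_iInf]
  intro M
  rw [mem_iInf]
  intro hM
  obtain ⟨hN, hi⟩ := coatom_index_eq_prime hG hM
  rw [← hi]
  exact M.pow_index_mem x

theorem commutatorElement_mem_frattini (x y : G) : ⁅x, y⁆ ∈ frattini G := by
  rw [frattini, Order.radical, mem_iInf]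
  intro M
  rw [mem_iInf]
  intro hM
  obtain ⟨hN, hi⟩ := coatom_index_eq_prime hG hM
  have : IsCyclic (G ⧸ M) := isCyclic_of_prime_card (p := p) (by rw [← index_eq_card]; exact hi)
  let _ : CommGroup (G ⧸ M) := IsCyclic.commGroup
  rw [← QuotientGroup.eq_one_iff, ← QuotientGroup.mk'_apply, map_commutatorElement]
  exact commutatorElement_eq_one_iff_mul_comm.2 (mul_comm _ _)

theorem commutator_le_frattini_pgroup : _root_.commutator G ≤ frattini G := by
  rw [commutator_def, commutator_le]
  exact fun x _ y _ => commutatorElement_mem_frattini hG x y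

end Frattini

end CfsgLib.Transfer
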