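import Cfsg.Agent.Lib.Transfer.PGroupNormal
import Cfsg.Agent.Lib.Transfer.ClassTwo

/-!
# Automorphisms of order prime to `p` of `p`-groups
-/

namespace CfsgLib.Transfer

open Subgroup
open scoped commutatorElement

section
variable {G : Type*} [Group G] [Finite G] {p : ℕ} [Fact p.Prime]

/-- A normal subgroup with elementary abelian quotient contains the Frattini subgroup. -/
theorem frattini_le_of_elementary_quotient (N : Subgroup G) [N.Normal]
    (hc : ∀ x y : G, ⁅x, y⁆ ∈ N) (hp : ∀ x : G, x ^ p ∈ N) : frattini G ≤ N := by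
  intro y hy
  by_contra hyN
  set ρ := QuotientGroup.mk' N
  let _ : CommGroup (G ⧸ N) :=
    { (inferInstance : Group (G ⧸ N)) with
      mul_comm := fun a b => by
        obtain ⟨a, rfl⟩ := QuotientGroup.mk'_surjective N a
        obtain ⟨b, rfl⟩ := QuotientGroup.mk'_surjective N b
        have h2 : ρ ⁅a, b⁆ = 1 := (QuotientGroup.eq_one_iff _).2 (hc a b)
        rwa [map_commutatorElement, commutatorElement_eq_one_iff_mul_comm] at h2 }
  have hpow : ∀ q : G ⧸ N, q ^ p = 1 := fun q => by
    obtain ⟨a, rfl⟩ := QuotientGroup.mk'_surjective N q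
    rw [← map_pow]
    exact (QuotientGroup.eq_one_iff _).2 (hp a)
  obtain ⟨B, hB⟩ := CfsgLib.Solvable.exists_isCompl_of_pow_eq_one hpow (zpowers (ρ y))
  have hBne : B ≠ ⊤ := fun h => by
    have h' := hB.inf_eq_bot
    rw [h, inf_top_eq, zpowers_eq_bot, QuotientGroup.mk'_apply, QuotientGroup.eq_one_iff] at h'
    exact hyN h'
  obtain ⟨M, hM, hle⟩ := (eq_top_or_exists_le_coatom (B.comap ρ)).resolve_left
    fun h => hBne (by
      rw [← map_comap_eq_self_of_surjective (QuotientGroup.mk'_surjective N) B, h,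
        map_top_of_surjective _ (QuotientGroup.mk'_surjective N)])
  have hyM : y ∈ M := frattini_le_coatom hM hy
  apply hM.1
  refine top_le_iff.1 fun a _ => ?_
  have ha : ρ a ∈ zpowers (ρ y) ⊔ B := hB.sup_eq_top ▸ mem_top _
  obtain ⟨u, hu, b, hb, hub⟩ := mem_sup.1 ha
  obtain ⟨k, rfl⟩ := mem_zpowers_iff.1 hu
  have h1 : ρ ((y ^ k)⁻¹ * a) = b := by rw [map_mul, map_inv, map_zpow, ← hub, inv_mul_cancel_left]
  have h2 : (y ^ k)⁻¹ * a ∈ M := hle (show ρ _ ∈ B from h1 ▸ hb)
  simpa using mul_mem (zpow_mem hyM k) h2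

omit [Finite G] in
/-- An element fixed together with its conjugates commutes with all `x⁻¹ * a x`. -/
theorem commute_of_conj_fixed (a : MulAut G) {x f : G} (hf : a f = f)
    (hxf : a (x * f * x⁻¹) = x * f * x⁻¹) : Commute (x⁻¹ * a x) f := by
  rw [map_mul, map_mul, map_inv, hf] at hxf
  show x⁻¹ * a x * f = f * (x⁻¹ * a x)
  calc x⁻¹ * a x * f = x⁻¹ * (a x * f * (a x)⁻¹) * a x := by group
    _ = _ := by rw [hxf]; group

/-- An automorphism of order prime to `p` stabilizing a series of length two is trivial. -/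
theorem apply_eq_self_of_fixed_quotient (hG : IsPGroup p G) (a : MulAut G)
    (ha : (orderOf a).Coprime p) {x : G} (h : a (x⁻¹ * a x) = x⁻¹ * a x) : a x = x := by
  have hk : ∀ k : ℕ, (a ^ k) x = x * (x⁻¹ * a x) ^ k := by
    intro k
    induction k with
    | zero => simp
    | succ k ih =>
      have hck : (a ^ k) (x⁻¹ * a x) = x⁻¹ * a x := by
        clear ih
        induction k with
        | zero => rfl
        | succ k ih => rw [pow_succ, MulAut.mul_apply, h, ih]
      have h3 : (a ^ k) (a x) = (a ^ k) x * (a ^ k) (x⁻¹ * a x) := by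
        rw [← map_mul, mul_inv_cancel_left]
      rw [pow_succ, MulAut.mul_apply, h3, hck, ih, pow_succ, mul_assoc]
  have h1 := hk (orderOf a)
  rw [pow_orderOf_eq_one, MulAut.one_apply, left_eq_mul] at h1
  obtain ⟨n, hn⟩ := IsPGroup.iff_orderOf.1 hG (x⁻¹ * a x)
  have h2 : orderOf (x⁻¹ * a x) = 1 := Nat.eq_one_of_dvd_coprimes (ha.pow_right n)
    (orderOf_dvd_of_pow_eq_one h1) hn.dvd
  rw [orderOf_eq_one_iff, inv_mul_eq_one] at h2
  exact h2.symm

/-- For odd `p`, an automorphism of order prime to `p` fixing every element of order `p` is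
trivial. -/
theorem eq_one_of_fixes_omega_one (hp : p ≠ 2) (hG : IsPGroup p G) (a : MulAut G)
    (ha : (orderOf a).Coprime p) (h : ∀ x : G, x ^ p = 1 → a x = x) : a = 1 := by
  have hpp := (Fact.out : p.Prime)
  suffices key : ∀ n : ℕ, ∀ H : Subgroup G, Nat.card H = n → (∀ x ∈ H, a x ∈ H) →
      ∀ x ∈ H, a x = x by
    ext x
    exact key _ ⊤ rfl (fun x _ => mem_top _) x (mem_top x)
  intro n
  induction n using Nat.strong_induction_on with
  | _ n ih =>
    intro H hn hinv
    have lt : ∀ K : Subgroup G, K < H → Nat.card K < n := fun K hK => hn ▸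
      lt_of_le_of_ne (card_le_of_le hK.le) fun e => hK.ne (eq_of_le_of_card_ge hK.le e.ge)
    set C := closure {c : G | ∃ x ∈ H, c = x⁻¹ * a x}
    have hCH : C ≤ H := (closure_le _).2 (by
      rintro _ ⟨x, hx, rfl⟩; exact mul_mem (inv_mem hx) (hinv x hx))
    rcases hCH.lt_or_eq with hC | hC
    · have hfix := ih _ (lt C hC) C rfl (fun c hc => by
        have h1 : C.map a.toMonoidHom ≤ C := by
          rw [MonoidHom.map_closure, closure_le]
          rintro _ ⟨_, ⟨x, hx, rfl⟩, rfl⟩
          exact subset_closure ⟨a x, hinv x hx, by simp⟩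
        exact h1 (mem_map_of_mem _ hc))
      intro x hx
      exact apply_eq_self_of_fixed_quotient hG a ha (hfix _ (subset_closure ⟨x, hx, rfl⟩))
    set S : Set G := {f | (∃ x ∈ H, ∃ y ∈ H, f = ⁅x, y⁆) ∨ ∃ x ∈ H, f = x ^ p}
    set D := closure S
    intro x₀ hx₀
    by_cases hH : H = ⊥
    · rw [hH, mem_bot] at hx₀
      rw [hx₀, map_one]
    have hDlt : D < H := by
      have hHp := hG.to_subgroup H
      have hne : frattini H ≠ ⊤ := by
        have := H.nontrivial_iff_ne_bot.2 hH
        obtain ⟨M, hM, -⟩ := (eq_top_or_exists_le_coatom (⊥ : Subgroup H)).resolve_left bot_ne_top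
        exact fun e => hM.1 (top_le_iff.1 (e ▸ frattini_le_coatom hM))
      have hle : D ≤ (frattini H).map H.subtype := (closure_le _).2 (by
        rintro _ (⟨x, hx, y, hy, rfl⟩ | ⟨x, hx, rfl⟩)
        · exact ⟨_, commutatorElement_mem_frattini hHp ⟨x, hx⟩ ⟨y, hy⟩,
            map_commutatorElement H.subtype _ _⟩
        · exact ⟨_, pow_mem_frattini hHp ⟨x, hx⟩, rfl⟩)
      refine lt_of_le_of_ne (hle.trans (map_subtype_le _)) fun e => hne ?_
      refine eq_top_of_card_eq _ (le_antisymm (card_le_card_group _) ?_)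
      rw [← card_map_of_injective (K := frattini H) (f := H.subtype) H.subtype_injective]
      exact card_le_of_le (e ▸ hle)
    have hDfix := ih _ (lt D hDlt) D rfl (fun d hd => by
      have h1 : D.map a.toMonoidHom ≤ D := by
        rw [MonoidHom.map_closure, closure_le]
        rintro _ ⟨_, (⟨x, hx, y, hy, rfl⟩ | ⟨x, hx, rfl⟩), rfl⟩
        · exact subset_closure (Or.inl ⟨a x, hinv x hx, a y, hinv y hy, map_commutatorElement _ _ _⟩)
        · exact subset_closure (Or.inr ⟨a x, hinv x hx, map_pow _ _ _⟩)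
      exact h1 (mem_map_of_mem _ hd))
    have hcen : ∀ f ∈ D, ∀ z ∈ H, Commute z f := by
      intro f hf z hz
      refine closure_induction (p := fun z _ => Commute z f) ?_ (Commute.one_left f)
        (fun _ _ _ _ => Commute.mul_left) (fun _ _ => Commute.inv_left) (hC.ge hz : z ∈ C)
      rintro _ ⟨x, hx, rfl⟩
      refine commute_of_conj_fixed a (hDfix f hf) (hDfix _ ?_)
      have h2 : ⁅x, f⁆ ∈ D := subset_closure (Or.inl ⟨x, hx, f, hDlt.le hf, rfl⟩)
      simpa [commutatorElement_def, mul_assoc] using mul_mem h2 hf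
    have hcl : ∀ u v : H, ⁅u, v⁆ ∈ center H := fun u v => mem_center_iff.2 fun w => Subtype.ext
      (hcen _ (subset_closure (Or.inl ⟨u, u.2, v, v.2, map_commutatorElement H.subtype u v⟩)) w w.2).eq
    have hcp : ∀ u v : H, ⁅u, v⁆ ^ p = 1 := fun u v => by
      rw [← commutatorElement_pow_left hcl, commutatorElement_eq_one_iff_mul_comm]
      exact Subtype.ext (hcen _ (subset_closure (Or.inr ⟨u, u.2, rfl⟩)) v v.2).eq.symm
    suffices hall : ∀ z ∈ C, ∀ hz : z ∈ H, (⟨z, hz⟩ : H) ^ p = 1 by
      exact h x₀ (congrArg Subtype.val (hall x₀ (hC.ge hx₀) hx₀))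
    intro z hz
    induction hz using closure_induction with
    | mem z hz =>
      obtain ⟨x, hx, rfl⟩ := hz
      intro hz'
      rw [show (⟨x⁻¹ * a x, hz'⟩ : H) = (⟨x, hx⟩ : H)⁻¹ * ⟨a x, hinv x hx⟩ from rfl,
        mul_pow_prime_class_two hcl hpp hp _ _ (hcp _ _)]
      refine Subtype.ext ?_
      show x⁻¹ ^ p * a x ^ p = 1
      rw [← map_pow, hDfix _ (subset_closure (Or.inr ⟨x, hx, rfl⟩)), inv_pow, inv_mul_cancel]
    | one => intro _; exact Subtype.ext (one_pow p)
    | mul u v hu hv ihu ihv =>
      intro huv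
      rw [show (⟨u * v, huv⟩ : H) = ⟨u, hC.le hu⟩ * ⟨v, hC.le hv⟩ from rfl,
        mul_pow_prime_class_two hcl hpp hp _ _ (hcp _ _), ihu, ihv, one_mul]
    | inv u hu ihu =>
      intro hu'
      rw [show (⟨u⁻¹, hu'⟩ : H) = (⟨u, hC.le hu⟩ : H)⁻¹ from rfl, inv_pow, ihu, inv_one]

/-- A coprime group `A` of automorphisms of a `p`-group `G` with `G = [G, A]` fixing every
characteristic abelian subgroup pointwise makes `G` special, with centre the fixed points. -/
theorem isSpecial_of_fixes_char_abelian (hG : IsPGroup p G) (A : Subgroup (MulAut G))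
    (hA : (Nat.card A).Coprime p)
    (hGA : Subgroup.closure {x : G | ∃ g : G, ∃ a ∈ A, x = g⁻¹ * a g} = ⊤)
    (hchar : ∀ H : Subgroup G, H.Characteristic → IsMulCommutative H → ∀ a ∈ A, ∀ h ∈ H, a h = h) :
    Cfsg.IsSpecial p G ∧ (∀ g : G, g ∈ center G ↔ ∀ a ∈ A, a g = g) := by
  classical
  set Z := center G
  -- fixed normal subgroups are central
  have hcentral : ∀ K : Subgroup G, K.Normal → (∀ a ∈ A, ∀ k ∈ K, a k = k) → K ≤ Z := by
    intro K hK hfix k hk
    rw [mem_center_iff]
    intro z
    refine (closure_induction (p := fun z _ => Commute z k) ?_ (Commute.one_left k)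
      (fun _ _ _ _ => Commute.mul_left) (fun _ _ => Commute.inv_left)
      (hGA.symm ▸ mem_top z : z ∈ Subgroup.closure _)).eq
    rintro _ ⟨x, a, ha, rfl⟩
    exact commute_of_conj_fixed a (hfix a ha k hk) (hfix a ha _ (hK.conj_mem k hk x))
  -- `G` has class at most two
  have hclass : _root_.commutator G ≤ Z := by
    by_contra hne
    set K : Subgroup G :=
      _root_.commutator G ⊓ (center (G ⧸ Z)).comap (QuotientGroup.mk' Z)
    have hmemK : ∀ z, z ∈ K ↔ z ∈ _root_.commutator G ∧ ∀ g : G, ⁅z, g⁆ ∈ Z := by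
      intro z
      rw [mem_inf, mem_comap, mem_center_iff]
      refine and_congr_right fun _ => ⟨fun h g => ?_, fun h q => ?_⟩
      · rw [← QuotientGroup.eq_one_iff]
        exact (map_commutatorElement (QuotientGroup.mk' Z) z g).trans
          (commutatorElement_eq_one_iff_mul_comm.2 (h _).symm)
      · obtain ⟨g, rfl⟩ := QuotientGroup.mk'_surjective Z q
        refine (commutatorElement_eq_one_iff_mul_comm.1 ?_).symm
        rw [← map_commutatorElement]
        exact (QuotientGroup.eq_one_iff _).2 (h g)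
    have hKch : K.Characteristic := by
      rw [characteristic_iff_map_le]
      rintro φ _ ⟨z, hz, rfl⟩
      obtain ⟨h1, h2⟩ := (hmemK z).1 hz
      refine (hmemK _).2 ⟨characteristic_iff_map_le.1 inferInstance φ (mem_map_of_mem _ h1),
        fun g => ?_⟩
      have h3 := characteristic_iff_map_le.1 (inferInstance : Z.Characteristic) φ
        (mem_map_of_mem φ.toMonoidHom (h2 (φ.symm g)))
      simpa [map_commutatorElement] using h3
    have hKab : IsMulCommutative K := by
      refine ⟨⟨fun u v => Subtype.ext ?_⟩⟩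
      obtain ⟨-, h2⟩ := (hmemK u).1 u.2
      obtain ⟨h1, -⟩ := (hmemK v).1 v.2
      let f : G →* Z :=
        { toFun := fun g => ⟨⁅(u : G), g⁆, h2 g⟩
          map_one' := Subtype.ext (commutatorElement_one_right _)
          map_mul' := fun g k => Subtype.ext <| by
            show ⁅(u : G), g * k⁆ = ⁅(u : G), g⁆ * ⁅(u : G), k⁆
            have e : ⁅(u : G), g * k⁆ = ⁅(u : G), g⁆ * (g * ⁅(u : G), k⁆ * g⁻¹) := by
              simp [commutatorElement_def, mul_assoc]
            rw [e, mem_center_iff.1 (h2 k) g, mul_inv_cancel_right] }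
      have hker : _root_.commutator G ≤ f.ker := by
        rw [commutator_def, commutator_le]
        intro g _ k _
        rw [MonoidHom.mem_ker, map_commutatorElement, commutatorElement_eq_one_iff_mul_comm]
        exact Subtype.ext (mem_center_iff.1 (f k).2 _)
      exact commutatorElement_eq_one_iff_mul_comm.1 (congrArg Subtype.val
        (MonoidHom.mem_ker.1 (hker h1)))
    have hKZ : K ≤ Z := hcentral K inferInstance fun a ha k hk => hchar K hKch hKab a ha k hk
    obtain ⟨x, hx, hxM, hxc⟩ := CfsgLib.OddLocal.exists_central_mod hG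
      (_root_.commutator G ⊓ Z) (_root_.commutator G)
      (lt_of_le_of_ne inf_le_left fun e => hne (e ▸ inf_le_right))
    refine hxM ⟨hx, hKZ ((hmemK x).2 ⟨hx, fun g => ?_⟩)⟩
    have h1 := inv_mem (mem_inf.1 (hxc g)).2
    simpa [commutatorElement_def, mul_assoc] using h1
  have hcl : ∀ u v : G, ⁅u, v⁆ ∈ center G := fun u v =>
    hclass (commutator_mem_commutator (mem_top u) (mem_top v))
  have hZfix : ∀ a ∈ A, ∀ z ∈ Z, a z = z :=
    hchar Z inferInstance inferInstance
  -- fixed points lie in the derived group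
  have : Fintype A := Fintype.ofFinite A
  have hfixed : ∀ g : G, (∀ a ∈ A, a g = g) → g ∈ _root_.commutator G := by
    intro g hg
    let N : G →* Abelianization G :=
      { toFun := fun x => ∏ a : A, Abelianization.of ((a : MulAut G) x)
        map_one' := by simp
        map_mul' := fun x y => by simp [Finset.prod_mul_distrib] }
    have hN : N = 1 := by
      refine MonoidHom.eq_of_eqOn_dense hGA ?_
      rintro _ ⟨x, a, ha, rfl⟩
      rw [map_mul, map_inv, MonoidHom.one_apply, inv_mul_eq_one]
      exact (Fintype.prod_equiv (Equiv.mulRight (⟨a, ha⟩ : A))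
        (fun b : A => Abelianization.of ((b : MulAut G) (a x)))
        (fun b : A => Abelianization.of ((b : MulAut G) x)) (fun b => rfl)).symm
    have h1 : Abelianization.of g ^ Nat.card A = 1 := by
      have h2 : N g = 1 := by rw [hN, MonoidHom.one_apply]
      have h3 : N g = ∏ _a : A, Abelianization.of g :=
        Finset.prod_congr rfl fun a _ => by rw [hg a a.2]
      rw [h3, Finset.prod_const, Finset.card_univ, ← Nat.card_eq_fintype_card] at h2
      exact h2
    obtain ⟨n, hn⟩ := IsPGroup.iff_orderOf.1 hG g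
    have h4 : orderOf (Abelianization.of g) = 1 := Nat.eq_one_of_dvd_coprimes (hA.pow_right n)
      (orderOf_dvd_of_pow_eq_one h1) ((orderOf_map_dvd _ g).trans hn.dvd)
    rw [orderOf_eq_one_iff] at h4
    exact (Abelianization.ker_of G).le (MonoidHom.mem_ker.2 h4)
  have hcomm : _root_.commutator G = Z :=
    le_antisymm hclass fun z hz => hfixed z fun a ha => hZfix a ha z hz
  -- `G / Z` has exponent `p`
  have hexp : ∀ k : ℕ, (∀ x : G, x ^ p ^ (k + 1) ∈ Z) → ∀ x : G, x ^ p ∈ Z := by
    intro k
    induction k with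
    | zero => intro h x; simpa using h x
    | succ k ih =>
      intro h
      refine ih fun x => ?_
      set q := p ^ (k + 1)
      set H := closure ((Z : Set G) ∪ Set.range fun y : G => y ^ q)
      have hHab : IsMulCommutative H := by
        refine isMulCommutative_closure ?_
        rintro u (hu | ⟨u, rfl⟩) v (hv | ⟨v, rfl⟩)
        · exact mem_center_iff.1 hv u
        · exact (mem_center_iff.1 hu _).symm
        · exact mem_center_iff.1 hv _
        · refine commutatorElement_eq_one_iff_mul_comm.1 ?_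
          show ⁅u ^ q, v ^ q⁆ = 1
          rw [commutatorElement_pow_left hcl, commutatorElement_pow_right hcl, ← pow_mul,
            show q * q = p ^ (k + 1 + 1) * p ^ k by simp [q, ← pow_add]; ring_nf, pow_mul,
            ← commutatorElement_pow_left hcl,
            commutatorElement_eq_one_iff_mul_comm.2 (mem_center_iff.1 (h u) v).symm, one_pow]
      have hHch : H.Characteristic := by
        rw [characteristic_iff_map_le]
        intro φ
        rw [MonoidHom.map_closure, closure_le]
        rintro _ ⟨u, (hu | ⟨u, rfl⟩), rfl⟩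
        · exact subset_closure (Or.inl
            (characteristic_iff_map_le.1 (inferInstance : Z.Characteristic) φ (mem_map_of_mem _ hu)))
        · exact subset_closure (Or.inr ⟨φ u, (map_pow φ.toMonoidHom u q).symm⟩)
      rw [← hcomm]
      exact hfixed _ fun a ha => hchar H hHch hHab a ha _ (subset_closure (Or.inr ⟨x, rfl⟩))
  obtain ⟨n, hn⟩ := hG.exists_card_eq
  have hpow : ∀ x : G, x ^ p ∈ Z := hexp n fun x => by
    rw [pow_succ, pow_mul, ← hn, pow_card_eq_one', one_pow]
    exact one_mem _
  refine ⟨⟨hG, le_antisymm (frattini_le_of_elementary_quotient Z hcl hpow) ?_, hcomm⟩,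
    fun g => ⟨fun hg a ha => hZfix a ha g hg, fun hg => hclass (hfixed g hg)⟩⟩
  exact hcomm.ge.trans (commutator_le_frattini_pgroup hG)

end

end CfsgLib.Transfer
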