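import Cfsg.Agent.Lib.Transfer.Extraspecial

/-!
# Classification of extraspecial groups by order
-/

namespace CfsgLib.Transfer

open Subgroup
open scoped commutatorElement

section Extend

variable {E F : Type*} [Group E] [Finite E] [Group F] [Finite F] {p : ℕ}

/-- An isomorphism `H' ≃ K'` extends along matching pairs `x, y` and `x', y'`. -/
theorem exists_extend_iso (hp : 0 < p) {H H' : Subgroup E} {K K' : Subgroup F} (φ : H' ≃* K')
    (hH' : H' ≤ H) (hK' : K' ≤ K)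
    {x y : E} {x' y' : F} (hx : x ∈ H) (hy : y ∈ H) (hx' : x' ∈ K) (hy' : y' ∈ K)
    (hcH : ∀ h ∈ H', Commute x h ∧ Commute y h) (hcK : ∀ k ∈ K', Commute x' k ∧ Commute y' k)
    (hgenH : ∀ g ∈ H, ∃ a b : ℕ, ∃ h ∈ H', g = x ^ a * y ^ b * h)
    (hgenK : ∀ g ∈ K, ∃ a b : ℕ, ∃ h ∈ K', g = x' ^ a * y' ^ b * h)
    (hrelH : H'.relIndex H = p ^ 2) (hrelK : K'.relIndex K = p ^ 2)
    (u v w : H') (hu : (u : E) = x ^ p) (hv : (v : E) = y ^ p) (hw : y * x = x * y * w)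
    (hu' : (φ u : F) = x' ^ p) (hv' : (φ v : F) = y' ^ p) (hw' : y' * x' = x' * y' * φ w) :
    Nonempty (H ≃* K) := by
  classical
  let Γ : H' →* E × F := H'.subtype.prod (K'.subtype.comp φ.toMonoidHom)
  let X : E × F := (x, x')
  let Y : E × F := (y, y')
  let R : Subgroup (E × F) := closure (Set.range Γ ∪ {X, Y})
  have hXN : ∀ h, Commute X (Γ h) := fun h =>
    Prod.ext (hcH h h.2).1.eq (hcK _ (φ h).2).1.eq
  have hYN : ∀ h, Commute Y (Γ h) := fun h =>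
    Prod.ext (hcH h h.2).2.eq (hcK _ (φ h).2).2.eq
  have hW : Y * X = X * Y * Γ w := Prod.ext hw hw'
  have hXp : X ^ p = Γ u := Prod.ext hu.symm hu'.symm
  have hYp : Y ^ p = Γ v := Prod.ext hv.symm hv'.symm
  have hYX : ∀ b : ℕ, Y ^ b * X = X * Y ^ b * Γ (w ^ b) := by
    intro b
    induction b with
    | zero => simp
    | succ b ih =>
      calc Y ^ (b + 1) * X = Y * (Y ^ b * X) := by rw [pow_succ', mul_assoc]
        _ = (Y * X) * Y ^ b * Γ (w ^ b) := by rw [ih]; group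
        _ = X * Y * (Γ w * Y ^ b) * Γ (w ^ b) := by rw [hW]; group
        _ = X * Y * (Y ^ b * Γ w) * Γ (w ^ b) := by rw [((hYN w).pow_left b).eq]
        _ = X * Y ^ (b + 1) * Γ (w ^ (b + 1)) := by
          rw [pow_succ' Y, pow_succ' w, map_mul]; group
  have hXR : X ∈ R := Subgroup.subset_closure (Or.inr (Or.inl rfl))
  have hYR : Y ∈ R := Subgroup.subset_closure (Or.inr (Or.inr rfl))
  have hΓR : ∀ h, Γ h ∈ R := fun h => Subgroup.subset_closure (Or.inl ⟨h, rfl⟩)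
  have hform : ∀ g ∈ R, ∃ a b : ℕ, ∃ h, g = X ^ a * Y ^ b * Γ h := by
    intro g hg
    rw [← mem_toSubmonoid, closure_toSubmonoid_of_finite] at hg
    induction hg using Submonoid.closure_induction_right with
    | one => exact ⟨0, 0, 1, by simp⟩
    | mul_right z _ s hs ih =>
      obtain ⟨a, b, h, rfl⟩ := ih
      rcases hs with ⟨k, rfl⟩ | rfl | rfl
      · exact ⟨a, b, h * k, by rw [map_mul, mul_assoc]⟩
      · refine ⟨a + 1, b, w ^ b * h, ?_⟩
        rw [mul_assoc, ← (hXN h).eq, ← mul_assoc, mul_assoc (X ^ a), hYX, pow_succ, map_mul]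
        group
      · exact ⟨a, b + 1, h, by rw [mul_assoc, ← (hYN h).eq, ← mul_assoc, pow_succ (M := E × F), mul_assoc (X ^ a)]⟩
  have hcard : Nat.card R ≤ p * (p * Nat.card H') := by
    let f : Fin p × Fin p × H' → R := fun t =>
      ⟨X ^ (t.1 : ℕ) * Y ^ (t.2.1 : ℕ) * Γ t.2.2,
        mul_mem (mul_mem (pow_mem hXR _)
          (pow_mem hYR _))
          (hΓR _)⟩
    have hf : Function.Surjective f := by
      rintro ⟨g, hg⟩
      obtain ⟨a, b, h, rfl⟩ := hform g hg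
      refine ⟨(⟨a % p, Nat.mod_lt a hp⟩, ⟨b % p, Nat.mod_lt b hp⟩,
        u ^ (a / p) * v ^ (b / p) * h), Subtype.ext ?_⟩
      show X ^ (a % p) * Y ^ (b % p) * Γ (u ^ (a / p) * v ^ (b / p) * h) = X ^ a * Y ^ b * Γ h
      conv_rhs => rw [← Nat.mod_add_div a p, ← Nat.mod_add_div b p]
      rw [pow_add X, pow_add Y, pow_mul X, pow_mul Y, hXp, hYp, ← map_pow, ← map_pow, map_mul, map_mul]
      have e := ((hYN (u ^ (a / p))).pow_left (b % p)).eq
      calc X ^ (a % p) * Y ^ (b % p) * (Γ (u ^ (a / p)) * Γ (v ^ (b / p)) * Γ h)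
          = X ^ (a % p) * (Y ^ (b % p) * Γ (u ^ (a / p))) * Γ (v ^ (b / p)) * Γ h := by group
        _ = _ := by rw [e]; group
    calc Nat.card R ≤ Nat.card (Fin p × Fin p × H') := Nat.card_le_card_of_surjective f hf
      _ = _ := by rw [Nat.card_prod, Nat.card_prod, Nat.card_fin]
  have hle : R ≤ H.prod K := (closure_le _).2 (by
    rintro _ (⟨h, rfl⟩ | rfl | rfl)
    · exact ⟨hH' h.2, hK' (φ h).2⟩
    · exact ⟨hx, hx'⟩
    · exact ⟨hy, hy'⟩)
  let fH : R →* H :=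
    MonoidHom.codRestrict ((MonoidHom.fst E F).comp R.subtype) H fun r => (hle r.2).1
  let fK : R →* K :=
    MonoidHom.codRestrict ((MonoidHom.snd E F).comp R.subtype) K fun r => (hle r.2).2
  have sH : Function.Surjective fH := by
    rintro ⟨g, hg⟩
    obtain ⟨a, b, h, hh, rfl⟩ := hgenH g hg
    exact ⟨⟨X ^ a * Y ^ b * Γ ⟨h, hh⟩, mul_mem (mul_mem
      (pow_mem hXR _)
      (pow_mem hYR _))
      (hΓR _)⟩, Subtype.ext rfl⟩
  have sK : Function.Surjective fK := by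
    rintro ⟨g, hg⟩
    obtain ⟨a, b, h, hh, rfl⟩ := hgenK g hg
    refine ⟨⟨X ^ a * Y ^ b * Γ (φ.symm ⟨h, hh⟩), mul_mem (mul_mem
      (pow_mem hXR _)
      (pow_mem hYR _))
      (hΓR _)⟩, Subtype.ext ?_⟩
    show x' ^ a * y' ^ b * (φ (φ.symm ⟨h, hh⟩) : F) = _
    rw [φ.apply_symm_apply]
  have cH : Nat.card H = p * (p * Nat.card H') := by
    have h1 := relIndex_mul_relIndex ⊥ H' H bot_le hH'
    rw [relIndex_bot_left, relIndex_bot_left, hrelH] at h1
    rw [← h1]; ring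
  have cK : Nat.card K = p * (p * Nat.card H') := by
    have h1 := relIndex_mul_relIndex ⊥ K' K bot_le hK'
    rw [relIndex_bot_left, relIndex_bot_left, hrelK, ← Nat.card_congr φ.toEquiv] at h1
    rw [← h1]; ring
  have bH := (Nat.bijective_iff_surjective_and_card fH).2
    ⟨sH, le_antisymm (hcard.trans cH.ge) (Nat.card_le_card_of_surjective fH sH)⟩
  have bK := (Nat.bijective_iff_surjective_and_card fK).2
    ⟨sK, le_antisymm (hcard.trans cK.ge) (Nat.card_le_card_of_surjective fK sK)⟩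
  exact ⟨(MulEquiv.ofBijective fH bH).symm.trans (MulEquiv.ofBijective fK bK)⟩

end Extend

section Classify

variable {E F : Type*} [Group E] [Finite E] [Group F] [Finite F] {p : ℕ} [Fact p.Prime]

omit [Finite E] [Finite F] [Fact p.Prime] in
theorem esGood_iso_center {H : Subgroup E} {K : Subgroup F} (hH : IsEsGood H) (hK : IsEsGood K)
    (φ : H ≃* K) (z : H) (hz : (z : E) ∈ center E) : (φ z : F) ∈ center F := by
  rw [← hK.2]
  refine ⟨(φ z).2, mem_centralizer_iff.2 fun k hk => ?_⟩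
  obtain ⟨h, rfl⟩ : ∃ h, (φ h : F) = k := ⟨φ.symm ⟨k, hk⟩, by simp⟩
  have := congrArg φ (Subtype.ext (mem_center_iff.1 hz h) : h * z = z * h)
  rw [map_mul, map_mul] at this
  exact congrArg Subtype.val this

omit [Finite E] in
theorem esGood_centralize {H : Subgroup E} {x y h : E}
    (hh : h ∈ H ⊓ centralizer ({x, y} : Set E)) : Commute x h ∧ Commute y h :=
  ⟨mem_centralizer_iff.1 hh.2 x (Set.mem_insert _ _),
    mem_centralizer_iff.1 hh.2 y (Set.mem_insert_of_mem _ rfl)⟩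

omit [Finite E] [Fact p.Prime] in
theorem esGood_swap (h : Cfsg.IsExtraspecial p E) (x y : E) : y * x = x * y * ⁅y, x⁆ := by
  rw [mul_comm_eq_commutatorElement x y]
  exact (mem_center_iff.1 (special_commutatorElement_mem_center h.1 y x) _).symm

theorem esGood_card_lt (h : Cfsg.IsExtraspecial p E) {H : Subgroup E} (hH : IsEsGood H) {x y : E}
    (hx : x ∈ H) (hy : y ∈ H) (hxy : ⁅x, y⁆ ≠ 1) :
    Nat.card H = p ^ 2 * Nat.card (H ⊓ centralizer ({x, y} : Set E) : Subgroup E) ∧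
      Nat.card (H ⊓ centralizer ({x, y} : Set E) : Subgroup E) < Nat.card H := by
  obtain ⟨-, -, hrel⟩ := hH.split h hx hy hxy
  have h1 := relIndex_mul_relIndex ⊥ _ H bot_le
    (inf_le_left : H ⊓ centralizer ({x, y} : Set E) ≤ H)
  rw [relIndex_bot_left, relIndex_bot_left, hrel] at h1
  refine ⟨by rw [← h1, mul_comm], ?_⟩
  rw [← h1]
  exact lt_mul_of_one_lt_right Nat.card_pos
    (Nat.one_lt_pow (by norm_num) (Fact.out : p.Prime).one_lt)

/-- Extension step inside two extraspecial groups. -/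
theorem esGood_extend (h₁ : Cfsg.IsExtraspecial p E) (h₂ : Cfsg.IsExtraspecial p F)
    {H : Subgroup E} {K : Subgroup F} (hH : IsEsGood H) (hK : IsEsGood K)
    {x y : E} {x' y' : F} (hx : x ∈ H) (hy : y ∈ H) (hxy : ⁅x, y⁆ ≠ 1) (hx' : x' ∈ K) (hy' : y' ∈ K)
    (hxy' : ⁅x', y'⁆ ≠ 1)
    (φ : (H ⊓ centralizer ({x, y} : Set E) : Subgroup E) ≃*
      (K ⊓ centralizer ({x', y'} : Set F) : Subgroup F))
    (hu : ∀ u : (H ⊓ centralizer ({x, y} : Set E) : Subgroup E), (u : E) = x ^ p → (φ u : F) = x' ^ p)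
    (hv : ∀ u : (H ⊓ centralizer ({x, y} : Set E) : Subgroup E), (u : E) = y ^ p → (φ u : F) = y' ^ p)
    (hw : ∀ u : (H ⊓ centralizer ({x, y} : Set E) : Subgroup E), (u : E) = ⁅y, x⁆ → (φ u : F) = ⁅y', x'⁆) : Nonempty (H ≃* K) := by
  obtain ⟨g₁, d₁, r₁⟩ := hH.split h₁ hx hy hxy
  obtain ⟨g₂, d₂, r₂⟩ := hK.split h₂ hx' hy' hxy'
  have hpow : ∀ g : E, g ^ p ∈ H ⊓ centralizer ({x, y} : Set E) := fun g =>
    g₁.1 (h₁.1.2.1 ▸ pow_mem_frattini h₁.1.1 g)
  exact exists_extend_iso (Fact.out : p.Prime).pos φ inf_le_left inf_le_left hx hy hx' hy'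
    (fun _ hh => esGood_centralize hh) (fun _ hh => esGood_centralize hh) d₁ d₂ r₁ r₂
    ⟨x ^ p, hpow x⟩ ⟨y ^ p, hpow y⟩
    ⟨⁅y, x⁆, g₁.1 (special_commutatorElement_mem_center h₁.1 y x)⟩ rfl rfl (esGood_swap h₁ x y)
    (hu _ rfl) (hv _ rfl) (by rw [hw _ rfl]; exact esGood_swap h₂ x' y')

/-- Extraspecial groups of exponent `p` are determined by their orders. -/
theorem esGood_iso_of_exponent (h₁ : Cfsg.IsExtraspecial p E) (h₂ : Cfsg.IsExtraspecial p F)
    (he₁ : ∀ g : E, g ^ p = 1) (he₂ : ∀ g : F, g ^ p = 1) :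
    ∀ (n : ℕ) (H : Subgroup E) (K : Subgroup F), IsEsGood H → IsEsGood K →
      Nat.card H = n → Nat.card K = n → Nonempty (H ≃* K) := by
  intro n
  induction n using Nat.strong_induction_on with
  | _ n ih => ?_
  intro H K hH hK cH cK
  by_cases hne : n = p
  · exact ⟨mulEquivOfPrimeCardEq (cH.trans hne) (cK.trans hne)⟩
  obtain ⟨x, hxH, hxZ⟩ := SetLike.exists_of_lt (lt_of_le_of_ne hH.1 fun e => hne (by
    rw [← cH, ← e, h₁.2]))
  obtain ⟨y, hyH, hxy⟩ := hH.exists_noncommuting hxH hxZ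
  obtain ⟨x', hxK, hxZ'⟩ := SetLike.exists_of_lt (lt_of_le_of_ne hK.1 fun e => hne (by
    rw [← cK, ← e, h₂.2]))
  obtain ⟨y₀, hyK, hxy₀⟩ := hK.exists_noncommuting hxK hxZ'
  obtain ⟨g₁, -, -⟩ := hH.split h₁ hxH hyH hxy
  obtain ⟨g₂, -, -⟩ := hK.split h₂ hxK hyK hxy₀
  obtain ⟨e₁, l₁⟩ := esGood_card_lt h₁ hH hxH hyH hxy
  obtain ⟨e₂, -⟩ := esGood_card_lt h₂ hK hxK hyK hxy₀
  have hc : Nat.card (K ⊓ centralizer ({x', y₀} : Set F) : Subgroup F) =
      Nat.card (H ⊓ centralizer ({x, y} : Set E) : Subgroup E) :=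
    Nat.eq_of_mul_eq_mul_left (pow_pos (Fact.out : p.Prime).pos 2)
      (e₂.symm.trans ((cK.trans cH.symm).trans e₁))
  obtain ⟨φ⟩ := ih _ (cH ▸ l₁) _ _ g₁ g₂ rfl hc
  have hz := special_commutatorElement_mem_center h₁.1 y x
  set w : (H ⊓ centralizer ({x, y} : Set E) : Subgroup E) := ⟨⁅y, x⁆, g₁.1 hz⟩
  have hw1 : (φ w : F) ≠ 1 := by
    intro e
    have : φ w = 1 := Subtype.ext e
    rw [EmbeddingLike.map_eq_one_iff] at this
    exact hxy (by rw [← commutatorElement_inv, show ⁅y, x⁆ = 1 from congrArg Subtype.val this, inv_one])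
  have hw0 : (φ w : F) ∈ center F := esGood_iso_center g₁ g₂ φ w hz
  have hne0 : ⁅y₀, x'⁆ ≠ 1 := fun e => hxy₀ (by rw [← commutatorElement_inv, e, inv_one])
  rw [extraspecial_center_eq_zpowers h₂ (special_commutatorElement_mem_center h₂.1 y₀ x') hne0,
    ← mem_powers_iff_mem_zpowers, Submonoid.mem_powers_iff] at hw0
  obtain ⟨k, hk⟩ := hw0
  rw [← commutatorElement_pow_left (special_commutatorElement_mem_center h₂.1)] at hk
  have hxy' : ⁅x', y₀ ^ k⁆ ≠ 1 := fun e => hw1 (by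
    rw [← hk, ← commutatorElement_inv, e, inv_one])
  have hyk : K ⊓ centralizer ({x', y₀} : Set F) = K ⊓ centralizer ({x', y₀ ^ k} : Set F) := by
    refine eq_of_le_of_card_ge (le_inf inf_le_left fun g hg => ?_) ?_
    · refine mem_centralizer_iff.2 ?_
      rintro _ (rfl | rfl)
      · exact (esGood_centralize hg).1
      · exact ((esGood_centralize hg).2.pow_left k).eq
    · obtain ⟨e₃, -⟩ := esGood_card_lt h₂ hK hxK (pow_mem hyK k) hxy'
      exact (Nat.eq_of_mul_eq_mul_left (pow_pos (Fact.out : p.Prime).pos 2) (e₃.symm.trans e₂)).le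
  refine esGood_extend h₁ h₂ hH hK hxH hyH hxy hxK (pow_mem hyK k) hxy'
    (φ.trans (MulEquiv.subgroupCongr hyk)) (fun u hu => ?_) (fun u hu => ?_) (fun u hu => ?_)
  · rw [he₁] at hu
    rw [he₂, show u = 1 from Subtype.ext hu, map_one]; rfl
  · rw [he₁] at hu
    rw [he₂, show u = 1 from Subtype.ext hu, map_one]; rfl
  · rw [Subtype.ext hu (a2 := w)]
    exact hk.symm

section Two

omit [Finite E] in
theorem es_two_central_eq (h : Cfsg.IsExtraspecial 2 E) {a b : E} (ha : a ∈ center E)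
    (hb : b ∈ center E) (ha1 : a ≠ 1) (hb1 : b ≠ 1) : a = b := by
  obtain ⟨z, -, huniq⟩ := (Nat.card_eq_two_iff' (1 : center E)).1 h.2
  exact congrArg Subtype.val ((huniq ⟨a, ha⟩ fun e => ha1 (congrArg Subtype.val e)).trans
    (huniq ⟨b, hb⟩ fun e => hb1 (congrArg Subtype.val e)).symm)

theorem es_two_sq_mem (h : Cfsg.IsExtraspecial 2 E) (g : E) : g ^ 2 ∈ center E :=
  h.1.2.1 ▸ pow_mem_frattini h.1.1 g

/-- A non-central involution of `H` lies in a dihedral factor. -/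
theorem es_two_dihedral_pair (h : Cfsg.IsExtraspecial 2 E) {H : Subgroup E} (hH : IsEsGood H)
    {x : E} (hx : x ∈ H) (hxZ : x ∉ center E) (hx2 : x ^ 2 = 1) :
    ∃ y ∈ H, ⁅x, y⁆ ≠ 1 ∧ y ^ 2 = 1 := by
  have : Fact (Nat.Prime 2) := ⟨Nat.prime_two⟩
  obtain ⟨y, hy, hxy⟩ := hH.exists_noncommuting hx hxZ
  by_cases hy2 : y ^ 2 = 1
  · exact ⟨y, hy, hxy, hy2⟩
  have hc := special_commutatorElement_mem_center h.1
  refine ⟨x * y, mul_mem hx hy, ?_, ?_⟩
  · rwa [commutatorElement_mul_right hc, commutatorElement_self, one_mul]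
  · have e : (x * y) ^ 2 = ⁅y, x⁆ * (x ^ 2 * y ^ 2) := by
      rw [pow_two, pow_two, pow_two, ← mul_assoc (x * y), mul_assoc x y x,
        mul_comm_eq_commutatorElement x y, ← mul_assoc x,
        mem_center_iff.1 (hc y x) x]
      group
    have hzy : ⁅y, x⁆ = y ^ 2 := es_two_central_eq h (hc y x) (es_two_sq_mem h y)
      (fun e => hxy (by rw [← commutatorElement_inv, e, inv_one])) hy2
    rw [e, hx2, one_mul, hzy, ← pow_two]
    exact special_center_pow h.1 (es_two_sq_mem h y)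

/-- Above order `8` there are non-central involutions. -/
theorem es_two_exists_involution (h : Cfsg.IsExtraspecial 2 E) {H : Subgroup E} (hH : IsEsGood H)
    (h8 : 8 < Nat.card H) : ∃ x ∈ H, x ∉ center E ∧ x ^ 2 = 1 := by
  have : Fact (Nat.Prime 2) := ⟨Nat.prime_two⟩
  by_contra! hno
  obtain ⟨x, hx, hxZ⟩ := SetLike.exists_of_lt (lt_of_le_of_ne hH.1 fun e => by
    rw [← e, h.2] at h8; omega)
  obtain ⟨y, hy, hxy⟩ := hH.exists_noncommuting hx hxZ
  obtain ⟨g, -, -⟩ := hH.split h hx hy hxy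
  obtain ⟨e₁, -⟩ := esGood_card_lt h hH hx hy hxy
  obtain ⟨x', hx', hx'Z⟩ := SetLike.exists_of_lt (lt_of_le_of_ne g.1 fun e => by
    rw [← e, h.2] at e₁; omega)
  have hz : x ^ 2 = x' ^ 2 := es_two_central_eq h (es_two_sq_mem h x) (es_two_sq_mem h x')
    (hno x hx hxZ) (hno x' hx'.1 hx'Z)
  refine hno (x * x') (mul_mem hx hx'.1) (fun hc => ?_) ?_
  · have hc' : ⁅x * x', y⁆ = 1 := commutatorElement_eq_one_iff_mul_comm.2
      (mem_center_iff.1 hc y).symm
    rw [commutatorElement_mul_left (special_commutatorElement_mem_center h.1),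
      commutatorElement_eq_one_iff_mul_comm.2 (esGood_centralize hx').2.eq.symm, mul_one] at hc'
    exact hxy hc'
  · rw [(esGood_centralize hx').1.mul_pow, hz, ← pow_two]
    exact special_center_pow h.1 (es_two_sq_mem h x')

/-- `(x, y)` is a pair of the given kind: dihedral (`b = true`) or quaternion. -/
def EsPair (H : Subgroup E) (b : Bool) (x y : E) : Prop :=
  x ∈ H ∧ y ∈ H ∧ ⁅x, y⁆ ≠ 1 ∧ (x ^ 2 = 1 ↔ b = true) ∧ (y ^ 2 = 1 ↔ b = true)

theorem es_two_exists_pair (h : Cfsg.IsExtraspecial 2 E) {H : Subgroup E} (hH : IsEsGood H)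
    (h2 : Nat.card H ≠ 2) :
    ∃ b x y, EsPair H b x y ∧ (8 < Nat.card H → b = true) := by
  by_cases hinv : ∃ x ∈ H, x ∉ center E ∧ x ^ 2 = 1
  · obtain ⟨x, hx, hxZ, hx2⟩ := hinv
    obtain ⟨y, hy, hxy, hy2⟩ := es_two_dihedral_pair h hH hx hxZ hx2
    exact ⟨true, x, y, ⟨hx, hy, hxy, by simp [hx2], by simp [hy2]⟩, fun _ => rfl⟩
  · obtain ⟨x, hx, hxZ⟩ := SetLike.exists_of_lt (lt_of_le_of_ne hH.1 fun e => h2 (by
      rw [← e, h.2]))
    obtain ⟨y, hy, hxy⟩ := hH.exists_noncommuting hx hxZ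
    have hyZ : y ∉ center E := fun hc =>
      hxy (commutatorElement_eq_one_iff_mul_comm.2 (mem_center_iff.1 hc x))
    push Not at hinv
    exact ⟨false, x, y, ⟨hx, hy, hxy, by simpa using hinv x hx hxZ, by simpa using hinv y hy hyZ⟩,
      fun h8 => by
        obtain ⟨a, ha, haZ, ha2⟩ := es_two_exists_involution h hH h8
        exact absurd ha2 (hinv a ha haZ)⟩

theorem es_two_extend (h₁ : Cfsg.IsExtraspecial 2 E) (h₂ : Cfsg.IsExtraspecial 2 F)
    {H : Subgroup E} {K : Subgroup F} (hH : IsEsGood H) (hK : IsEsGood K) {b : Bool}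
    {x y : E} {x' y' : F} (P : EsPair H b x y) (Q : EsPair K b x' y')
    (e : Nonempty ((H ⊓ centralizer ({x, y} : Set E) : Subgroup E) ≃*
      (K ⊓ centralizer ({x', y'} : Set F) : Subgroup F))) : Nonempty (H ≃* K) := by
  have : Fact (Nat.Prime 2) := ⟨Nat.prime_two⟩
  obtain ⟨φ⟩ := e
  obtain ⟨hx, hy, hxy, hxb, hyb⟩ := P
  obtain ⟨hx', hy', hxy', hxb', hyb'⟩ := Q
  obtain ⟨g₁, -, -⟩ := hH.split h₁ hx hy hxy
  obtain ⟨g₂, -, -⟩ := hK.split h₂ hx' hy' hxy'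
  have key : ∀ (u : (H ⊓ centralizer ({x, y} : Set E) : Subgroup E)) (t : E) (s : F),
      (u : E) = t → t ∈ center E → s ∈ center F → (t = 1 ↔ s = 1) → (φ u : F) = s := by
    intro u t s hu ht hs hiff
    have himg : (φ u : F) ∈ center F := esGood_iso_center g₁ g₂ φ u (hu.symm ▸ ht)
    by_cases ht1 : t = 1
    · rw [show u = 1 from Subtype.ext (hu.trans ht1), map_one, hiff.1 ht1]; rfl
    · refine es_two_central_eq h₂ himg hs (fun e1 => ht1 ?_) (fun e1 => ht1 (hiff.2 e1))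
      have : φ u = 1 := Subtype.ext e1
      rw [EmbeddingLike.map_eq_one_iff] at this
      rw [← hu, this]; rfl
  refine esGood_extend h₁ h₂ hH hK hx hy hxy hx' hy' hxy' φ (fun u hu => ?_) (fun u hu => ?_)
    (fun u hu => ?_)
  · exact key u _ _ hu (es_two_sq_mem h₁ x) (es_two_sq_mem h₂ x') (hxb.trans hxb'.symm)
  · exact key u _ _ hu (es_two_sq_mem h₁ y) (es_two_sq_mem h₂ y') (hyb.trans hyb'.symm)
  · refine key u _ _ hu (special_commutatorElement_mem_center h₁.1 y x)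
      (special_commutatorElement_mem_center h₂.1 y' x') (iff_of_false ?_ ?_)
    · exact fun e => hxy (by rw [← commutatorElement_inv, e, inv_one])
    · exact fun e => hxy' (by rw [← commutatorElement_inv, e, inv_one])

/-- Among three good subgroups of equal order in extraspecial 2-groups, two are isomorphic. -/
theorem esGood_two_of_three {D : Type*} [Group D] [Finite D]
    (h₁ : Cfsg.IsExtraspecial 2 E) (h₂ : Cfsg.IsExtraspecial 2 F) (h₃ : Cfsg.IsExtraspecial 2 D) :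
    ∀ (n : ℕ) (H : Subgroup E) (K : Subgroup F) (L : Subgroup D),
      IsEsGood H → IsEsGood K → IsEsGood L → Nat.card H = n → Nat.card K = n → Nat.card L = n →
      Nonempty (H ≃* K) ∨ Nonempty (K ≃* L) ∨ Nonempty (H ≃* L) := by
  have : Fact (Nat.Prime 2) := ⟨Nat.prime_two⟩
  intro n
  induction n using Nat.strong_induction_on with
  | _ n ih => ?_
  intro H K L hH hK hL cH cK cL
  by_cases hn2 : n = 2
  · exact Or.inl ⟨mulEquivOfPrimeCardEq (p := 2) (cH.trans hn2) (cK.trans hn2)⟩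
  obtain ⟨b₁, x₁, y₁, P₁, t₁⟩ := es_two_exists_pair h₁ hH (by omega)
  obtain ⟨b₂, x₂, y₂, P₂, t₂⟩ := es_two_exists_pair h₂ hK (by omega)
  obtain ⟨b₃, x₃, y₃, P₃, t₃⟩ := es_two_exists_pair h₃ hL (by omega)
  obtain ⟨g₁, -, -⟩ := hH.split h₁ P₁.1 P₁.2.1 P₁.2.2.1
  obtain ⟨g₂, -, -⟩ := hK.split h₂ P₂.1 P₂.2.1 P₂.2.2.1
  obtain ⟨g₃, -, -⟩ := hL.split h₃ P₃.1 P₃.2.1 P₃.2.2.1
  obtain ⟨e₁, l₁⟩ := esGood_card_lt h₁ hH P₁.1 P₁.2.1 P₁.2.2.1
  obtain ⟨e₂, -⟩ := esGood_card_lt h₂ hK P₂.1 P₂.2.1 P₂.2.2.1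
  obtain ⟨e₃, -⟩ := esGood_card_lt h₃ hL P₃.1 P₃.2.1 P₃.2.2.1
  rw [cH] at e₁
  rw [cK] at e₂
  rw [cL] at e₃
  by_cases h8 : 8 < n
  · obtain rfl := t₁ (by omega)
    obtain rfl := t₂ (by omega)
    obtain rfl := t₃ (by omega)
    rcases ih _ (cH ▸ l₁) _ _ _ g₁ g₂ g₃ rfl (by omega) (by omega) with e | e | e
    · exact Or.inl (es_two_extend h₁ h₂ hH hK P₁ P₂ e)
    · exact Or.inr (Or.inl (es_two_extend h₂ h₃ hK hL P₂ P₃ e))
    · exact Or.inr (Or.inr (es_two_extend h₁ h₃ hH hL P₁ P₃ e))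
  · have small : ∀ m : ℕ, 0 < m → n = 2 ^ 2 * m → 2 ∣ m → m = 2 := fun m h0 hm hd => by
      obtain ⟨c, rfl⟩ := hd
      omega
    have c₁ := small _ Nat.card_pos e₁ (h₁.2 ▸ card_dvd_of_le g₁.1)
    have c₂ := small _ Nat.card_pos e₂ (h₂.2 ▸ card_dvd_of_le g₂.1)
    have c₃ := small _ Nat.card_pos e₃ (h₃.2 ▸ card_dvd_of_le g₃.1)
    by_cases h12 : b₁ = b₂
    · subst h12
      exact Or.inl (es_two_extend h₁ h₂ hH hK P₁ P₂ ⟨mulEquivOfPrimeCardEq (p := 2) c₁ c₂⟩)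
    by_cases h23 : b₂ = b₃
    · subst h23
      exact Or.inr (Or.inl (es_two_extend h₂ h₃ hK hL P₂ P₃ ⟨mulEquivOfPrimeCardEq (p := 2) c₂ c₃⟩))
    obtain rfl : b₁ = b₃ := by revert h12 h23; clear * - b₁ b₂ b₃; revert b₁ b₂ b₃; decide
    exact Or.inr (Or.inr (es_two_extend h₁ h₃ hH hL P₁ P₃ ⟨mulEquivOfPrimeCardEq (p := 2) c₁ c₃⟩))

end Two
end Classify

end CfsgLib.Transfer
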