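import Cfsg.Agent.Lib.Transfer.ClassTwo
import Mathlib.NumberTheory.Multiplicity
import Mathlib.GroupTheory.IndexNormal

/-!
# `p`-groups with a cyclic subgroup of index `p`, `p` odd
-/

namespace CfsgLib.Transfer

open Subgroup
open scoped commutatorElement

/-- If `p` is an odd prime and `p ^ m ∣ k ^ p - 1` with `p ∣ k - 1`, then `p ^ m ∣ (k - 1) * p`. -/
theorem pow_dvd_sub_one_mul_of_pow_dvd {p : ℕ} (hp : p.Prime) (hp2 : p ≠ 2) {k : ℤ} {m : ℕ}
    (h1 : (p : ℤ) ∣ k - 1) (h : (p : ℤ) ^ m ∣ k ^ p - 1) : (p : ℤ) ^ m ∣ (k - 1) * p := by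
  obtain ⟨b, hb⟩ := h1
  obtain ⟨t, ht⟩ := odd_sq_dvd_geom_sum₂_sub (a := (1 : ℤ)) (b := b) (hp.odd_of_ne_two hp2)
  simp only [one_pow, mul_one] at ht
  have hS : (∑ i ∈ Finset.range p, (1 + (p : ℤ) * b) ^ i) = p * (1 + p * t) := by
    linear_combination ht
  have hk : k = 1 + p * b := by linarith
  have hgeom : k ^ p - 1 = (k - 1) * p * (1 + p * t) := by
    rw [← geom_sum_mul k p, hk, hS]; ring
  rw [hgeom] at h
  refine (IsCoprime.pow_left ⟨-t, 1, by ring⟩ : IsCoprime ((p : ℤ) ^ m) (1 + p * t)).dvd_of_dvd_mul_right h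

variable {R : Type*} [Group R] [Finite R] {p : ℕ} [Fact p.Prime]

/-- For `p` odd, a `p`-group with a cyclic subgroup of index `p` has central commutators of order
dividing `p`. -/
theorem commutator_of_cyclic_maximal (hp : p ≠ 2) (hR : IsPGroup p R) (C : Subgroup R)
    (hC : IsCyclic C) (hCi : C.index = p) (x y : R) :
    ⁅x, y⁆ ∈ center R ∧ ⁅x, y⁆ ^ p = 1 := by
  have hpp := (Fact.out : p.Prime)
  obtain ⟨n, hn⟩ := hR.exists_card_eq
  have hn0 : n ≠ 0 := by
    rintro rfl
    have h1 := C.index_dvd_card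
    rw [hCi, hn, pow_zero, Nat.dvd_one] at h1
    exact hpp.ne_one h1
  have hCn : C.Normal := C.normal_of_index_eq_minFac_card
    (by rw [hCi, hn, hpp.pow_minFac hn0])
  obtain ⟨a, ha⟩ := isCyclic_iff_exists_zpowers_eq_top.1 hC
  have hmem : ∀ c ∈ C, ∃ i : ℤ, (a : R) ^ i = c := by
    intro c hc
    obtain ⟨i, hi⟩ := mem_zpowers_iff.1 (ha ▸ mem_top (⟨c, hc⟩ : C))
    exact ⟨i, by rw [← Subgroup.coe_zpow, hi]⟩
  let Z0 : Subgroup R :=
    { carrier := {z | z ∈ C ∧ z ∈ center R ∧ z ^ p = 1}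
      one_mem' := ⟨one_mem _, one_mem _, one_pow p⟩
      mul_mem' := fun {u v} hu hv => ⟨mul_mem hu.1 hv.1, mul_mem hu.2.1 hv.2.1, by
        rw [(show Commute u v from (mem_center_iff.1 hu.2.1 v).symm).mul_pow, hu.2.2, hv.2.2, one_mul]⟩
      inv_mem' := fun {u} hu => ⟨inv_mem hu.1, inv_mem hu.2.1, by rw [inv_pow, hu.2.2, inv_one]⟩ }
  have : Z0.Normal := ⟨fun z hz g => by
    rwa [mem_center_iff.1 hz.2.1 g, mul_inv_cancel_right]⟩
  have haC : ∀ r : R, ⁅r, (a : R)⁆ ∈ Z0 := by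
    intro r
    obtain ⟨k, hk⟩ := hmem _ (hCn.conj_mem _ a.2 r)
    have hit : ∀ j : ℕ, r ^ j * a * (r ^ j)⁻¹ = (a : R) ^ (k ^ j) := by
      intro j
      induction j with
      | zero => simp
      | succ j ih =>
        calc r ^ (j + 1) * a * (r ^ (j + 1))⁻¹ = r * (r ^ j * a * (r ^ j)⁻¹) * r⁻¹ := by
              rw [pow_succ', mul_inv_rev]; simp only [mul_assoc]
          _ = (a : R) ^ (k ^ (j + 1)) := by
              rw [ih, ← conj_zpow, ← hk, ← zpow_mul, ← pow_succ']
    obtain ⟨i, hi⟩ := hmem _ (show r ^ p ∈ C by simpa [hCi] using C.pow_index_mem r)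
    have hkp : (a : R) ^ (k ^ p - 1) = 1 := by
      rw [zpow_sub_one, ← hit p, ← hi]
      group
    have hd : ∀ j : ℤ, (a : R) ^ j = 1 ↔ ((orderOf (a : R) : ℕ) : ℤ) ∣ j :=
      fun j => (orderOf_dvd_iff_zpow_eq_one).symm
    obtain ⟨m, hm⟩ : ∃ m, orderOf (a : R) = p ^ m := by
      obtain ⟨m, _, hm⟩ := (Nat.dvd_prime_pow hpp).1 (hn ▸ orderOf_dvd_natCard (a : R))
      exact ⟨m, hm⟩
    have hcomm : ⁅r, (a : R)⁆ = (a : R) ^ (k - 1) := by
      rw [commutatorElement_def, ← hk, zpow_sub_one]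
    by_cases hm0 : m = 0
    · have ha1 : (a : R) = 1 := orderOf_eq_one_iff.1 (by rw [hm, hm0, pow_zero])
      simp [ha1]
    have hp1 : (p : ℤ) ∣ k - 1 := by
      have h1 : (p : ℤ) ∣ k ^ p - 1 := by
        refine dvd_trans ?_ ((hd _).1 hkp)
        rw [hm]; push_cast; exact dvd_pow_self _ hm0
      rw [← ZMod.intCast_zmod_eq_zero_iff_dvd] at h1 ⊢
      push_cast at h1 ⊢
      rwa [ZMod.pow_card] at h1
    have hmul : (a : R) ^ ((k - 1) * p) = 1 := by
      rw [hd, hm]; push_cast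
      exact pow_dvd_sub_one_mul_of_pow_dvd hpp hp hp1 (by
        simpa [hm] using (hd _).1 hkp)
    have hpow : ((a : R) ^ (k - 1)) ^ p = 1 := by
      rw [← zpow_natCast, ← zpow_mul, hmul]
    rw [hcomm]
    refine ⟨zpow_mem a.2 _, ?_, hpow⟩
    -- every element of order `p` in `C` is central
    rw [mem_center_iff]
    intro g
    obtain ⟨k', hk'⟩ := hmem _ (hCn.conj_mem _ a.2 g)
    obtain ⟨i', hi'⟩ := hmem _ (show g ^ p ∈ C by simpa [hCi] using C.pow_index_mem g)
    have hkp' : (a : R) ^ (k' ^ p - 1) = 1 := by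
      have hit' : ∀ j : ℕ, g ^ j * a * (g ^ j)⁻¹ = (a : R) ^ (k' ^ j) := by
        intro j
        induction j with
        | zero => simp
        | succ j ih =>
          calc g ^ (j + 1) * a * (g ^ (j + 1))⁻¹ = g * (g ^ j * a * (g ^ j)⁻¹) * g⁻¹ := by
                rw [pow_succ', mul_inv_rev]; simp only [mul_assoc]
            _ = (a : R) ^ (k' ^ (j + 1)) := by
                rw [ih, ← conj_zpow, ← hk', ← zpow_mul, ← pow_succ']
      rw [zpow_sub_one, ← hit' p, ← hi']
      group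
    have hp1' : (p : ℤ) ∣ k' - 1 := by
      have h1 : (p : ℤ) ∣ k' ^ p - 1 := by
        refine dvd_trans ?_ ((hd _).1 hkp')
        rw [hm]; push_cast; exact dvd_pow_self _ hm0
      rw [← ZMod.intCast_zmod_eq_zero_iff_dvd] at h1 ⊢
      push_cast at h1 ⊢
      rwa [ZMod.pow_card] at h1
    obtain ⟨b, hb⟩ := hp1'
    have hgz : g * (a : R) ^ (k - 1) * g⁻¹ = (a : R) ^ (k - 1) := by
      rw [← conj_zpow, ← hk', ← zpow_mul,
        show k' * (k - 1) = (k - 1) + (k - 1) * p * b by linear_combination (k - 1) * hb,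
        zpow_add, zpow_mul _ ((k - 1) * p), hmul]
      simp
    calc g * (a : R) ^ (k - 1) = g * (a : R) ^ (k - 1) * g⁻¹ * g := by group
      _ = _ := by rw [hgz]
  let f : R ⧸ Z0 →* R ⧸ C := QuotientGroup.map Z0 C (MonoidHom.id R) (fun z hz => hz.1)
  have : IsCyclic (R ⧸ C) := isCyclic_of_prime_card (p := p) (by rw [← index_eq_card, hCi])
  have hker : f.ker ≤ center (R ⧸ Z0) := by
    rintro q
    induction q using QuotientGroup.induction_on with | H c => ?_
    intro hq
    have hc : c ∈ C := (QuotientGroup.eq_one_iff c).1 hq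
    rw [mem_center_iff]
    intro q'
    induction q' using QuotientGroup.induction_on with | H r => ?_
    obtain ⟨i, rfl⟩ := hmem c hc
    have h1 : Commute (QuotientGroup.mk r : R ⧸ Z0) (QuotientGroup.mk (a : R)) := by
      rw [← commutatorElement_eq_one_iff_commute]
      exact (map_commutatorElement (QuotientGroup.mk' Z0) r (a : R)).symm.trans
        ((QuotientGroup.eq_one_iff _).2 (haC r))
    rw [QuotientGroup.mk_zpow]
    exact (h1.zpow_right i).eq
  have hxy : ⁅x, y⁆ ∈ Z0 := by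
    rw [← QuotientGroup.eq_one_iff]
    refine (map_commutatorElement (QuotientGroup.mk' Z0) x y).trans ?_
    rw [commutatorElement_eq_one_iff_mul_comm]
    exact (f.isMulCommutative_of_isCyclic_of_ker_le_center hker).is_comm.comm _ _
  exact ⟨hxy.2.1, hxy.2.2⟩

/-- For `p` odd, `Ω₁` of a non-cyclic `p`-group with a cyclic subgroup of index `p` has order
`p ^ 2`. -/
theorem omega_one_of_cyclic_maximal (hp : p ≠ 2) (hR : IsPGroup p R) (hnc : ¬ IsCyclic R)
    (C : Subgroup R) (hC : IsCyclic C) (hCi : C.index = p) :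
    (∀ x ∈ closure {x : R | x ^ p = 1}, x ^ p = 1) ∧
      Nat.card (closure {x : R | x ^ p = 1}) = p ^ 2 := by
  have hpp := (Fact.out : p.Prime)
  have hcom := commutator_of_cyclic_maximal hp hR C hC hCi
  let f : R →* R :=
    { toFun := fun x => x ^ p
      map_one' := one_pow p
      map_mul' := fun x y => mul_pow_prime_class_two (fun u v => (hcom u v).1) hpp hp x y (hcom y x).2 }
  have hK : closure {x : R | x ^ p = 1} = f.ker := by
    conv_rhs => rw [← closure_eq f.ker]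
    rfl
  refine ⟨fun x hx => MonoidHom.mem_ker.1 (hK ▸ hx), ?_⟩
  rw [hK]
  obtain ⟨a, ha⟩ := isCyclic_iff_exists_zpowers_eq_top.1 hC
  obtain ⟨n, hn⟩ := hR.exists_card_eq
  have hC' : C = zpowers (a : R) := by
    have h1 := congrArg (Subgroup.map C.subtype) ha
    rw [MonoidHom.map_zpowers, ← MonoidHom.range_eq_map, range_subtype] at h1
    exact h1.symm
  have hCp := C.card_mul_index
  rw [hCi] at hCp
  -- no `p`-th power generates `C`
  have hsub : ∀ x : R, x ^ p ∈ zpowers ((a : R) ^ p) := by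
    intro x
    have hxC : x ^ p ∈ C := by
      have hCn : C.Normal := C.normal_of_index_eq_minFac_card (by
        rw [hCi, hn, hpp.pow_minFac]
        rintro rfl
        rw [pow_zero] at hn; rw [hn] at hCp
        exact hpp.ne_one (Nat.eq_one_of_mul_eq_one_left hCp))
      simpa [hCi] using C.pow_index_mem x
    obtain ⟨i, hi⟩ := mem_zpowers_iff.1 (hC' ▸ hxC)
    by_cases hpi : (p : ℤ) ∣ i
    · obtain ⟨j, rfl⟩ := hpi
      exact mem_zpowers_iff.2 ⟨j, by rw [← hi, zpow_mul, zpow_natCast]⟩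
    exfalso
    -- then `x ^ p` generates `C`, so `x` generates `R`
    obtain ⟨m, _, hm⟩ := (Nat.dvd_prime_pow hpp).1 (hn ▸ orderOf_dvd_natCard (a : R))
    have hgen : orderOf (x ^ p) = orderOf (a : R) := by
      rw [← hi]
      refine dvd_antisymm (orderOf_dvd_of_mem_zpowers (zpow_mem (mem_zpowers _) i)) ?_
      have hcop : IsCoprime ((orderOf (a : R) : ℕ) : ℤ) i := by
        rw [hm]; push_cast
        exact ((Nat.prime_iff_prime_int.1 hpp).coprime_iff_not_dvd.2 hpi).pow_left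
      rw [← Int.natCast_dvd_natCast]
      refine hcop.dvd_of_dvd_mul_left ?_
      rw [orderOf_dvd_iff_zpow_eq_one, zpow_mul, zpow_natCast, pow_orderOf_eq_one]
    have hcardC : Nat.card C = orderOf (a : R) :=
      (congrArg (fun K : Subgroup R => Nat.card K) hC').trans (Nat.card_zpowers _)
    have hm0 : m ≠ 0 := by
      rintro rfl
      rw [pow_zero] at hm
      rw [hcardC, hm, one_mul] at hCp
      exact hnc (isCyclic_of_prime_card hCp.symm)
    have hx : orderOf x = Nat.card R := by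
      have h1 := orderOf_pow' x hpp.ne_zero
      rw [hgen] at h1
      rcases Nat.coprime_or_dvd_of_prime hpp (orderOf x) with h2 | h2
      · exfalso
        have h3 : orderOf x ∣ p ^ n := hn ▸ orderOf_dvd_natCard x
        have h4 : orderOf x = 1 :=
          Nat.eq_one_of_dvd_coprimes (Nat.Coprime.pow_right n h2.symm) dvd_rfl h3
        rw [h4, Nat.gcd_one_left, Nat.div_one, hm] at h1
        exact (Nat.one_lt_pow hm0 hpp.one_lt).ne' h1
      · rw [Nat.gcd_eq_right h2] at h1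
        rw [← hCp, hcardC, h1, Nat.div_mul_cancel h2]
    exact hnc (isCyclic_of_orderOf_eq_card x hx)
  have hrange : f.range = zpowers ((a : R) ^ p) := by
    refine le_antisymm ?_ (zpowers_le.2 ⟨a, rfl⟩)
    rintro _ ⟨x, rfl⟩
    exact hsub x
  have h2 := f.ker.card_mul_index
  rw [Subgroup.index_ker, hrange, Nat.card_zpowers, orderOf_pow' _ hpp.ne_zero] at h2
  have hcardC : Nat.card C = orderOf (a : R) :=
      (congrArg (fun K : Subgroup R => Nat.card K) hC').trans (Nat.card_zpowers _)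
  have hdvd : p ∣ orderOf (a : R) := by
    obtain ⟨m, _, hm⟩ := (Nat.dvd_prime_pow hpp).1 (hn ▸ orderOf_dvd_natCard (a : R))
    rw [hm]
    refine dvd_pow_self _ ?_
    rintro rfl
    rw [pow_zero] at hm
    rw [hcardC, hm, one_mul] at hCp
    exact hnc (isCyclic_of_prime_card hCp.symm)
  rw [Nat.gcd_eq_right hdvd, ← hCp, hcardC] at h2
  obtain ⟨q, hq⟩ := hdvd
  have hq0 : 0 < q := Nat.pos_of_ne_zero (by rintro rfl; exact (orderOf_pos (a : R)).ne' (by rw [hq, Nat.mul_zero]))
  rw [hq, Nat.mul_div_cancel_left _ hpp.pos] at h2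
  exact Nat.eq_of_mul_eq_mul_right hq0 (by rw [h2]; ring)

end CfsgLib.Transfer
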