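import Cfsg.Agent.Lib.Transfer.PGroupNormal
import Cfsg.Agent.Lib.Transfer.CyclicMaximal

/-!
# `p`-groups with one subgroup of order `p`; small normal subgroups
-/

namespace CfsgLib.Transfer

open Subgroup

variable {G : Type*} [Group G] [Finite G] {p : ℕ} [Fact p.Prime]

/-- For `p` odd a `p`-group whose elements of order dividing `p` generate a subgroup of order at
most `p` is cyclic. -/
theorem isCyclic_of_card_omega_one_le (hp : p ≠ 2) (hG : IsPGroup p G)
    (h : Nat.card (closure {x : G | x ^ p = 1}) ≤ p) : IsCyclic G := by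
  suffices key : ∀ n : ℕ, ∀ H : Subgroup G, Nat.card H = n → IsCyclic H by
    have := key _ ⊤ rfl
    exact isCyclic_of_surjective (topEquiv : (⊤ : Subgroup G) ≃* G).toMonoidHom topEquiv.surjective
  intro n
  induction n using Nat.strong_induction_on with
  | _ n ih =>
    intro H hn
    by_contra hnc
    have : Nontrivial H := by
      by_contra hnt
      rw [not_nontrivial_iff_subsingleton] at hnt
      exact hnc isCyclic_of_subsingleton
    obtain ⟨M, hM, -⟩ := (eq_top_or_exists_le_coatom (⊥ : Subgroup H)).resolve_left bot_ne_top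
    have hHp := hG.to_subgroup H
    obtain ⟨-, hMi⟩ := coatom_index_eq_prime hHp hM
    have hMlt : Nat.card M < n := by
      rw [← hn]
      exact lt_of_le_of_ne M.card_le_card_group fun e => hM.1 (M.eq_top_of_card_eq e)
    have hcM : IsCyclic (M.map H.subtype) :=
      ih _ hMlt _ (card_map_of_injective H.subtype_injective)
    have hcM' : IsCyclic M := isCyclic_of_surjective
      (M.equivMapOfInjective H.subtype H.subtype_injective).symm.toMonoidHom (MulEquiv.surjective _)
    obtain ⟨-, h2⟩ := omega_one_of_cyclic_maximal hp hHp hnc M hcM' hMi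
    have h3 : (closure {x : H | x ^ p = 1}).map H.subtype ≤ closure {x : G | x ^ p = 1} := by
      rw [MonoidHom.map_closure]
      exact closure_mono (by rintro _ ⟨x, hx, rfl⟩; exact (congrArg Subtype.val hx :))
    have h4 := card_le_of_le h3
    rw [card_map_of_injective H.subtype_injective, h2] at h4
    nlinarith [(Fact.out : p.Prime).two_le]

/-- A normal subgroup of a `p`-group contains normal subgroups of every possible order. -/
theorem exists_normal_le_card (hG : IsPGroup p G) (N : Subgroup G) [N.Normal] {k : ℕ}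
    (hk : p ^ k ∣ Nat.card N) : ∃ M : Subgroup G, M.Normal ∧ M ≤ N ∧ Nat.card M = p ^ k := by
  induction hm : Nat.card N using Nat.strong_induction_on generalizing N with
  | _ m ih =>
    subst hm
    by_cases he : Nat.card N = p ^ k
    · exact ⟨N, inferInstance, le_rfl, he⟩
    have hp := (Fact.out : p.Prime)
    have hN : N ≠ ⊥ := by
      rintro rfl
      rw [card_bot, Nat.dvd_one] at hk
      exact he (by rw [card_bot, hk])
    obtain ⟨M, hMn, hMN, hMc, -, -⟩ := exists_chief_below hG N hN
    obtain ⟨n, hn⟩ := (hG.to_subgroup M).exists_card_eq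
    rw [hMc, hn, ← pow_succ', Nat.pow_dvd_pow_iff_le_right hp.one_lt] at hk
    have hkn : k ≠ n + 1 := by
      rintro rfl
      exact he (by rw [hMc, hn, pow_succ'])
    have hlt : Nat.card M < Nat.card N := by
      rw [hMc]; exact lt_mul_left Nat.card_pos hp.one_lt
    obtain ⟨L, hLn, hLM, hL⟩ := ih _ hlt M (hn ▸ pow_dvd_pow p (by omega)) rfl
    exact ⟨L, hLn, hLM.trans hMN, hL⟩

/-- For `p` odd a non-cyclic `p`-group has a normal elementary abelian subgroup of order `p ^ 2`. -/
theorem exists_normal_elementary_sq (hp : p ≠ 2) (hG : IsPGroup p G) (hnc : ¬ IsCyclic G) :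
    ∃ A : Subgroup G, A.Normal ∧ IsMulCommutative A ∧ (∀ a ∈ A, a ^ p = 1) ∧
      Nat.card A = p ^ 2 := by
  obtain ⟨A, -, hA⟩ := Finite.exists_le_maximal
    (p := fun A : Subgroup G => A.Normal ∧ IsMulCommutative A ∧ ∀ a ∈ A, a ^ p = 1) (a := ⊥)
    ⟨inferInstance, inferInstance, fun a ha => by rw [mem_bot.1 ha, one_pow]⟩
  obtain ⟨hAn, hAc, hAe⟩ := hA.prop
  obtain ⟨j, hj⟩ := (hG.to_subgroup A).exists_card_eq
  by_cases hj2 : 2 ≤ j
  · obtain ⟨M, hMn, hMA, hM⟩ := exists_normal_le_card hG A (k := 2) (hj ▸ pow_dvd_pow p hj2)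
    exact ⟨M, hMn, ⟨⟨fun a b => Subtype.ext (congrArg Subtype.val
      (hAc.is_comm.comm ⟨a, hMA a.2⟩ ⟨b, hMA b.2⟩) :)⟩⟩, fun a ha => hAe a (hMA ha), hM⟩
  exfalso
  refine hnc (isCyclic_of_card_omega_one_le hp hG ?_)
  have hi := index_centralizer_le_of_normal hG j A hj
  have hj' : j * (j - 1) / 2 = 0 := by interval_cases j <;> rfl
  rw [hj', pow_zero] at hi
  have hC : centralizer (A : Set G) = ⊤ := index_eq_one.1
    (le_antisymm hi (Nat.pos_of_ne_zero index_ne_zero_of_finite))
  calc Nat.card (closure {x : G | x ^ p = 1}) ≤ Nat.card A := by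
        refine card_le_of_le ((closure_le _).2 fun x hx => ?_)
        refine mem_of_maximal_normal_abelian_exponent hG 1 (by simpa using hp) A
          (by simpa using hAe) ?_ (hC ▸ mem_top x) (by simpa using hx)
        intro B hBn hBc hBe hAB
        exact le_antisymm (hA.le_of_ge ⟨hBn, hBc, by simpa using hBe⟩ hAB) hAB
    _ ≤ p := by
        rw [hj]
        exact (Nat.pow_le_pow_right (Fact.out : p.Prime).pos (by omega : j ≤ 1)).trans (pow_one p).le

end CfsgLib.Transfer
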