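import Cfsg.Prelude.Def_Transfer
import Cfsg.Agent.Lib.Transfer.ClassTwo
import Cfsg.Agent.Lib.OddLocal.PGroup
import Cfsg.Agent.Lib.Solvable.PGroupBasics

/-!
# Normal subgroups of `p`-groups: chief factors, critical subgroups, Alperin's lemma
-/

namespace CfsgLib.Transfer

open Subgroup
open scoped commutatorElement

variable {G : Type*} [Group G]

/-- Power of a product when the commutator commutes with both factors. -/
theorem mul_pow_of_commute_commutator {x y : G} (hx : Commute x ⁅y, x⁆) (hy : Commute y ⁅y, x⁆)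
    (n : ℕ) : (x * y) ^ n = x ^ n * y ^ n * ⁅y, x⁆ ^ n.choose 2 := by
  set c := ⁅y, x⁆ with hcdef
  have hxy : y * x = c * (x * y) := mul_comm_eq_commutatorElement x y
  have hyn : ∀ k : ℕ, y ^ k * x = c ^ k * (x * y ^ k) := by
    intro k
    induction k with
    | zero => simp
    | succ k ih =>
      calc y ^ (k + 1) * x = y ^ k * (y * x) := by rw [pow_succ, mul_assoc]
        _ = y ^ k * c * x * y := by rw [hxy]; simp only [mul_assoc]
        _ = c * (y ^ k * x) * y := by rw [(hy.pow_left k).eq]; simp only [mul_assoc]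
        _ = c ^ (k + 1) * (x * y ^ (k + 1)) := by
          rw [ih, pow_succ', pow_succ]; simp only [mul_assoc]
  induction n with
  | zero => simp
  | succ n ih =>
    have hk : Commute (x * y) (c ^ n.choose 2) := (hx.mul_left hy).pow_right _
    calc (x * y) ^ (n + 1) = x ^ n * (y ^ n * x) * y * c ^ n.choose 2 := by
          rw [pow_succ, ih, mul_assoc _ _ (x * y), ← hk.eq]
          simp only [mul_assoc]
      _ = x ^ n * x * (y ^ n * y) * (c ^ n * c ^ n.choose 2) := by
          rw [hyn, ← ((hx.pow_right n).mul_left ((hy.pow_left n).pow_right n)).eq]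
          simp only [mul_assoc]
          rw [← mul_assoc (c ^ n) y, ← (hy.pow_right n).eq]
          simp only [mul_assoc]
      _ = x ^ (n + 1) * y ^ (n + 1) * c ^ (n + 1).choose 2 := by
          rw [← pow_succ, ← pow_succ, ← pow_add, Nat.choose_succ_succ, Nat.choose_one_right]

variable [Finite G] {p : ℕ} [Fact p.Prime] (hG : IsPGroup p G)
include hG

/-- Below a nontrivial normal subgroup `N` of a `p`-group there is a normal subgroup of index `p`
in `N`, modulo which `N` is central. -/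
theorem exists_chief_below (N : Subgroup G) [N.Normal] (hN : N ≠ ⊥) :
    ∃ M : Subgroup G, M.Normal ∧ M ≤ N ∧ Nat.card N = p * Nat.card M ∧
      (∀ n ∈ N, ∀ g : G, g * n * g⁻¹ * n⁻¹ ∈ M) ∧
      ∀ n ∈ N, n ^ p ∈ M := by
  obtain ⟨M, -, hM⟩ := Finite.exists_le_maximal
    (p := fun M : Subgroup G => M.Normal ∧ M < N) (a := ⊥)
    ⟨inferInstance, bot_lt_iff_ne_bot.2 hN⟩
  obtain ⟨hMn, hMN⟩ := hM.prop
  obtain ⟨x, hxN, hxM, hxc⟩ := CfsgLib.OddLocal.exists_central_mod hG M N hMN
  let π := QuotientGroup.mk' M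
  have hcent : π x ∈ center (G ⧸ M) := by
    rw [mem_center_iff]
    intro a
    obtain ⟨g, rfl⟩ := QuotientGroup.mk'_surjective M a
    have h1 : π (g * x * g⁻¹ * x⁻¹) = 1 := (QuotientGroup.eq_one_iff _).2 (hxc g)
    simp only [map_mul, map_inv, mul_inv_eq_iff_eq_mul, one_mul] at h1
    exact h1
  have hgen : ∀ z ∈ zpowers (π x), z ≠ 1 → (zpowers z).comap π = N := by
    intro z hz hz1
    have hzc : zpowers z ≤ center (G ⧸ M) :=
      zpowers_le.2 (zpowers_le.2 hcent hz)
    have hn : (zpowers z).Normal := ⟨fun a ha g => by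
      rwa [mem_center_iff.1 (hzc ha) g, mul_inv_cancel_right]⟩
    have hle : (zpowers z).comap π ≤ N := by
      intro g hg
      have hg' : π g ∈ zpowers (π x) := zpowers_le.2 hz hg
      obtain ⟨k, hk⟩ := mem_zpowers_iff.1 hg'
      rw [← map_zpow] at hk
      have h1 : (x ^ k)⁻¹ * g ∈ M := QuotientGroup.eq.1 hk
      have := mul_mem (zpow_mem hxN k) (hMN.le h1)
      rwa [mul_inv_cancel_left] at this
    refine hle.antisymm ?_
    by_contra hne
    have hle' : M ≤ (zpowers z).comap π := fun m hm => by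
      rw [mem_comap, show π m = 1 from (QuotientGroup.eq_one_iff m).2 hm]
      exact one_mem _
    have h2 := hM.le_of_ge ⟨hn.comap π, lt_of_le_not_ge hle hne⟩ hle'
    obtain ⟨g, rfl⟩ := QuotientGroup.mk'_surjective M z
    exact hz1 ((QuotientGroup.eq_one_iff g).2 (h2 (mem_zpowers (π g))))
  have hx1 : π x ≠ 1 := fun h => hxM ((QuotientGroup.eq_one_iff x).1 h)
  have hNeq := hgen _ (mem_zpowers _) hx1
  have hmap : N.map π = zpowers (π x) := by
    rw [← hNeq, map_comap_eq_self_of_surjective (QuotientGroup.mk'_surjective M)]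
  have hxp : (π x) ^ p = 1 := by
    by_contra hne
    have h1 := hgen _ (npow_mem_zpowers _ p) hne
    have h2 : π x ∈ zpowers (π x ^ p) := mem_comap.1 (by rw [h1]; exact hxN)
    obtain ⟨k, hk⟩ := mem_zpowers_iff.1 h2
    rw [← zpow_natCast, ← zpow_mul] at hk
    have hd : (orderOf (π x) : ℤ) ∣ (p : ℤ) * k - 1 := by
      apply orderOf_dvd_iff_zpow_eq_one.2
      rw [zpow_sub_one, hk, mul_inv_cancel]
    have hp' : p ∣ orderOf (π x) := (hG.to_quotient M).dvd_orderOf hx1
    have h3 : (p : ℤ) ∣ 1 := by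
      have h4 := (Int.natCast_dvd_natCast.2 hp').trans hd
      simpa using (dvd_mul_right (p : ℤ) k).sub h4
    exact (Fact.out : p.Prime).ne_one (by exact_mod_cast Int.eq_one_of_dvd_one (by positivity) h3)
  have hord : orderOf (π x) = p := orderOf_eq_prime hxp hx1
  refine ⟨M, hMn, hMN.le, ?_, ?_, ?_⟩
  · have h1 := relIndex_mul_relIndex ⊥ M N bot_le hMN.le
    rw [relIndex_bot_left, relIndex_bot_left] at h1
    have h2 : M.relIndex N = p := by
      calc M.relIndex N = π.ker.relIndex N := by rw [QuotientGroup.ker_mk']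
        _ = Nat.card (N.map π) := relIndex_ker _ _
        _ = p := by rw [hmap, Nat.card_zpowers, hord]
    rw [← h1, h2, mul_comm]
  · intro n hn g
    have h1 : π n ∈ center (G ⧸ M) := by
      have : π n ∈ zpowers (π x) := hmap ▸ mem_map_of_mem π hn
      exact zpowers_le.2 hcent this
    apply (QuotientGroup.eq_one_iff _).1
    change π (g * n * g⁻¹ * n⁻¹) = 1
    rw [map_mul, map_mul, map_mul, map_inv, map_inv, mem_center_iff.1 h1 (π g),
      mul_inv_cancel_right, mul_inv_cancel]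
  · intro n hn
    have h1 : π n ∈ zpowers (π x) := hmap ▸ mem_map_of_mem π hn
    obtain ⟨k, hk⟩ := mem_zpowers_iff.1 h1
    apply (QuotientGroup.eq_one_iff _).1
    change π (n ^ p) = 1
    rw [map_pow, ← hk, ← zpow_natCast, ← zpow_mul, mul_comm, zpow_mul, zpow_natCast, hxp, one_zpow]

/-- The index of the centralizer of a normal subgroup of order `p ^ j` is at most
`p ^ (j (j - 1) / 2)`. -/
theorem index_centralizer_le_of_normal (j : ℕ) (N : Subgroup G) [N.Normal]
    (hN : Nat.card N = p ^ j) :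
    (centralizer (N : Set G)).index ≤ p ^ (j * (j - 1) / 2) := by
  induction j generalizing N with
  | zero =>
    have : N = ⊥ := Subgroup.card_eq_one.1 (by simpa using hN)
    subst this
    have : centralizer ((⊥ : Subgroup G) : Set G) = ⊤ := top_le_iff.1 fun g _ =>
      mem_centralizer_iff.2 fun z hz => by rw [mem_bot.1 hz, one_mul, mul_one]
    rw [this, index_top]
    simp
  | succ j ih =>
    have hne : N ≠ ⊥ := by
      rintro rfl
      rw [card_bot] at hN
      exact (Nat.one_lt_pow j.succ_ne_zero (Fact.out : p.Prime).one_lt).ne hN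
    obtain ⟨M, hMn, hMN, hcard, hcen, -⟩ := exists_chief_below hG N hne
    have hMcard : Nat.card M = p ^ j := by
      rw [hN, pow_succ'] at hcard
      exact (Nat.eq_of_mul_eq_mul_left (Fact.out : p.Prime).pos hcard).symm
    have hlt : M < N := lt_of_le_of_ne hMN fun h => by
      rw [h] at hcard
      have := Nat.card_pos (α := N)
      have := (Fact.out : p.Prime).two_le
      nlinarith
    obtain ⟨e, heN, heM⟩ := SetLike.exists_of_lt hlt
    -- the map `g ↦ [g, e]` on `C(M)`
    set CM := centralizer (M : Set G)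
    set CN := centralizer (N : Set G)
    have hsub : CN ≤ CM := centralizer_le hMN
    have hbound : CN.relIndex CM ≤ p ^ j := by
      rw [← hMcard, relIndex, index_eq_card]
      let f : CM ⧸ CN.subgroupOf CM → M :=
        fun q => ⟨(q.out : G) * e * (q.out : G)⁻¹ * e⁻¹, hcen e heN _⟩
      refine Nat.card_le_card_of_injective f ?_
      intro a b hab
      have h1 : (a.out : G) * e * (a.out : G)⁻¹ = (b.out : G) * e * (b.out : G)⁻¹ :=
        mul_right_cancel (congrArg Subtype.val hab)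
      rw [← QuotientGroup.out_eq' a, ← QuotientGroup.out_eq' b, QuotientGroup.eq, mem_subgroupOf]
      set g := ((a.out⁻¹ * b.out : CM) : G) with hg
      have hge : g * e = e * g := by
        have h2 := congrArg (fun v => (a.out : G)⁻¹ * v * b.out) h1
        simpa [hg, mul_assoc] using h2.symm
      rw [mem_centralizer_iff]
      intro n hn
      have hgM : M ≤ centralizer ({g} : Set G) := fun m hm => mem_centralizer_singleton_iff.2
        (mem_centralizer_iff.1 (a.out⁻¹ * b.out : CM).2 m hm)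
      have hle : N ≤ centralizer ({g} : Set G) := by
        set L := N ⊓ centralizer ({g} : Set G)
        have hlt' : M < L := lt_of_le_of_ne (le_inf hMN hgM) fun h =>
          heM (h ▸ ⟨heN, mem_centralizer_singleton_iff.2 hge.symm⟩)
        have h1 : Nat.card M ∣ Nat.card L := card_dvd_of_le hlt'.le
        have h2 : Nat.card L ∣ Nat.card N := card_dvd_of_le inf_le_left
        obtain ⟨c, hc⟩ := h1
        rw [hcard, hc, mul_comm p, Nat.mul_dvd_mul_iff_left Nat.card_pos,
          Nat.dvd_prime Fact.out] at h2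
        rcases h2 with rfl | rfl
        · exact absurd (eq_of_le_of_card_ge hlt'.le (by rw [hc, mul_one])) hlt'.ne
        · exact inf_eq_left.1 (eq_of_le_of_card_ge inf_le_left (by rw [hc, hcard, mul_comm]))
      exact mem_centralizer_singleton_iff.1 (hle hn)
    rw [← relIndex_mul_index hsub]
    refine le_trans (Nat.mul_le_mul hbound (ih M hMcard)) ?_
    rw [← pow_add]
    refine Nat.pow_le_pow_right (Fact.out : p.Prime).pos (le_of_eq ?_)
    rw [show (j + 1) * (j + 1 - 1) = j * (j - 1) + 2 * j by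
      cases j with
      | zero => rfl
      | succ j => simp only [Nat.add_sub_cancel]; ring,
      Nat.add_mul_div_left _ _ (by norm_num)]
    omega

/-- A maximal abelian normal subgroup of a `p`-group is self-centralizing. -/
theorem centralizer_eq_of_maximal_normal_abelian (A : Subgroup G) [A.Normal]
    [hA : IsMulCommutative A]
    (hmax : ∀ B : Subgroup G, B.Normal → IsMulCommutative B → A ≤ B → B = A) :
    centralizer (A : Set G) = A := by
  obtain ⟨B, hAB, hBn, hBc, hB⟩ := CfsgLib.OddLocal.exists_normal_self_centralizing hG A hA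
  have := hmax B hBn hBc hAB
  subst this
  exact hB

/-- **Thompson's critical subgroup**. -/
theorem exists_critical :
    ∃ H : Subgroup G, H.Characteristic ∧
      (frattini H).map H.subtype ≤ centralizer (H : Set G) ∧
      ⁅H, (⊤ : Subgroup G)⁆ ≤ H ⊓ centralizer (H : Set G) ∧
      centralizer (H : Set G) ≤ H := by
  obtain ⟨D, -, hD⟩ := Finite.exists_le_maximal
    (p := fun D : Subgroup G => D.Characteristic ∧ IsMulCommutative D) (a := ⊥)
    ⟨inferInstance, inferInstance⟩
  obtain ⟨hDch, hDab⟩ := hD.prop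
  let π := QuotientGroup.mk' D
  have hmemc : ∀ x : G, π x ∈ center (G ⧸ D) ↔ ∀ g, g * x * g⁻¹ * x⁻¹ ∈ D := by
    intro x
    rw [mem_center_iff]
    constructor
    · intro h g
      apply (QuotientGroup.eq_one_iff _).1
      change π (g * x * g⁻¹ * x⁻¹) = 1
      rw [map_mul, map_mul, map_mul, map_inv, map_inv, h (π g), mul_inv_cancel_right, mul_inv_cancel]
    · intro h a
      obtain ⟨g, rfl⟩ := QuotientGroup.mk'_surjective D a
      have h1 : π (g * x * g⁻¹ * x⁻¹) = 1 := (QuotientGroup.eq_one_iff _).2 (h g)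
      simp only [map_mul, map_inv, mul_inv_eq_iff_eq_mul, one_mul] at h1
      exact h1
  let H : Subgroup G :=
    { carrier := {x | x ∈ centralizer (D : Set G) ∧ π x ∈ center (G ⧸ D) ∧ π x ^ p = 1}
      one_mem' := ⟨one_mem _, by rw [map_one]; exact one_mem _, by rw [map_one, one_pow]⟩
      mul_mem' := fun {a b} ha hb => ⟨mul_mem ha.1 hb.1, by rw [map_mul]; exact mul_mem ha.2.1 hb.2.1,
        by rw [map_mul, (show Commute (π a) (π b) from mem_center_iff.1 hb.2.1 (π a)).mul_pow,
          ha.2.2, hb.2.2, one_mul]⟩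
      inv_mem' := fun {a} ha => ⟨inv_mem ha.1, by rw [map_inv]; exact inv_mem ha.2.1,
        by rw [map_inv, inv_pow, ha.2.2, inv_one]⟩ }
  have hmem : ∀ x, x ∈ H ↔
      x ∈ centralizer (D : Set G) ∧ π x ∈ center (G ⧸ D) ∧ π x ^ p = 1 := fun x => Iff.rfl
  have hDH : D ≤ H := fun d hd => (hmem d).2 ⟨Subgroup.le_centralizer D hd, by
    rw [show π d = 1 from (QuotientGroup.eq_one_iff d).2 hd]
    exact ⟨one_mem _, one_pow p⟩⟩
  have hDcH : D ≤ centralizer (H : Set G) := fun d hd => mem_centralizer_iff.2 fun h hh =>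
    (mem_centralizer_iff.1 ((hmem h).1 hh).1 d hd).symm
  have hHch : H.Characteristic := by
    rw [characteristic_iff_map_le]
    rintro φ _ ⟨x, hx, rfl⟩
    obtain ⟨hx1, hx2, hx3⟩ := (hmem x).1 hx
    have hDφ : ∀ d, d ∈ D → φ d ∈ D := fun d hd => by
      have := characteristic_iff_map_le.1 hDch φ
      exact this ⟨d, hd, rfl⟩
    have hDφ' : ∀ d, d ∈ D → φ.symm d ∈ D := fun d hd => by
      have := characteristic_iff_map_le.1 hDch φ.symm
      exact this ⟨d, hd, rfl⟩
    refine (hmem _).2 ⟨mem_centralizer_iff.2 fun d hd => ?_, (hmemc _).2 fun g => ?_, ?_⟩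
    · have h := congrArg φ (mem_centralizer_iff.1 hx1 _ (hDφ' d hd))
      simpa using h
    · have h := hDφ _ ((hmemc x).1 hx2 (φ.symm g))
      simpa using h
    · rw [← map_pow] at hx3 ⊢
      have h := hDφ _ ((QuotientGroup.eq_one_iff (x ^ p)).1 hx3)
      rw [map_pow] at h
      exact (QuotientGroup.eq_one_iff _).2 h
  have hcomm : ⁅H, (⊤ : Subgroup G)⁆ ≤ D := by
    rw [commutator_le]
    intro x hx g _
    have h := inv_mem ((hmemc x).1 ((hmem x).1 hx).2.1 g)
    have e : ⁅x, g⁆ = (g * x * g⁻¹ * x⁻¹)⁻¹ := by simp [commutatorElement_def, mul_assoc]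
    rwa [e]
  -- maximality of `D` gives `Z(H) = D`
  have hZ : H ⊓ centralizer (H : Set G) = D := by
    have hch : (H ⊓ centralizer (H : Set G)).Characteristic := by
      rw [characteristic_iff_map_le]
      rintro φ _ ⟨x, hx, rfl⟩
      refine ⟨characteristic_iff_map_le.1 hHch φ ⟨x, hx.1, rfl⟩, ?_⟩
      refine mem_centralizer_iff.2 fun h hh => ?_
      have := congrArg φ (mem_centralizer_iff.1 hx.2 _
        (characteristic_iff_map_le.1 hHch φ.symm ⟨h, hh, rfl⟩))
      simpa using this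
    refine le_antisymm (hD.le_of_ge ⟨hch, ⟨⟨fun a b => Subtype.ext ?_⟩⟩⟩ (le_inf hDH hDcH))
      (le_inf hDH hDcH)
    exact mem_centralizer_iff.1 b.2.2 a a.2.1
  refine ⟨H, hHch, ?_, hcomm.trans (hZ.ge), ?_⟩
  · -- `H / D` is elementary abelian, so `Φ(H) ≤ D`
    refine le_trans ?_ hDcH
    rintro _ ⟨y, hy, rfl⟩
    by_contra hyD
    have hHp : IsPGroup p H := hG.to_subgroup H
    set D' := D.subgroupOf H
    have hD'n : D'.Normal := inferInstance
    set ρ := QuotientGroup.mk' D'
    have hab : ∀ a b : H, ρ a * ρ b = ρ b * ρ a := fun a b => by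
      have h1 : ⁅(a : G), (b : G)⁆ ∈ D := hcomm (commutator_mem_commutator a.2 (mem_top _))
      have h2 : ρ ⁅a, b⁆ = 1 := (QuotientGroup.eq_one_iff _).2 (mem_subgroupOf.2 h1)
      rwa [map_commutatorElement, commutatorElement_eq_one_iff_mul_comm] at h2
    have hpow : ∀ q : H ⧸ D', q ^ p = 1 := fun q => by
      obtain ⟨a, rfl⟩ := QuotientGroup.mk'_surjective D' q
      rw [← map_pow]
      refine (QuotientGroup.eq_one_iff _).2 (mem_subgroupOf.2 ?_)
      have := ((hmem a).1 a.2).2.2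
      rw [← map_pow] at this
      exact (QuotientGroup.eq_one_iff _).1 this
    let _ : CommGroup (H ⧸ D') :=
      { (inferInstance : Group (H ⧸ D')) with
        mul_comm := fun a b => by
          obtain ⟨a, rfl⟩ := QuotientGroup.mk'_surjective D' a
          obtain ⟨b, rfl⟩ := QuotientGroup.mk'_surjective D' b
          exact hab a b }
    obtain ⟨B, hB⟩ := CfsgLib.Solvable.exists_isCompl_of_pow_eq_one hpow (zpowers (ρ y))
    have hBne : B ≠ ⊤ := fun h => by
      have h' := hB.inf_eq_bot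
      rw [h, inf_top_eq, zpowers_eq_bot, QuotientGroup.mk'_apply, QuotientGroup.eq_one_iff] at h'
      exact hyD (mem_subgroupOf.1 h')
    obtain ⟨M, hM, hle⟩ := (eq_top_or_exists_le_coatom (B.comap ρ)).resolve_left
      fun h => hBne (by
        rw [← map_comap_eq_self_of_surjective (QuotientGroup.mk'_surjective D') B, h,
          map_top_of_surjective _ (QuotientGroup.mk'_surjective D')])
    have hyM : y ∈ M := frattini_le_coatom hM hy
    apply hM.1
    refine top_le_iff.1 fun a _ => ?_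
    have ha : ρ a ∈ zpowers (ρ y) ⊔ B := hB.sup_eq_top ▸ mem_top _
    obtain ⟨u, hu, b, hb, hub⟩ := mem_sup.1 ha
    obtain ⟨k, rfl⟩ := mem_zpowers_iff.1 hu
    have h1 : ρ ((y ^ k)⁻¹ * a) = b := by rw [map_mul, map_inv, map_zpow, ← hub, inv_mul_cancel_left]
    have h2 : (y ^ k)⁻¹ * a ∈ M := hle (show ρ _ ∈ B from h1 ▸ hb)
    simpa using mul_mem (zpow_mem hyM k) h2
  · -- `C(H) ≤ H`
    set Q := centralizer (H : Set G) with hQ
    have : H.Normal := inferInstance
    by_contra hne
    have hQD : D < Q := lt_of_le_of_ne hDcH fun h => hne (h ▸ hDH)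
    obtain ⟨x, hxQ, hxD, hxc⟩ := CfsgLib.OddLocal.exists_central_mod hG D Q hQD
    have hx1 : π x ≠ 1 := fun h => hxD ((QuotientGroup.eq_one_iff x).1 h)
    obtain ⟨n, hn⟩ := IsPGroup.iff_orderOf.1 (hG.to_quotient D) (π x)
    rcases n with _ | n
    · exact hx1 (orderOf_eq_one_iff.1 (by simpa using hn))
    have hy : x ^ (p ^ n) ∈ H := by
      refine (hmem _).2 ⟨pow_mem (centralizer_le hDH hxQ) _, ?_, ?_⟩
      · rw [map_pow]; exact pow_mem ((hmemc x).2 hxc) _
      · rw [map_pow, ← pow_mul, ← pow_succ, ← hn, pow_orderOf_eq_one]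
    have hyD : x ^ (p ^ n) ∈ D := hZ ▸ ⟨hy, pow_mem hxQ _⟩
    have h1 : π x ^ (p ^ n) = 1 := by
      rw [← map_pow]; exact (QuotientGroup.eq_one_iff _).2 hyD
    have := Nat.le_of_dvd (pow_pos (Fact.out : p.Prime).pos n) (hn ▸ orderOf_dvd_of_pow_eq_one h1)
    exact absurd this (not_le.2 (Nat.pow_lt_pow_right (Fact.out : p.Prime).one_lt n.lt_succ_self))

/-- Alperin: a maximal normal abelian subgroup of exponent dividing `p ^ n ≠ 2` contains all
elements of order dividing `p ^ n` of its centralizer. -/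
theorem mem_of_maximal_normal_abelian_exponent (n : ℕ) (hn : p ^ n ≠ 2) (A : Subgroup G) [A.Normal]
    [hA : IsMulCommutative A] (hAe : ∀ a ∈ A, a ^ p ^ n = 1)
    (hmax : ∀ B : Subgroup G, B.Normal → IsMulCommutative B → (∀ b ∈ B, b ^ p ^ n = 1) → A ≤ B → B = A)
    {x : G} (hx : x ∈ centralizer (A : Set G)) (hxn : x ^ p ^ n = 1) : x ∈ A := by
  set q := p ^ n with hq
  set C := centralizer (A : Set G)
  set X := {y : G | y ∈ C ∧ y ^ q = 1 ∧ y ∉ A}
  by_contra hxA
  -- choose one with smallest normal closure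
  have hne : Nonempty X := ⟨⟨x, hx, hxn, hxA⟩⟩
  obtain ⟨⟨u₀, hu₀C, hu₀q, hu₀A⟩, hmin⟩ :=
    Finite.exists_min (fun y : X => Nat.card (normalClosure {(y : G)}))
  set N := normalClosure {u₀}
  have hCn : C.Normal := inferInstance
  have hNC : N ≤ C := normalClosure_le_normal (Set.singleton_subset_iff.2 hu₀C)
  have hu₀N : u₀ ∈ N := subset_normalClosure rfl
  have hNne : N ≠ ⊥ := fun h => hu₀A (by
    rw [h, mem_bot] at hu₀N
    rw [hu₀N]; exact one_mem _)
  obtain ⟨M, hMn, hMN, hMcard, hMc, hMp⟩ := exists_chief_below hG N hNne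
  have hsmall : ∀ y ∈ M, y ^ q = 1 → y ∈ A := by
    intro y hyM hyq
    by_contra hyA
    have h1 := hmin ⟨y, hNC (hMN hyM), hyq, hyA⟩
    have h2 : normalClosure {y} ≤ M := normalClosure_le_normal (Set.singleton_subset_iff.2 hyM)
    have h3 : Nat.card (normalClosure {y}) ≤ Nat.card M := card_le_of_le h2
    have h4 := Nat.card_pos (α := M)
    have h5 := (Fact.out : p.Prime).two_le
    have h6 : Nat.card N ≤ Nat.card (normalClosure {y}) := h1
    nlinarith
  have hAcent : ∀ a ∈ A, ∀ c ∈ C, c * a = a * c := fun a ha c hc =>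
    (mem_centralizer_iff.1 hc a ha).symm
  -- conjugates of `u₀` differ by elements of order dividing `q`
  have hup : ∀ g : G, (g * u₀ * g⁻¹) ^ p ∈ A := by
    intro g
    rw [conj_pow]
    refine Normal.conj_mem inferInstance _ (hsmall _ (hMp _ hu₀N) ?_) g
    rw [← pow_mul, mul_comm, pow_mul, hu₀q, one_pow]
  have hdiff : ∀ g h : G, (g * u₀ * g⁻¹)⁻¹ * (h * u₀ * h⁻¹) ∈ M := fun g h => by
    have h1 := hMc u₀ hu₀N g
    have h2 := hMc u₀ hu₀N h
    have h3 : u₀⁻¹ * ((g * u₀ * g⁻¹ * u₀⁻¹)⁻¹ * (h * u₀ * h⁻¹ * u₀⁻¹)) * u₀⁻¹⁻¹ ∈ M :=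
      hMn.conj_mem _ (mul_mem (inv_mem h1) h2) u₀⁻¹
    simpa [mul_assoc] using h3
  have key : ∀ k : ℕ, ∀ g h : G, Nat.card (closure {g * u₀ * g⁻¹, h * u₀ * h⁻¹}) = k →
      ((g * u₀ * g⁻¹)⁻¹ * (h * u₀ * h⁻¹)) ^ q = 1 := by
    intro k
    induction k using Nat.strong_induction_on with
    | _ k ih => ?_
    intro g h hk
    set u := g * u₀ * g⁻¹ with hu
    set v := h * u₀ * h⁻¹ with hv
    have huq : u ^ q = 1 := by rw [hu, conj_pow, hu₀q, mul_one, mul_inv_cancel]
    have hvq : v ^ q = 1 := by rw [hv, conj_pow, hu₀q, mul_one, mul_inv_cancel]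
    by_cases hcomm : Commute u v
    · rw [hcomm.inv_left.mul_pow, inv_pow, huq, hvq, inv_one, one_mul]
    set L := closure {u, v} with hL
    have huL : u ∈ L := subset_closure (Set.mem_insert _ _)
    have hvL : v ∈ L := subset_closure (Set.mem_insert_of_mem _ rfl)
    obtain ⟨K, hK, hKle⟩ : ∃ K : Subgroup L, IsCoatom K ∧ zpowers (⟨u, huL⟩ : L) ≤ K := by
      refine (eq_top_or_exists_le_coatom _).resolve_left fun hz => hcomm ?_
      have hvz : (⟨v, hvL⟩ : L) ∈ zpowers (⟨u, huL⟩ : L) := hz ▸ mem_top _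
      obtain ⟨i, hi⟩ := mem_zpowers_iff.1 hvz
      have hi' : u ^ i = v := congrArg Subtype.val hi
      rw [← hi']
      exact (Commute.refl u).zpow_right i
    have hKn := (coatom_index_eq_prime (hG.to_subgroup L) hK).1
    have huK : (⟨u, huL⟩ : L) ∈ K := hKle (mem_zpowers _)
    have hlt : closure {u, v * u * v⁻¹} ≤ K.map L.subtype := by
      rw [closure_le]
      rintro y (rfl | rfl)
      · exact ⟨_, huK, rfl⟩
      · exact ⟨⟨v, hvL⟩ * ⟨u, huL⟩ * ⟨v, hvL⟩⁻¹, hKn.conj_mem _ huK _, rfl⟩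
    have hcardK : Nat.card (K.map L.subtype) < Nat.card L := by
      rw [Nat.card_congr (K.equivMapOfInjective L.subtype L.subtype_injective).toEquiv.symm]
      exact lt_of_le_of_ne (card_le_card_group K) fun hh => hK.1 (eq_top_of_card_eq K hh)
    have hvu : v * u * v⁻¹ = (v * g) * u₀ * (v * g)⁻¹ := by rw [hu]; group
    have hsub := ih _ (lt_of_le_of_lt (card_le_of_le hlt) (hk ▸ hcardK)) g (v * g) (by
      rw [← hu, ← hvu])
    rw [← hvu, ← hu] at hsub
    have hcA : u⁻¹ * (v * u * v⁻¹) ∈ A := hsmall _ (hu ▸ hvu ▸ hdiff g (v * g)) hsub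
    set c := ⁅v, u⁻¹⁆ with hc
    have hcA' : c ∈ A := by
      have e : c = v * (u⁻¹ * (v * u * v⁻¹)) * (u⁻¹ * (v * u * v⁻¹))⁻¹ *
          v⁻¹ * ((v * u⁻¹ * v⁻¹) * u) := by
        rw [hc, commutatorElement_def, inv_inv]; group
      have hz := hAcent _ hcA
      have huC : u ∈ C := hCn.conj_mem _ hu₀C g
      have hvC : v ∈ C := hCn.conj_mem _ hu₀C h
      have hinv : (v * u⁻¹ * v⁻¹) * u ∈ A := by
        have h1 := inv_mem hcA
        have h2 := hz u huC
        have e2 : (u⁻¹ * (v * u * v⁻¹))⁻¹ = (v * u⁻¹ * v⁻¹) * u := by group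
        rwa [e2] at h1
      rw [hc, commutatorElement_def, inv_inv]
      exact hinv
    have huC : u ∈ C := hCn.conj_mem _ hu₀C g
    have hvC : v ∈ C := hCn.conj_mem _ hu₀C h
    have c1 : Commute u⁻¹ c := hAcent c hcA' _ (inv_mem huC)
    have c2 : Commute v c := hAcent c hcA' _ hvC
    have hcp : c ^ p = 1 := by
      have hu1 : v * u⁻¹ * v⁻¹ = c * u⁻¹ := by rw [hc, commutatorElement_def, inv_inv]; group
      have h1 : v * (u ^ p)⁻¹ * v⁻¹ = (u ^ p)⁻¹ := by
        rw [hAcent _ (inv_mem (hup g)) v hvC, mul_inv_cancel_right]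
      rw [← inv_pow, ← conj_pow, hu1, c1.symm.mul_pow] at h1
      simpa using h1
    rw [mul_pow_of_commute_commutator c1 c2, inv_pow, huq, hvq, inv_one, one_mul, one_mul]
    obtain ⟨j, hj⟩ : p ∣ q.choose 2 := by
      have hp := (Fact.out : p.Prime)
      rw [Nat.choose_two_right]
      rcases n with _ | n
      · rw [show q = 1 from pow_zero p]; exact dvd_zero p
      have hq1 : q = p * p ^ n := by rw [hq, pow_succ']
      rcases eq_or_ne p 2 with rfl | hp2
      · rcases n with _ | n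
        · exact absurd (pow_one 2) hn
        · refine Dvd.intro (2 ^ n * (q - 1)) ?_
          rw [show q * (q - 1) = 2 * (2 * (2 ^ n * (q - 1))) by rw [hq1]; ring,
            Nat.mul_div_cancel_left _ (by norm_num)]
      · obtain ⟨m, hm⟩ : Even (q - 1) := by
          have : Odd q := (hp.odd_of_ne_two hp2).pow
          obtain ⟨m, hm⟩ := this
          exact ⟨m, by omega⟩
        refine Dvd.intro (p ^ n * m) ?_
        rw [hm, ← two_mul, ← mul_assoc p, ← hq1,
          show q * (2 * m) = 2 * (q * m) by ring, Nat.mul_div_cancel_left _ (by norm_num)]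
    rw [hj, pow_mul, hcp, one_pow]
  have hcomA : ∀ g : G, g * u₀ * g⁻¹ * u₀⁻¹ ∈ A := by
    intro g
    have h1 := key _ 1 g rfl
    simp only [one_mul, inv_one, mul_one] at h1
    have h2 : u₀⁻¹ * (g * u₀ * g⁻¹) ∈ A := by
      refine hsmall _ ?_ h1
      simpa using hdiff 1 g
    have h3 := hAcent _ h2 u₀ hu₀C
    rw [mul_inv_cancel_left] at h3
    have h4 : g * u₀ * g⁻¹ * u₀⁻¹ = u₀⁻¹ * (g * u₀ * g⁻¹) := by
      rw [mul_inv_eq_iff_eq_mul]; exact h3
    rwa [h4]
  -- so `A ⟨u₀⟩` is bigger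
  set B := A ⊔ zpowers u₀ with hB
  have hBn : B.Normal := ⟨fun b hb g => by
    have h : B.map (MulAut.conj g).toMonoidHom ≤ B := by
      rw [hB, Subgroup.map_sup, MonoidHom.map_zpowers, sup_le_iff, zpowers_le]
      refine ⟨fun _ ⟨a, ha, e⟩ => e ▸ mem_sup_left (Normal.conj_mem inferInstance a ha g), ?_⟩
      have := mul_mem_sup (hcomA g) (mem_zpowers u₀)
      simpa using this
    exact h ⟨b, hb, rfl⟩⟩
  have hBmem : ∀ b ∈ B, ∃ a ∈ A, ∃ k : ℤ, b = a * u₀ ^ k := by
    intro b hb
    obtain ⟨a, ha, z, hz, rfl⟩ := mem_sup_of_normal_left.1 hb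
    obtain ⟨k, rfl⟩ := mem_zpowers_iff.1 hz
    exact ⟨a, ha, k, rfl⟩
  have hBeq := hmax B hBn ⟨⟨fun b c => Subtype.ext (by
    obtain ⟨a, ha, k, e1⟩ := hBmem b b.2
    obtain ⟨a', ha', l, e2⟩ := hBmem c c.2
    have c1 : Commute a a' :=
      congrArg Subtype.val (hA.is_comm.comm (⟨a, ha⟩ : A) ⟨a', ha'⟩)
    have c2 : Commute a (u₀ ^ l) := (hAcent a ha _ (zpow_mem hu₀C l)).symm
    have c3 : Commute (u₀ ^ k) a' := hAcent a' ha' _ (zpow_mem hu₀C k)
    have c4 : Commute (u₀ ^ k) (u₀ ^ l) := ((Commute.refl u₀).zpow_zpow k l)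
    change (b : G) * c = c * b
    rw [e1, e2]
    exact ((c1.mul_right c2).mul_left (c3.mul_right c4)).eq)⟩⟩
    (fun b hb => by
      obtain ⟨a, ha, k, rfl⟩ := hBmem b hb
      have c2 : Commute a (u₀ ^ k) := (hAcent a ha _ (zpow_mem hu₀C k)).symm
      rw [c2.mul_pow, hAe a ha, one_mul, ← zpow_natCast, ← zpow_mul, mul_comm, zpow_mul,
        zpow_natCast, hu₀q, one_zpow]) le_sup_left
  exact hu₀A (hBeq ▸ mem_sup_right (mem_zpowers u₀))

end CfsgLib.Transfer
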