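import Cfsg.Agent.Lib.Transfer.ClassTwo

/-!
# Powers of products in groups of class three
-/

namespace CfsgLib.Transfer

open Subgroup
open scoped commutatorElement

variable {G : Type*} [Group G]

theorem commutatorElement_mem_center_of_class_three
    (h : ⁅⁅_root_.commutator G, (⊤ : Subgroup G)⁆, (⊤ : Subgroup G)⁆ = ⊥) (a b c : G) :
    ⁅⁅a, b⁆, c⁆ ∈ center G := by
  rw [mem_center_iff]
  intro g
  have := commutator_mem_commutator (commutator_mem_commutator
    (commutator_mem_commutator (mem_top a) (mem_top b)) (mem_top c)) (mem_top g)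
  rw [← commutator_def, h, mem_bot, commutatorElement_eq_one_iff_mul_comm] at this
  exact this.symm

/-- `(xy)^n = x^n y^n c^C(n,2) d^C(n+1,3) e^(2 C(n+1,3))` with `c = [y,x]`, `d = [c,x]`,
`e = [c,y]` central. -/
theorem mul_pow_class_three {x y : G} (hd : ⁅⁅y, x⁆, x⁆ ∈ center G)
    (he : ⁅⁅y, x⁆, y⁆ ∈ center G) (n : ℕ) :
    (x * y) ^ n = x ^ n * y ^ n * ⁅y, x⁆ ^ n.choose 2 *
      (⁅⁅y, x⁆, x⁆ ^ (n + 1).choose 3 * ⁅⁅y, x⁆, y⁆ ^ (2 * (n + 1).choose 3)) := by
  set c := ⁅y, x⁆ with hc
  set d := ⁅c, x⁆ with hdd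
  set e := ⁅c, y⁆ with hee
  have cd : ∀ (g : G) (i : ℕ), g * d ^ i = d ^ i * g := fun g i => mem_center_iff.1 (pow_mem hd i) g
  have ce : ∀ (g : G) (i : ℕ), g * e ^ i = e ^ i * g := fun g i => mem_center_iff.1 (pow_mem he i) g
  have hyx : y * x = c * (x * y) := mul_comm_eq_commutatorElement x y
  have hcx : ∀ i : ℕ, c ^ i * x = x * c ^ i * d ^ i := by
    intro i
    induction i with
    | zero => simp
    | succ i ih =>
      have h1 : c * x = x * c * d := by
        rw [mul_comm_eq_commutatorElement x c, ← hdd]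
        simpa using (cd (x * c) 1).symm
      calc c ^ (i + 1) * x = c ^ i * (x * c * d) := by rw [pow_succ, mul_assoc, h1]
        _ = c ^ i * x * c * d := by simp only [mul_assoc]
        _ = x * c ^ i * (d ^ i * c) * d := by rw [ih]; simp only [mul_assoc]
        _ = x * c ^ (i + 1) * d ^ (i + 1) := by
          rw [← cd c i, pow_succ c, pow_succ d]; simp only [mul_assoc]
  have hcy : ∀ i : ℕ, c ^ i * y = y * c ^ i * e ^ i := by
    intro i
    induction i with
    | zero => simp
    | succ i ih =>
      have h1 : c * y = y * c * e := by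
        rw [mul_comm_eq_commutatorElement y c, ← hee]
        simpa using (ce (y * c) 1).symm
      calc c ^ (i + 1) * y = c ^ i * (y * c * e) := by rw [pow_succ, mul_assoc, h1]
        _ = c ^ i * y * c * e := by simp only [mul_assoc]
        _ = y * c ^ i * (e ^ i * c) * e := by rw [ih]; simp only [mul_assoc]
        _ = y * c ^ (i + 1) * e ^ (i + 1) := by
          rw [← ce c i, pow_succ c, pow_succ e]; simp only [mul_assoc]
  have hcyk : ∀ k : ℕ, c * y ^ k = y ^ k * c * e ^ k := by
    intro k
    induction k with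
    | zero => simp
    | succ k ih =>
      have h1 : c * y = y * c * e := by simpa using hcy 1
      calc c * y ^ (k + 1) = y ^ k * c * (e ^ k * y) := by
            rw [pow_succ, ← mul_assoc, ih]; simp only [mul_assoc]
        _ = y ^ k * (c * y) * e ^ k := by rw [← ce y k]; simp only [mul_assoc]
        _ = y ^ (k + 1) * c * (e * e ^ k) := by rw [h1, pow_succ]; simp only [mul_assoc]
        _ = y ^ (k + 1) * c * e ^ (k + 1) := by rw [← pow_succ']
  have hyk : ∀ k : ℕ, y ^ k * x = x * y ^ k * c ^ k * (d ^ k * e ^ (k + 1).choose 2) := by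
    intro k
    induction k with
    | zero => simp
    | succ k ih =>
      have h0 : y * x = x * y * c * (d * e) := by
        have h1 : c * x = x * c * d := by simpa using hcx 1
        have h2 : c * y = y * c * e := by simpa using hcy 1
        have h3 : y * d = d * y := by simpa using cd y 1
        have h4 : e * d = d * e := by simpa using cd e 1
        calc y * x = c * x * y := by rw [hyx, mul_assoc]
          _ = x * (c * y) * d := by rw [h1, mul_assoc, ← h3]; simp only [mul_assoc]
          _ = x * y * c * (e * d) := by rw [h2]; simp only [mul_assoc]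
          _ = _ := by rw [h4]
      calc y ^ (k + 1) * x = y * (x * y ^ k * c ^ k * (d ^ k * e ^ (k + 1).choose 2)) := by
            rw [pow_succ', mul_assoc, ih]
        _ = (y * x) * (y ^ k * c ^ k * (d ^ k * e ^ (k + 1).choose 2)) := by simp only [mul_assoc]
        _ = x * y * c * ((d * e) * (y ^ k * c ^ k)) * (d ^ k * e ^ (k + 1).choose 2) := by
          rw [h0]; simp only [mul_assoc]
        _ = x * y * (c * y ^ k) * c ^ k * ((d * e) * (d ^ k * e ^ (k + 1).choose 2)) := by
          have h5 : Commute (d * e) (y ^ k * c ^ k) :=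
            (mem_center_iff.1 (mul_mem hd he) _).symm
          rw [h5.eq]; simp only [mul_assoc]
        _ = x * (y * y ^ k) * (c * c ^ k) * (e ^ k * ((d * e) * (d ^ k * e ^ (k + 1).choose 2))) := by
          rw [hcyk]; simp only [mul_assoc]
          rw [← mul_assoc (e ^ k) (c ^ k), ← ce (c ^ k) k]; simp only [mul_assoc]
        _ = x * y ^ (k + 1) * c ^ (k + 1) * (d ^ (k + 1) * e ^ (k + 1 + 1).choose 2) := by
          rw [← pow_succ', ← pow_succ']
          congr 1
          calc e ^ k * ((d * e) * (d ^ k * e ^ (k + 1).choose 2))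
              = d * (e ^ (k + 1)) * d ^ k * e ^ (k + 1).choose 2 := by
                rw [pow_succ, ← mul_assoc, ← mul_assoc (e ^ k) d, ← ce d k]
                simp only [mul_assoc]
            _ = d * d ^ k * (e ^ (k + 1) * e ^ (k + 1).choose 2) := by
                rw [mul_assoc d (e ^ (k + 1)), cd (e ^ (k + 1)) k]; simp only [mul_assoc]
            _ = _ := by
                rw [← pow_succ', ← pow_add, Nat.choose_succ_succ (k + 1) 1, Nat.choose_one_right]
  induction n with
  | zero => simp [Nat.choose]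
  | succ n ih =>
    set A := n.choose 2
    set B := (n + 1).choose 3
    have hcen : ∀ i j : ℕ, d ^ i * e ^ j ∈ center G := fun i j => mul_mem (pow_mem hd i) (pow_mem he j)
    have hm : ∀ {z : G}, z ∈ center G → ∀ g, z * g = g * z := fun hz g => (mem_center_iff.1 hz g).symm
    calc (x * y) ^ (n + 1) = x ^ n * y ^ n * (c ^ A * x) * y * (d ^ B * e ^ (2 * B)) := by
          rw [pow_succ, ih, mul_assoc _ _ (x * y), hm (hcen B (2 * B)) (x * y)]
          simp only [mul_assoc]
      _ = x ^ n * (y ^ n * x) * (c ^ A * y) * (d ^ A * (d ^ B * e ^ (2 * B))) := by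
          rw [hcx]
          simp only [mul_assoc]
          rw [← mul_assoc (d ^ A) y, ← cd y A]
          simp only [mul_assoc]
      _ = x ^ n * x * y ^ n * (c ^ n * y) * c ^ A *
            ((d ^ n * e ^ (n + 1).choose 2) * (e ^ A * (d ^ A * (d ^ B * e ^ (2 * B))))) := by
          rw [hyk, hcy A]
          simp only [mul_assoc]
          rw [← mul_assoc (d ^ n) (e ^ (n + 1).choose 2), ← mul_assoc (d ^ n * _) y,
            hm (hcen n _) y]
          simp only [mul_assoc]
          rw [← mul_assoc (d ^ n) (e ^ (n + 1).choose 2), ← mul_assoc (d ^ n * _) (c ^ A),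
            hm (hcen n _) (c ^ A)]
          simp only [mul_assoc]
      _ = x ^ (n + 1) * y ^ (n + 1) * (c ^ n * c ^ A) *
            (e ^ n * ((d ^ n * e ^ (n + 1).choose 2) * (e ^ A * (d ^ A * (d ^ B * e ^ (2 * B)))))) := by
          rw [hcy n, pow_succ x, pow_succ y]
          simp only [mul_assoc]
          rw [← mul_assoc (e ^ n) (c ^ A), ← ce (c ^ A) n]
          simp only [mul_assoc]
      _ = _ := by
          rw [← pow_add, show n + A = (n + 1).choose 2 by
            rw [Nat.choose_succ_succ, Nat.choose_one_right]]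
          congr 1
          have hn1 : (n + 1).choose 2 = n + A := by
            rw [Nat.choose_succ_succ, Nat.choose_one_right]
          have hn2 : (n + 1 + 1).choose 3 = (n + 1).choose 2 + B := Nat.choose_succ_succ (n + 1) 2
          set K := (n + 1).choose 2
          calc e ^ n * ((d ^ n * e ^ K) * (e ^ A * (d ^ A * (d ^ B * e ^ (2 * B)))))
              = d ^ n * (e ^ n * e ^ K * e ^ A) * (d ^ A * (d ^ B * e ^ (2 * B))) := by
                rw [← mul_assoc (e ^ n), ← mul_assoc (e ^ n) (d ^ n), ← ce (d ^ n) n]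
                simp only [mul_assoc]
            _ = d ^ n * (d ^ A * d ^ B) * ((e ^ n * e ^ K * e ^ A) * e ^ (2 * B)) := by
                have h6 := (cd (e ^ n * e ^ K * e ^ A) (A + B))
                rw [pow_add] at h6
                simp only [mul_assoc] at h6 ⊢
                rw [← mul_assoc (e ^ n) , ← mul_assoc (e ^ n * _), ← mul_assoc (e ^ n * _ * _)]
                simp only [← mul_assoc] at h6 ⊢
                congr 1
                simp only [mul_assoc] at h6 ⊢
                rw [h6]
            _ = d ^ (n + 1 + 1).choose 3 * e ^ (2 * (n + 1 + 1).choose 3) := by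
                rw [← pow_add, ← pow_add, ← pow_add, ← pow_add, ← pow_add, hn2]
                congr 2 <;> omega

/-- In a `p`-group of class at most three, `p > 3`, the elements of order dividing `p` form a
subgroup. -/
theorem pow_eq_one_of_mem_closure_class_three {p : ℕ} (hp : p.Prime) (hp3 : 3 < p)
    (h3 : ∀ a b c : G, ⁅⁅a, b⁆, c⁆ ∈ center G) {g : G} (hg : g ∈ closure {x : G | x ^ p = 1}) :
    g ^ p = 1 := by
  -- two elements of order `p` generating a subgroup of class two
  have two : ∀ a b : G, a ^ p = 1 → b ^ p = 1 → ⁅b, a⁆ ∈ center G → (a * b) ^ p = 1 := by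
    intro a b ha hb hc
    have hd : ⁅⁅b, a⁆, a⁆ = 1 :=
      commutatorElement_eq_one_iff_mul_comm.2 (mem_center_iff.1 hc a).symm
    have he : ⁅⁅b, a⁆, b⁆ = 1 :=
      commutatorElement_eq_one_iff_mul_comm.2 (mem_center_iff.1 hc b).symm
    rw [mul_pow_class_three (h3 _ _ _) (h3 _ _ _), hd, he, ha, hb]
    have hcp : ⁅b, a⁆ ^ p = 1 := by
      have hba : a * b⁻¹ * a⁻¹ = ⁅b, a⁆ * b⁻¹ * 1 := by
        rw [mul_one, ← mem_center_iff.1 hc b⁻¹, commutatorElement_def]; group
      have h1 : (a * b⁻¹ * a⁻¹) ^ p = 1 := by rw [conj_pow, inv_pow, hb]; simp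
      rw [hba, mul_one, (show Commute ⁅b, a⁆ b⁻¹ from (mem_center_iff.1 hc b⁻¹).symm).mul_pow,
        inv_pow, hb, inv_one, mul_one] at h1
      exact h1
    obtain ⟨k, hk⟩ := Nat.Prime.dvd_choose_self hp (k := 2) (by norm_num) (by omega)
    rw [hk, pow_mul, hcp]
    simp
  induction hg using closure_induction with
  | mem x hx => exact hx
  | one => exact one_pow p
  | inv x _ hx => rw [inv_pow, hx, inv_one]
  | mul x y _ _ hx hy =>
    set c := ⁅y, x⁆ with hc
    have hcp : c ^ p = 1 := by
      have h1 : c = (y * x * y⁻¹) * x⁻¹ := rfl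
      rw [h1]
      refine two _ _ (by rw [conj_pow, hx]; simp) (by rw [inv_pow, hx, inv_one]) ?_
      have e : ⁅x⁻¹, y * x * y⁻¹⁆ = x⁻¹ * ⁅c, x⁆ * x⁻¹⁻¹ := by
        rw [hc]; simp only [commutatorElement_def]; group
      rw [e, mem_center_iff.1 (h3 y x x) x⁻¹, mul_inv_cancel_right]
      exact h3 y x x
    have hsub : ∀ z : G, ⁅c, z⁆ ^ p = 1 := by
      intro z
      have hz : z * c⁻¹ * z⁻¹ = c⁻¹ * ⁅c, z⁆ := by simp [commutatorElement_def, mul_assoc]
      have hpow : (z * c⁻¹ * z⁻¹) ^ p = 1 := by rw [conj_pow, inv_pow, hcp]; simp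
      rw [hz, (show Commute c⁻¹ ⁅c, z⁆ from mem_center_iff.1 (h3 y x z) c⁻¹).mul_pow,
        inv_pow, hcp, inv_one, one_mul] at hpow
      exact hpow
    rw [mul_pow_class_three (h3 y x x) (h3 y x y), hx, hy]
    obtain ⟨k, hk⟩ := Nat.Prime.dvd_choose_self hp (k := 2) (by norm_num) (by omega)
    obtain ⟨l, hl⟩ : p ∣ (p + 1).choose 3 := by
      have h2 : (p + 1).choose 3 = p.choose 2 + p.choose 3 := Nat.choose_succ_succ p 2
      rw [h2]
      exact dvd_add ⟨k, hk⟩ (Nat.Prime.dvd_choose_self hp (by norm_num) hp3)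
    rw [hk, hl, pow_mul, hcp, pow_mul, hsub, show 2 * (p * l) = p * (2 * l) by ring, pow_mul, hsub]
    simp

end CfsgLib.Transfer
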