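import Cfsg.Agent.Lib.Transfer.PGroupNormal
import Cfsg.Agent.Lib.Transfer.ClassThree
import Cfsg.Agent.Lib.Transfer.Frobenius

/-!
# `p`-groups of rank at most two
-/

namespace CfsgLib.Transfer

open Subgroup
open scoped commutatorElement

variable {G : Type*} [Group G] [Finite G] {p : ℕ} [Fact p.Prime]

/-- A group of order dividing `p ^ 4` has class at most three. -/
theorem class_three_of_card_dvd (hG : Nat.card G ∣ p ^ 4) :
    ⁅⁅_root_.commutator G, (⊤ : Subgroup G)⁆, (⊤ : Subgroup G)⁆ = ⊥ := by
  have hp := (Fact.out : p.Prime)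
  obtain ⟨n, hn4, hn⟩ := (Nat.dvd_prime_pow hp).1 hG
  have hGp : IsPGroup p G := IsPGroup.of_card hn
  have hnil : Group.IsNilpotent (⊤ : Subgroup G) := (hGp.to_subgroup ⊤).isNilpotent
  have step : ∀ N : Subgroup G, N.Normal →
      ⁅N, (⊤ : Subgroup G)⁆ = ⊥ ∨ p * Nat.card ((⁅N, (⊤ : Subgroup G)⁆ : Subgroup G)) ≤ Nat.card N := by
    intro N hN
    by_cases h : ⁅N, (⊤ : Subgroup G)⁆ = ⊥
    · exact Or.inl h
    have hle : ⁅N, (⊤ : Subgroup G)⁆ ≤ N := commutator_le_left N ⊤
    have hlt : Nat.card ((⁅N, (⊤ : Subgroup G)⁆ : Subgroup G)) < Nat.card N := by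
      refine lt_of_le_of_ne (card_le_of_le hle) fun e => h ?_
      have e' := eq_of_le_of_card_ge hle e.ge
      rw [e']
      exact eq_bot_of_le_commutator (K := ⊤) le_top e'.ge
    refine Or.inr ?_
    obtain ⟨a, ha⟩ := (hGp.to_subgroup N).exists_card_eq
    obtain ⟨b, hb⟩ := (hGp.to_subgroup (⁅N, (⊤ : Subgroup G)⁆ : Subgroup G)).exists_card_eq
    rw [ha, hb] at hlt ⊢
    rw [← pow_succ']
    exact Nat.pow_le_pow_right hp.pos ((Nat.pow_lt_pow_iff_right hp.one_lt).1 hlt)
  by_contra hne
  rcases step _ (inferInstance : (_root_.commutator G).Normal) with h2 | h2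
  · exact hne (by rw [h2, commutator_bot_left])
  rcases step _ (inferInstance : (⁅_root_.commutator G, (⊤ : Subgroup G)⁆).Normal) with h3 | h3
  · exact hne h3
  -- the derived group has index at least `p ^ 2`
  have hidx : p * p ≤ (_root_.commutator G).index := by
    obtain ⟨k, _, hk⟩ := (Nat.dvd_prime_pow hp).1 (hn ▸ (_root_.commutator G).index_dvd_card)
    by_contra hlt
    rw [not_le, hk, ← sq, Nat.pow_lt_pow_iff_right hp.one_lt] at hlt
    set N := ⁅_root_.commutator G, (⊤ : Subgroup G)⁆
    have hcy : IsCyclic (G ⧸ _root_.commutator G) := by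
      have h4 : Nat.card (G ⧸ _root_.commutator G) = p ^ k := by rw [← index_eq_card, hk]
      interval_cases k
      · have := (Nat.card_eq_one_iff_unique.1 (h4.trans (pow_zero p))).1
        exact isCyclic_of_subsingleton
      · exact isCyclic_of_prime_card (h4.trans (pow_one p))
    have hNle : N ≤ _root_.commutator G := commutator_le_left _ _
    let f : G ⧸ N →* G ⧸ _root_.commutator G :=
      QuotientGroup.map N _ (MonoidHom.id G) hNle
    have hker : f.ker ≤ center (G ⧸ N) := by
      rintro q
      induction q using QuotientGroup.induction_on with | H c => ?_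
      intro hq
      rw [mem_center_iff]
      intro q'
      induction q' using QuotientGroup.induction_on with | H r => ?_
      refine (commutatorElement_eq_one_iff_mul_comm.1 ?_).symm
      exact (map_commutatorElement (QuotientGroup.mk' N) c r).symm.trans
        ((QuotientGroup.eq_one_iff _).2 (commutator_mem_commutator
          ((QuotientGroup.eq_one_iff c).1 hq) (mem_top r)))
    have hle : _root_.commutator G ≤ N :=
      (Normal.quotient_commutative_iff_commutator_le (N := N)).1
        (f.isMulCommutative_of_isCyclic_of_ker_le_center hker)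
    have h5 := eq_bot_of_le_commutator (K := ⊤) le_top hle
    rw [h5, card_bot] at h2
    have h6 : 0 < Nat.card (N : Subgroup G) := Nat.card_pos
    nlinarith [hp.two_le]
  have h1 := (_root_.commutator G).card_mul_index
  rw [hn] at h1
  have h4 : p ^ n ≤ p ^ 4 := Nat.pow_le_pow_right hp.pos hn4
  obtain ⟨c, hc⟩ := (hGp.to_subgroup
    ⁅⁅_root_.commutator G, (⊤ : Subgroup G)⁆, (⊤ : Subgroup G)⁆).exists_card_eq
  have hc0 : c ≠ 0 := by
    rintro rfl
    rw [pow_zero, Subgroup.card_eq_one] at hc
    exact hne hc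
  have h5 : p ≤ p ^ c := Nat.le_self_pow hc0 p
  have h6 : p * p * (p * p) * p ≤ (_root_.commutator G).index * Nat.card (_root_.commutator G) := by
    calc p * p * (p * p) * p = p * p * (p * (p * p)) := by ring
      _ ≤ (_root_.commutator G).index * Nat.card (_root_.commutator G) := by
          refine Nat.mul_le_mul hidx (le_trans (Nat.mul_le_mul_left p ?_) h2)
          exact le_trans (Nat.mul_le_mul_left p (hc ▸ h5)) h3
  have h7 : p ^ 4 < p * p * (p * p) * p := by
    rw [show p * p * (p * p) * p = p ^ 4 * p by ring]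
    exact lt_mul_right (pow_pos hp.pos 4) hp.one_lt
  rw [mul_comm] at h1
  omega

/-- For `p > 3`, in a `p`-group of rank at most two the elements of order dividing `p` form a
subgroup. -/
theorem pow_eq_one_of_mem_closure_rank_two (hp3 : 3 < p) (hG : IsPGroup p G)
    (hrk : ∀ E : Subgroup G, IsMulCommutative E → (∀ e ∈ E, e ^ p = 1) → Nat.card E ≤ p ^ 2)
    {g : G} (hg : g ∈ closure {x : G | x ^ p = 1}) : g ^ p = 1 := by
  have hp := (Fact.out : p.Prime)
  suffices key : ∀ n : ℕ, ∀ H : Subgroup G, Nat.card H = n → ∀ u ∈ H, ∀ v ∈ H, u ^ p = 1 →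
      v ^ p = 1 → (u * v) ^ p = 1 by
    induction hg using closure_induction with
    | mem x hx => exact hx
    | one => exact one_pow p
    | inv x _ hx => rw [inv_pow, hx, inv_one]
    | mul x y _ _ hx hy => exact key _ ⊤ rfl x (mem_top x) y (mem_top y) hx hy
  intro n
  induction n using Nat.strong_induction_on with
  | _ n ih =>
    intro H hn u hu v hv hup hvp
    set L := closure {u, v}
    have huL : u ∈ L := subset_closure (Set.mem_insert _ _)
    have hvL : v ∈ L := subset_closure (Set.mem_insert_of_mem _ rfl)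
    have hLH : L ≤ H := (closure_le _).2 (Set.insert_subset hu (Set.singleton_subset_iff.2 hv))
    rcases hLH.lt_or_eq with hlt | heq
    · exact ih _ (hn ▸ lt_of_le_of_ne (card_le_of_le hlt.le)
        fun e => hlt.ne (eq_of_le_of_card_ge hlt.le e.ge)) L rfl u huL v hvL hup hvp
    by_cases huv : Commute u v
    · rw [huv.mul_pow, hup, hvp, one_mul]
    obtain ⟨M, hM, hMu⟩ : ∃ M : Subgroup H, IsCoatom M ∧ zpowers (⟨u, hu⟩ : H) ≤ M := by
      refine (eq_top_or_exists_le_coatom _).resolve_left fun hz => huv ?_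
      obtain ⟨k, hk⟩ := mem_zpowers_iff.1 (hz ▸ mem_top (⟨v, hv⟩ : H))
      have hk' : u ^ k = v := congrArg Subtype.val hk
      rw [← hk']
      exact (Commute.refl u).zpow_right k
    obtain ⟨hMn, hMi⟩ := coatom_index_eq_prime (hG.to_subgroup H) hM
    -- the elements of order dividing `p` of `M` form a subgroup `W`
    have hlt : Nat.card (M.map H.subtype) < n := by
      rw [card_map_of_injective H.subtype_injective, ← hn]
      exact lt_of_le_of_ne M.card_le_card_group fun e => hM.1 (M.eq_top_of_card_eq e)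
    have hmul : ∀ a ∈ M, ∀ b ∈ M, a ^ p = 1 → b ^ p = 1 → (a * b) ^ p = 1 := fun a ha b hb hap hbp =>
      Subtype.ext (ih _ hlt _ rfl a (mem_map_of_mem _ ha) b (mem_map_of_mem _ hb)
        (congrArg Subtype.val hap) (congrArg Subtype.val hbp))
    let W : Subgroup H :=
      { carrier := {a | a ∈ M ∧ a ^ p = 1}
        one_mem' := ⟨one_mem _, one_pow p⟩
        mul_mem' := fun {a b} ha hb => ⟨mul_mem ha.1 hb.1, hmul a ha.1 b hb.1 ha.2 hb.2⟩
        inv_mem' := fun {a} ha => ⟨inv_mem ha.1, by rw [inv_pow, ha.2, inv_one]⟩ }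
    have hWn : W.Normal := ⟨fun a ha c => ⟨hMn.conj_mem a ha.1 c,
      by rw [conj_pow, ha.2, mul_one, mul_inv_cancel]⟩⟩
    -- `W` has order at most `p ^ 3`
    have hWc : Nat.card W ∣ p ^ 3 := by
      have hWp : IsPGroup p W := (hG.to_subgroup H).to_subgroup W
      obtain ⟨A, -, hA⟩ := Finite.exists_le_maximal
        (p := fun A : Subgroup W => A.Normal ∧ IsMulCommutative A) (a := ⊥)
        ⟨inferInstance, inferInstance⟩
      obtain ⟨hAn, hAc⟩ := hA.prop
      have hcen := centralizer_eq_of_maximal_normal_abelian hWp A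
        fun B hBn hBc hAB => le_antisymm (hA.le_of_ge ⟨hBn, hBc⟩ hAB) hAB
      obtain ⟨j, hj⟩ := (hWp.to_subgroup A).exists_card_eq
      have hmap : Nat.card ((A.map W.subtype).map H.subtype) = p ^ j := by
        rw [card_map_of_injective H.subtype_injective, card_map_of_injective W.subtype_injective, hj]
      have hj2 : j ≤ 2 := by
        refine (Nat.pow_le_pow_iff_right hp.one_lt).1 ?_
        rw [← hmap]
        refine hrk _ inferInstance ?_
        rintro _ ⟨_, ⟨a, -, rfl⟩, rfl⟩
        exact congrArg Subtype.val a.2.2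
      have hi := index_centralizer_le_of_normal hWp j A hj
      rw [hcen] at hi
      obtain ⟨m, hm⟩ := hWp.exists_card_eq
      rw [hm]
      refine pow_dvd_pow p ?_
      have h1 := A.card_mul_index
      rw [hm, hj] at h1
      refine (Nat.pow_le_pow_iff_right hp.one_lt).1 ?_
      rw [← h1]
      calc p ^ j * A.index ≤ p ^ 2 * p ^ (j * (j - 1) / 2) :=
            Nat.mul_le_mul (Nat.pow_le_pow_right hp.pos hj2) hi
        _ ≤ p ^ 2 * p ^ 1 := Nat.mul_le_mul_left _ (Nat.pow_le_pow_right hp.pos (by
            interval_cases j <;> norm_num))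
        _ = p ^ 3 := by ring
    have hHc : Nat.card H ∣ p ^ 4 := by
      have htop : W ⊔ zpowers (⟨v, hv⟩ : H) = ⊤ := by
        refine top_le_iff.1 fun x _ => ?_
        have hle : L ≤ (W ⊔ zpowers (⟨v, hv⟩ : H)).map H.subtype := (closure_le _).2 (by
          refine Set.insert_subset ?_ (Set.singleton_subset_iff.2 ?_)
          · exact ⟨⟨u, hu⟩, mem_sup_left ⟨hMu (mem_zpowers _), Subtype.ext hup⟩, rfl⟩
          · exact ⟨⟨v, hv⟩, mem_sup_right (mem_zpowers _), rfl⟩)
        obtain ⟨y, hy, hyx⟩ := hle (heq.ge x.2)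
        exact (Subtype.ext hyx : y = x) ▸ hy
      have h1 : W.index ∣ p := by
        rw [← relIndex_top_right, ← htop, relIndex_sup_left]
        refine (relIndex_dvd_card _ _).trans ?_
        rw [Nat.card_zpowers]
        exact orderOf_dvd_of_pow_eq_one (Subtype.ext hvp)
      rw [← W.card_mul_index, show p ^ 4 = p ^ 3 * p by ring]
      exact mul_dvd_mul hWc h1
    have h3 := commutatorElement_mem_center_of_class_three (class_three_of_card_dvd hHc)
    have h4 := pow_eq_one_of_mem_closure_class_three hp hp3 h3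
      (g := (⟨u, hu⟩ : H) * ⟨v, hv⟩)
      (mul_mem (subset_closure (Subtype.ext hup)) (subset_closure (Subtype.ext hvp)))
    exact congrArg Subtype.val h4

end CfsgLib.Transfer
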