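import Cfsg.Agent.Lib.Transfer.Frobenius

/-!
# Focal subgroups and control of fusion (Grün's theorems)
-/

namespace CfsgLib.Transfer

open Subgroup
open scoped Pointwise commutatorElement

variable {G : Type*} [Group G] [Finite G] {p : ℕ} [Fact p.Prime]

/-- The focal subgroup theorem for a subgroup whose index is prime to the order of the focal
quotient. -/
theorem commutator_inf_eq_focal_of_coprime (H : Subgroup G)
    (h : H.index.Coprime (Nat.card (H ⧸ H.focalSubgroupOf))) :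
    commutator G ⊓ H = H.focalSubgroup ∧ H.transferFocal.ker ⊓ H = H.focalSubgroup ∧
      H.transferFocal.ker ⊔ H = ⊤ := by
  have hbij : Function.Bijective fun y : H ⧸ H.focalSubgroupOf => y ^ H.index :=
    (powCoprime h.symm).bijective
  have hker : H.transferFocal.ker ⊓ H = H.focalSubgroup := by
    refine le_antisymm ?_ ?_
    · rintro x ⟨hx, hxH⟩
      have h1 : ((⟨x, hxH⟩ : H) : H ⧸ H.focalSubgroupOf) ^ H.index = 1 := by
        rw [← transferFocal_eq_pow]; exact hx
      have h2 : ((⟨x, hxH⟩ : H) : H ⧸ H.focalSubgroupOf) = 1 := hbij.1 (by simpa using h1)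
      rwa [QuotientGroup.eq_one_iff, focalSubgroupOf_def, mem_subgroupOf] at h2
    · intro x hx
      refine ⟨?_, focalSubgroup_le _ hx⟩
      change H.transferFocal ((⟨x, focalSubgroup_le _ hx⟩ : H) : G) = 1
      rw [transferFocal_eq_pow, (QuotientGroup.eq_one_iff
        (⟨x, focalSubgroup_le _ hx⟩ : H)).2 hx, one_pow]
  refine ⟨?_, hker, ?_⟩
  · refine le_antisymm ?_ (le_inf (focalSubgroup_le_commutator _) (focalSubgroup_le _))
    open scoped IsMulCommutative in
    exact (inf_le_inf_right _ (Abelianization.commutator_subset_ker H.transferFocal)).trans hker.le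
  · refine top_le_iff.1 fun g _ => ?_
    obtain ⟨y, hy⟩ := hbij.2 (H.transferFocal g)
    obtain ⟨y, rfl⟩ := QuotientGroup.mk'_surjective _ y
    have hy' : H.transferFocal (y : G) = H.transferFocal g := by
      rw [transferFocal_eq_pow]; exact hy
    have hmem : g * (y : G)⁻¹ ∈ H.transferFocal.ker := by
      rw [MonoidHom.mem_ker, map_mul, map_inv, hy', mul_inv_cancel]
    have := mul_mem_sup hmem y.2
    rwa [inv_mul_cancel_right] at this

omit [Finite G] [Fact p.Prime] in
/-- `V` controls fusion in `H`: every commutator in the focal subgroup comes from `V`. -/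
theorem focalSubgroup_le_of_controls {H V : Subgroup G}
    (h : ∀ x ∈ H, ∀ g : G, g * x * g⁻¹ ∈ H → ∃ v ∈ V, v * x * v⁻¹ = g * x * g⁻¹) :
    H.focalSubgroup ≤ ⁅H, V⁆ := by
  rw [focalSubgroup_def, closure_le]
  rintro _ ⟨hmem, x, hx, u, rfl⟩
  have hy : u * x⁻¹ * u⁻¹ ∈ H := by
    have := mul_mem (inv_mem hx) hmem
    simpa [commutatorElement_def, mul_assoc] using this
  obtain ⟨v, hv, hvu⟩ := h x⁻¹ (inv_mem hx) u hy
  have : ⁅x, u⁆ = ⁅x, v⁆ := by simp only [commutatorElement_def, mul_assoc] at hvu ⊢; rw [hvu]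
  rw [SetLike.mem_coe, this]
  exact commutator_mem_commutator hx hv

omit [Finite G] [Fact p.Prime] in
theorem commutator_le_subgroup_commutator {H V : Subgroup G} (hHV : H ≤ V) :
    ⁅H, V⁆ ≤ ⁅V, V⁆ :=
  commutator_mono hHV le_rfl

omit [Finite G] [Fact p.Prime] in
theorem subgroup_commutator_le_commutator (H V : Subgroup G) : ⁅H, V⁆ ≤ commutator G :=
  commutator_mono le_top le_top

/-- If `V ≥ P` controls fusion in `P` then `G' ∩ P = V' ∩ P`. -/
theorem commutator_inf_eq_of_controls (P : Sylow p G) {V : Subgroup G}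
    (hPV : (P : Subgroup G) ≤ V)
    (h : ∀ x ∈ P, ∀ g : G, g * x * g⁻¹ ∈ P → ∃ v ∈ V, v * x * v⁻¹ = g * x * g⁻¹) :
    commutator G ⊓ (P : Subgroup G) = ⁅V, V⁆ ⊓ (P : Subgroup G) := by
  refine le_antisymm ?_ (inf_le_inf_right _ (subgroup_commutator_le_commutator V V))
  rw [commutator_inf_eq_focalSubgroup]
  exact le_inf ((focalSubgroup_le_of_controls h).trans (commutator_le_subgroup_commutator hPV))
    (focalSubgroup_le _)

/-- If `V ≥ P` controls fusion in `P` then `P ∩ O^p(G) = P ∩ O^p(V)`. -/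
theorem inf_pResidual_eq_of_controls (P : Sylow p G) {V : Subgroup G}
    (hPV : (P : Subgroup G) ≤ V)
    (h : ∀ x ∈ P, ∀ g : G, g * x * g⁻¹ ∈ P → ∃ v ∈ V, v * x * v⁻¹ = g * x * g⁻¹) :
    (P : Subgroup G) ⊓ Cfsg.pResidual p G =
      (P : Subgroup G) ⊓ (Cfsg.pResidual p V).map V.subtype := by
  refine le_antisymm (le_inf inf_le_left ?_) (inf_le_inf_left _ (map_pResidual_le _))
  have hKn := pResidual_normal (G := G) (p := p)
  set K := Cfsg.pResidual p G
  obtain ⟨S, hS⟩ := exists_sylow_eq_subgroupOf P K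
  set R := Cfsg.pResidual p V with hR
  have hRn : R.Normal := pResidual_normal
  let f := QuotientGroup.mk' R
  have hfp : IsPGroup p (V ⧸ R) := isPGroup_quotient_of_pResidual_le le_rfl
  set Q : Subgroup V := ((P : Subgroup G) ⊓ K).subgroupOf V with hQ
  -- `Q ≤ [Q, V]`
  have hQV : Q ≤ ⁅Q, ⊤⁆ := by
    have hfoc : (S : Subgroup K) ≤ (S : Subgroup K).focalSubgroup := by
      rw [← ker_transferFocal_inf_eq_focalSubgroup S]
      exact le_inf (fun x _ => eq_one_of_pResidual_eq_top _ (S.2.to_quotient _)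
        pResidual_pResidual x) le_rfl
    have hmap : (S : Subgroup K).focalSubgroup.map K.subtype ≤ ⁅(P : Subgroup G) ⊓ K, V⁆ := by
      rw [focalSubgroup_def, MonoidHom.map_closure, closure_le]
      rintro _ ⟨_, ⟨hmem, x, hx, u, rfl⟩, rfl⟩
      rw [hS, mem_subgroupOf] at hx hmem
      have hy : (u : G) * (x : G)⁻¹ * (u : G)⁻¹ ∈ (P : Subgroup G) := by
        have := mul_mem (inv_mem hx) hmem
        simpa [commutatorElement_def, mul_assoc] using this
      obtain ⟨v, hv, hvu⟩ := h (x : G)⁻¹ (inv_mem hx) (u : G) hy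
      have : K.subtype ⁅x, u⁆ = ⁅(x : G), v⁆ := by
        simp only [commutatorElement_def, coe_subtype, Subgroup.coe_mul, InvMemClass.coe_inv,
          mul_assoc] at hvu ⊢
        rw [hvu]
      rw [SetLike.mem_coe, this]
      exact commutator_mem_commutator ⟨hx, x.2⟩ hv
    intro x hx
    have hx' : (x : G) ∈ (P : Subgroup G) ⊓ K := hx
    have h1 : (x : G) ∈ ⁅(P : Subgroup G) ⊓ K, V⁆ :=
      hmap ⟨⟨x, hx'.2⟩, hfoc (by rw [hS]; exact hx'.1), rfl⟩
    have h2 : ⁅(P : Subgroup G) ⊓ K, V⁆ = (⁅Q, ⊤⁆ : Subgroup V).map V.subtype := by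
      rw [map_commutator, hQ, map_subgroupOf_eq_of_le (inf_le_left.trans hPV),
        ← MonoidHom.range_eq_map, range_subtype]
    rw [h2] at h1
    obtain ⟨y, hy, hyx⟩ := h1
    rwa [← Subtype.val_injective hyx]
  have hbot : Q.map f = ⊥ := by
    have := hfp.isNilpotent
    have htop : Group.IsNilpotent (⊤ : Subgroup (V ⧸ R)) := Group.isNilpotent_top.2 this
    refine eq_bot_of_le_commutator (K := ⊤) le_top ?_
    rw [← map_top_of_surjective f (QuotientGroup.mk'_surjective R), ← map_commutator]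
    exact map_mono hQV
  intro x hx
  have hxV : x ∈ V := hPV hx.1
  have h1 : (⟨x, hxV⟩ : V) ∈ R := by
    rw [← QuotientGroup.eq_one_iff, ← mem_bot, ← hbot]
    exact ⟨⟨x, hxV⟩, hx, rfl⟩
  exact ⟨_, h1, rfl⟩

/-- Burnside: the normalizer of an abelian Sylow subgroup controls fusion in it. -/
theorem abelian_sylow_controls (P : Sylow p G) [IsMulCommutative (P : Subgroup G)] :
    ∀ x ∈ P, ∀ g : G, g * x * g⁻¹ ∈ P →
      ∃ v ∈ normalizer ((P : Subgroup G) : Set G), v * x * v⁻¹ = g * x * g⁻¹ := by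
  intro x hx g hg
  obtain ⟨n, hn, hnx⟩ := P.conj_eq_normalizer_conj_of_mem x g⁻¹ hx (by rwa [inv_inv])
  exact ⟨n⁻¹, inv_mem hn, by simpa [inv_inv] using hnx.symm⟩

/-- A weakly closed subgroup of the centre of a Sylow subgroup controls fusion in it. -/
theorem weaklyClosed_controls (P : Sylow p G) {Z : Subgroup G}
    (hZ : Z ≤ centralizer ((P : Subgroup G) : Set G)) (hW : Cfsg.IsWeaklyClosed Z (P : Subgroup G)) :
    ∀ x ∈ P, ∀ g : G, g * x * g⁻¹ ∈ P →
      ∃ v ∈ normalizer (Z : Set G), v * x * v⁻¹ = g * x * g⁻¹ := by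
  intro x hx g hg
  set C := centralizer ({x} : Set G)
  have hC1 : Z ≤ C := fun z hz => mem_centralizer_singleton_iff.2
    (mem_centralizer_iff.1 (hZ hz) x hx).symm
  have hC2 : Z.map (MulAut.conj g⁻¹).toMonoidHom ≤ C := by
    rintro _ ⟨z, hz, rfl⟩
    rw [mem_centralizer_singleton_iff]
    have h := mem_centralizer_iff.1 (hZ hz) _ hg
    simp only [MulEquiv.coe_toMonoidHom, MulAut.conj_apply, inv_inv]
    have h' := congrArg (fun w => g⁻¹ * w * g) h
    simpa [mul_assoc] using h'.symm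
  have hZp : IsPGroup p Z := P.2.to_le hW.1
  obtain ⟨T1, hT1⟩ := (hZp.comap_subtype (K := C)).exists_le_sylow
  obtain ⟨T2, hT2⟩ := ((hZp.map (MulAut.conj g⁻¹).toMonoidHom).comap_subtype (K := C)).exists_le_sylow
  obtain ⟨c, rfl⟩ := MulAction.exists_smul_eq C T2 T1
  obtain ⟨S, hS⟩ := ((c • T2).2.map C.subtype).exists_le_sylow
  obtain ⟨a, rfl⟩ := MulAction.exists_smul_eq G P S
  have hmem : ∀ y : G, y ∈ (((a • P : Sylow p G) : Subgroup G)) → a⁻¹ * y * a ∈ (P : Subgroup G) :=
    fun y hy => sylow_smul_mem_iff.1 hy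
  have hmap : ∀ b : G, (∀ z ∈ Z, b * z * b⁻¹ ∈ (P : Subgroup G)) →
      b ∈ normalizer (Z : Set G) := fun b hb =>
    mem_normalizer_iff_map_conj_eq.2 (hW.2 b (by rintro _ ⟨z, hz, rfl⟩; exact hb z hz))
  have ha : a⁻¹ ∈ normalizer (Z : Set G) := hmap _ fun z hz => by
    rw [inv_inv]
    exact hmem z (hS ⟨⟨z, hC1 hz⟩, hT1 hz, rfl⟩)
  have hb : a⁻¹ * c * g⁻¹ ∈ normalizer (Z : Set G) := hmap _ fun z hz => by
    have hzC : g⁻¹ * z * g ∈ C := hC2 ⟨z, hz, by simp⟩
    have h1 : c * ⟨g⁻¹ * z * g, hzC⟩ * c⁻¹ ∈ (c • T2 : Sylow p C) := by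
      rw [sylow_smul_mem_iff]
      have h2 : (⟨g⁻¹ * z * g, hzC⟩ : C) ∈ T2 := hT2 ⟨z, hz, by simp⟩
      simpa [mul_assoc] using h2
    simpa [mul_assoc] using hmem _ (hS ⟨_, h1, rfl⟩)
  refine ⟨g * (c : G)⁻¹, ?_, ?_⟩
  · have := mul_mem (inv_mem hb) ha
    simpa [mul_assoc] using this
  · have hc : (c : G) * x = x * c := mem_centralizer_singleton_iff.1 c.2
    have h2 : (c : G)⁻¹ * x * c = x := by rw [mul_assoc, ← hc, inv_mul_cancel_left]
    calc g * (c : G)⁻¹ * x * (g * (c : G)⁻¹)⁻¹ = g * ((c : G)⁻¹ * x * c) * g⁻¹ := by group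
      _ = g * x * g⁻¹ := by rw [h2]

/-- For an abelian Sylow subgroup `G' ∩ P = [P, N(P)]`. -/
theorem commutator_inf_abelian_sylow (P : Sylow p G) [IsMulCommutative (P : Subgroup G)] :
    commutator G ⊓ (P : Subgroup G) =
      ⁅(P : Subgroup G), normalizer ((P : Subgroup G) : Set G)⁆ := by
  refine le_antisymm ?_ (le_inf (subgroup_commutator_le_commutator _ _) ?_)
  · rw [commutator_inf_eq_focalSubgroup]
    exact focalSubgroup_le_of_controls (abelian_sylow_controls P)
  · rw [commutator_le]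
    intro x hx n hn
    have h1 := (mem_normalizer_iff.1 hn x⁻¹).1 (inv_mem hx)
    have := mul_mem hx h1
    simpa [commutatorElement_def, mul_assoc] using this

/-- For an abelian Sylow subgroup `G' ≤ O^p(G)`. -/
theorem commutator_le_pResidual (P : Sylow p G) [IsMulCommutative (P : Subgroup G)] :
    commutator G ≤ Cfsg.pResidual p G := by
  have := pResidual_normal (G := G) (p := p)
  rw [← Normal.quotient_commutative_iff_commutator_le]
  refine ⟨⟨fun a b => ?_⟩⟩
  have key : ∀ q : G ⧸ Cfsg.pResidual p G, ∃ x : (P : Subgroup G),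
      ((x : G) : G ⧸ Cfsg.pResidual p G) = q := by
    intro q
    obtain ⟨g, rfl⟩ := QuotientGroup.mk_surjective q
    have hg : g ∈ ((Cfsg.pResidual p G : Subgroup G) : Set G) * ((P : Subgroup G) : Set G) := by
      rw [← normal_mul, pResidual_sup_sylow]; trivial
    obtain ⟨k, hk, x, hx, rfl⟩ := hg
    exact ⟨⟨x, hx⟩, (by rw [QuotientGroup.mk_mul, (QuotientGroup.eq_one_iff k).2 hk, one_mul])⟩
  obtain ⟨x, rfl⟩ := key a
  obtain ⟨y, rfl⟩ := key b
  exact congrArg (QuotientGroup.mk (s := Cfsg.pResidual p G))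
    (congrArg Subtype.val (IsMulCommutative.is_comm.comm x y) :)
  

/-- `P ∩ O^p(G) = [P, N(P)]` for an abelian Sylow subgroup. -/
theorem inf_pResidual_abelian_sylow (P : Sylow p G) [IsMulCommutative (P : Subgroup G)] :
    (P : Subgroup G) ⊓ Cfsg.pResidual p G =
      ⁅(P : Subgroup G), normalizer ((P : Subgroup G) : Set G)⁆ := by
  rw [← commutator_inf_abelian_sylow]
  refine le_antisymm (le_inf ?_ inf_le_left) (le_inf inf_le_right
    (inf_le_left.trans (commutator_le_pResidual P)))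
  calc (P : Subgroup G) ⊓ Cfsg.pResidual p G
      ≤ P.transferFocal.ker ⊓ (P : Subgroup G) :=
        le_inf (inf_le_right.trans (pResidual_le_ker _ (P.2.to_quotient _))) inf_le_left
    _ = (P : Subgroup G).focalSubgroup := ker_transferFocal_inf_eq_focalSubgroup P
    _ ≤ _ := focalSubgroup_le_commutator _

end CfsgLib.Transfer
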