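import Cfsg.Agent.Lib.Transfer.Frobenius
import Mathlib.GroupTheory.SpecificGroups.Alternating
import Mathlib.GroupTheory.Subgroup.Simple

/-!
# Auxiliary lemmas on Sylow subgroups and simple groups of permutations
-/

namespace CfsgLib.Transfer

open Subgroup
open scoped Pointwise

variable {G : Type*} [Group G] [Finite G] {p : ℕ} [Fact p.Prime]

/-- Brodkey: if the Sylow subgroups are abelian, some two of them meet in their total
intersection. -/
theorem exists_inf_eq_iInf_of_abelian
    (hab : ∀ P : Sylow p G, IsMulCommutative (P : Subgroup G)) :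
    ∃ P Q : Sylow p G, (P : Subgroup G) ⊓ (Q : Subgroup G) = ⨅ R : Sylow p G, (R : Subgroup G) := by
  obtain ⟨⟨P, Q⟩, hmin⟩ := Finite.exists_min
    (fun PQ : Sylow p G × Sylow p G =>
      Nat.card ((PQ.1 : Subgroup G) ⊓ (PQ.2 : Subgroup G) : Subgroup G))
  refine ⟨P, Q, le_antisymm (le_iInf fun R => ?_) (le_inf (iInf_le _ P) (iInf_le _ Q))⟩
  set D := (P : Subgroup G) ⊓ (Q : Subgroup G) with hD
  set N := normalizer (D : Set G)
  have hle : ∀ S : Sylow p G, D ≤ (S : Subgroup G) → (S : Subgroup G) ≤ N := by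
    intro S hS x hx
    rw [mem_normalizer_iff]
    have hc : ∀ d ∈ (S : Subgroup G), x * d = d * x := fun d hd =>
      congrArg Subtype.val ((hab S).is_comm.comm (⟨x, hx⟩ : (S : Subgroup G)) ⟨d, hd⟩)
    intro d
    constructor
    · intro hd
      rwa [hc d (hS hd), mul_inv_cancel_right]
    · intro hd
      have h := hc _ (hS hd)
      have h' := congrArg (fun v => x⁻¹ * v) h
      have e : x * d * x⁻¹ = d := by simpa [mul_assoc] using h'
      rwa [e] at hd
  have hPN : (P : Subgroup G) ≤ N := hle P inf_le_left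
  have hQN : (Q : Subgroup G) ≤ N := hle Q inf_le_right
  obtain ⟨S, hS⟩ := IsPGroup.exists_le_sylow (R.2.comap_subtype (K := N))
  obtain ⟨g, rfl⟩ := MulAction.exists_smul_eq N (P.subtype hPN) S
  rw [Sylow.smul_subtype] at hS
  set P' := g • P with hP'
  set Q' := g • Q with hQ'
  have hmem : ∀ (T : Sylow p G) (x : G),
      x ∈ ((g • T : Sylow p G) : Subgroup G) ↔ (g : G)⁻¹ * x * g ∈ (T : Subgroup G) :=
    fun T x => sylow_smul_mem_iff (g := (g : G))
  have hPQ : (P' : Subgroup G) ⊓ (Q' : Subgroup G) ≤ D := by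
    rintro x ⟨hx1, hx2⟩
    have h : (g : G)⁻¹ * x * g ∈ D := ⟨(hmem P x).1 hx1, (hmem Q x).1 hx2⟩
    have h2 := (mem_normalizer_iff.1 g.2 _).1 h
    simpa [mul_assoc] using h2
  have hRQ : (R : Subgroup G) ⊓ (Q' : Subgroup G) ≤ D := by
    rintro x ⟨hx1, hx2⟩
    have hxN : x ∈ N := Sylow.smul_le hQN g hx2
    refine hPQ ⟨?_, hx2⟩
    exact hS (show (⟨x, hxN⟩ : N) ∈ (R : Subgroup G).subgroupOf N from hx1)
  have heq : (R : Subgroup G) ⊓ (Q' : Subgroup G) = D :=
    eq_of_le_of_card_ge hRQ (hmin (R, Q'))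
  rw [← heq]
  exact inf_le_left

omit [Finite G] in
/-- A non-abelian simple group acts by even permutations. -/
theorem sign_eq_one_of_simple [IsSimpleGroup G] (hG : ¬ IsMulCommutative G) {α : Type*}
    [Fintype α] [DecidableEq α] (f : G →* Equiv.Perm α) (g : G) : Equiv.Perm.sign (f g) = 1 := by
  rcases IsSimpleGroup.eq_bot_or_eq_top_of_normal (Equiv.Perm.sign.comp f).ker inferInstance with h | h
  · refine absurd ⟨⟨fun a b => ?_⟩⟩ hG
    apply (MonoidHom.ker_eq_bot_iff _).1 h
    rw [map_mul, map_mul, mul_comm]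
  · exact MonoidHom.mem_ker.1 (show g ∈ (Equiv.Perm.sign.comp f).ker from h ▸ mem_top g)

omit [Finite G] in
/-- A non-abelian simple group is perfect. -/
theorem commutator_eq_top_of_simple [IsSimpleGroup G] (hG : ¬ IsMulCommutative G) :
    _root_.commutator G = ⊤ := by
  rcases IsSimpleGroup.eq_bot_or_eq_top_of_normal (_root_.commutator G) inferInstance with h | h
  · refine absurd ⟨⟨fun a b => ?_⟩⟩ hG
    have := commutator_mem_commutator (mem_top a) (mem_top b)
    rw [← commutator_def, h, mem_bot, commutatorElement_eq_one_iff_mul_comm] at this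
    exact this
  · exact h

end CfsgLib.Transfer
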