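import Cfsg.Agent.Lib.Transfer.Frobenius
import Cfsg.Agent.Lib.Coprime.Complements
import Cfsg.Agent.Lib.OddLocal.FittingHall

/-!
# Normal complements to Hall subgroups
-/

namespace CfsgLib.Transfer

open Subgroup
open scoped commutatorElement

/-- A Hall subgroup `H` has a normal complement if there is a normal `p`-complement for every prime
`p` dividing its order. -/
theorem exists_normal_complement_of_forall {G : Type*} [Group G] [Finite G] (H : Subgroup G)
    (hHall : (Nat.card H).Coprime H.index)
    (h : ∀ p, p.Prime → p ∣ Nat.card H → Cfsg.HasNormalPComplement p G) :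
    ∃ N : Subgroup G, N.Normal ∧ N.IsComplement' H := by
  let N : Subgroup G := ⨅ p : {p // p.Prime ∧ p ∣ Nat.card H}, Cfsg.pResidual p.1 G
  have hN : N.Normal := normal_iInf_normal fun p =>
    have := Fact.mk p.2.1
    pResidual_normal
  have hcop : (Nat.card N).Coprime (Nat.card H) := by
    refine Nat.coprime_of_dvd fun q hq hqN hqH => ?_
    have := Fact.mk hq
    have h1 := hasNormalPComplement_iff_coprime_pResidual.1 (h q hq hqH)
    exact hq.coprime_iff_not_dvd.1 h1.symm
      (hqN.trans (card_dvd_of_le (iInf_le _ (⟨q, hq, hqH⟩ : {p // p.Prime ∧ p ∣ Nat.card H}))))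
  refine ⟨N, hN, isComplement'_of_coprime ?_ hcop⟩
  have h1 : Nat.card N ∣ H.index := by
    refine hcop.dvd_of_dvd_mul_left ?_
    rw [H.card_mul_index]
    exact N.card_subgroup_dvd_card
  have h2 : H.index ∣ Nat.card N := by
    rw [Nat.dvd_iff_prime_pow_dvd_dvd]
    intro q k hq hqk
    have := Fact.mk hq
    obtain ⟨Q, hQ⟩ := Sylow.exists_subgroup_card_pow_prime q (hqk.trans H.index_dvd_card)
    rw [← hQ]
    refine card_dvd_of_le fun x hx => mem_iInf.2 fun p => mem_pResidual_of_coprime ?_
    refine Nat.Coprime.coprime_dvd_left ((Q.orderOf_dvd_natCard hx).trans hQ.dvd) ?_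
    rcases Nat.eq_zero_or_pos k with rfl | hk
    · simp
    refine Nat.Coprime.pow_left k ((Nat.coprime_primes hq p.2.1).2 ?_)
    rintro rfl
    exact hq.ne_one (Nat.eq_one_of_dvd_coprimes hHall p.2.2 ((dvd_pow_self _ hk.ne').trans hqk))
  rw [Nat.dvd_antisymm h1 h2, mul_comm, H.card_mul_index]

/-- A Sylow subgroup of a Hall subgroup, as a Sylow subgroup of the whole group. -/
theorem exists_sylow_eq_map_subtype {G : Type*} [Group G] [Finite G] (H : Subgroup G)
    (hHall : (Nat.card H).Coprime H.index) {p : ℕ} [hp : Fact p.Prime] (hpH : p ∣ Nat.card H)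
    (T : Sylow p H) : ∃ P : Sylow p G, (P : Subgroup G) = (T : Subgroup H).map H.subtype := by
  refine ⟨Sylow.ofCard ((T : Subgroup H).map H.subtype) ?_, rfl⟩
  rw [card_map_of_injective H.subtype_injective, T.card_eq_multiplicity,
    ← H.card_mul_index, Nat.factorization_mul Nat.card_pos.ne' index_ne_zero_of_finite,
    Finsupp.add_apply, Nat.factorization_eq_zero_of_not_dvd (n := H.index), add_zero]
  exact fun hd => hp.out.ne_one (Nat.eq_one_of_dvd_coprimes hHall hpH hd)

/-- A nilpotent Hall subgroup controlling its own fusion has a normal complement. -/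
theorem exists_normal_complement_of_controls_fusion {G : Type*} [Group G] [Finite G]
    (H : Subgroup G) [Group.IsNilpotent H] (hHall : (Nat.card H).Coprime H.index)
    (h : ∀ x ∈ H, ∀ y ∈ H, (∃ g : G, g * x * g⁻¹ = y) → ∃ u ∈ H, u * x * u⁻¹ = y) :
    ∃ N : Subgroup G, N.Normal ∧ N.IsComplement' H := by
  refine exists_normal_complement_of_forall H hHall fun p hp hpH => ?_
  have := Fact.mk hp
  let T : Sylow p H := default
  obtain ⟨P, hP⟩ := exists_sylow_eq_map_subtype H hHall hpH T
  refine hasNormalPComplement_of_controls_fusion P ?_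
  intro x hx y hy hxy
  change x ∈ (P : Subgroup G) at hx
  change y ∈ (P : Subgroup G) at hy
  rw [hP] at hx hy
  obtain ⟨x, hxT, rfl⟩ := hx
  obtain ⟨y, hyT, rfl⟩ := hy
  obtain ⟨u, hu, huxy⟩ := h _ x.2 _ y.2 hxy
  have hTn : (T : Subgroup H).Normal :=
    T.normal_of_normalizerCondition Group.normalizerCondition_of_isNilpotent
  have hCn : (centralizer ((T : Subgroup H) : Set H)).Normal := inferInstance
  obtain ⟨v, hv, c, hc, huv⟩ := exists_mem_sylow_mul T (C := centralizer ((T : Subgroup H) : Set H))
    (fun g hg => mem_centralizer_iff.2 fun t ht =>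
      (OddLocal.commute_of_coprime_of_isNilpotent ‹_› (x := g) (y := t) (by
        obtain ⟨k, hk⟩ := (IsPGroup.iff_orderOf.1 T.2) ⟨t, ht⟩
        rw [Subgroup.orderOf_mk] at hk
        rw [hk]; exact hg.pow_right k)).eq.symm) ⟨u, hu⟩
  refine ⟨(v : G), by change (v : G) ∈ (P : Subgroup G); rw [hP]; exact mem_map_of_mem _ hv, ?_⟩
  have hu' : u = (v : G) * c := congrArg Subtype.val huv
  have hcx : (c : G) * x = x * c := congrArg Subtype.val (mem_centralizer_iff.1 hc x hxT).symm
  show (v : G) * x * (v : G)⁻¹ = y
  rw [← huxy, hu']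
  calc (v : G) * x * (v : G)⁻¹ = v * (x * c) * (c : G)⁻¹ * (v : G)⁻¹ := by group
    _ = _ := by rw [← hcx]; simp [mul_assoc]

universe u

private theorem central_hall_aux : ∀ n : ℕ, ∀ {G : Type u} [Group G] [Finite G], Nat.card G = n →
    ∀ H : Subgroup G, (Nat.card H).Coprime H.index →
      normalizer (H : Set G) ≤ centralizer (H : Set G) →
      ∃ N : Subgroup G, N.Normal ∧ N.IsComplement' H := by
  intro n
  induction n using Nat.strong_induction_on with
  | _ n ih =>
    intro G _ _ hn H hHall h
    have hHab : ∀ a ∈ H, ∀ b ∈ H, a * b = b * a := fun a ha b hb =>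
      (mem_centralizer_iff.1 (h (le_normalizer ha)) b hb).symm
    -- a complement inside a proper subgroup containing `H`
    have rec_ : ∀ M : Subgroup G, M ≠ ⊤ → H ≤ M →
        ∃ N : Subgroup G, N ≤ M ∧ M ≤ normalizer (N : Set G) ∧ N ⊔ H = M ∧ N ⊓ H = ⊥ ∧
          (Nat.card N).Coprime (Nat.card H) ∧ Nat.card M = Nat.card N * Nat.card H := by
      intro M hM hHM
      have hlt : Nat.card M < n := by
        rw [← hn]
        exact lt_of_le_of_ne M.card_le_card_group fun e => hM (M.eq_top_of_card_eq e)
      have hcard : Nat.card (H.subgroupOf M) = Nat.card H :=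
        Nat.card_congr (subgroupOfEquivOfLe hHM).toEquiv
      obtain ⟨N, hN, hc⟩ := ih _ hlt rfl (H.subgroupOf M)
        (by
          rw [hcard]
          exact hHall.coprime_dvd_right (relIndex_dvd_index_of_le hHM))
        (fun g hg => mem_centralizer_iff.2 fun a ha => Subtype.ext <| by
          refine mem_centralizer_iff.1 (h (mem_normalizer_iff.2 fun b => ?_)) a ha
          constructor
          · intro hb
            exact (mem_normalizer_iff.1 hg ⟨b, hHM hb⟩).1 hb
          · intro hb
            have hbM : b ∈ M := by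
              have := mul_mem (mul_mem (inv_mem g.2) (hHM hb)) g.2
              simpa [mul_assoc] using this
            exact (mem_normalizer_iff.1 hg ⟨b, hbM⟩).2 hb)
      have hH' : (H.subgroupOf M).map M.subtype = H := map_subgroupOf_eq_of_le hHM
      refine ⟨N.map M.subtype, map_subtype_le N, ?_, ?_, ?_, ?_, ?_⟩
      · intro g hg
        refine mem_normalizer_iff.2 fun b => ⟨?_, ?_⟩
        · rintro ⟨b, hb, rfl⟩
          exact ⟨⟨g, hg⟩ * b * ⟨g, hg⟩⁻¹, hN.conj_mem b hb _, rfl⟩
        · rintro ⟨c, hc', e⟩
          refine ⟨⟨g, hg⟩⁻¹ * c * ⟨g, hg⟩⁻¹⁻¹, hN.conj_mem c hc' _, ?_⟩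
          have e' : (c : G) = g * b * g⁻¹ := e
          simp [e', mul_assoc]
      · rw [← hH', ← Subgroup.map_sup, hc.sup_eq_top, ← MonoidHom.range_eq_map, range_subtype]
      · rw [← hH', ← Subgroup.map_inf _ _ _ M.subtype_injective, hc.disjoint.eq_bot, Subgroup.map_bot]
      · rw [card_map_of_injective M.subtype_injective]
        have h1 : H.relIndex M = Nat.card N := hc.index_eq_card
        rw [← h1]
        exact (hHall.coprime_dvd_right (relIndex_dvd_index_of_le hHM)).symm
      · rw [card_map_of_injective M.subtype_injective, ← hc.card_mul_card, hcard]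
    refine exists_normal_complement_of_forall H hHall fun p hp hpH => ?_
    have := Fact.mk hp
    obtain ⟨P, hP⟩ := exists_sylow_eq_map_subtype H hHall hpH default
    have hPH : (P : Subgroup G) ≤ H := hP ▸ map_subtype_le _
    refine hasNormalPComplement_of_normalizer_le_centralizer P ?_
    have hHC : H ≤ centralizer ((P : Subgroup G) : Set G) := fun a ha =>
      mem_centralizer_iff.2 fun b hb => hHab b (hPH hb) a ha
    by_cases hM : normalizer ((P : Subgroup G) : Set G) = ⊤
    · have hPn : (P : Subgroup G).Normal := normalizer_eq_top_iff.1 hM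
      set D := centralizer ((P : Subgroup G) : Set G)
      by_contra hD
      have hDn : D.Normal := inferInstance
      obtain ⟨N, hND, hDN, hsup, -, hcop, hDc⟩ := rec_ D (fun e => hD (e ▸ le_top)) hHC
      refine hD fun g _ => ?_
      -- Frattini argument
      have hgD : H.map (MulAut.conj g).toMonoidHom ≤ D := by
        rintro _ ⟨a, ha, rfl⟩
        exact hDn.conj_mem a (hHC ha) g
      have hcard : Nat.card (H.map (MulAut.conj g).toMonoidHom) = Nat.card H :=
        card_map_of_injective (MulEquiv.injective _)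
      have hsup' : N ⊔ H.map (MulAut.conj g).toMonoidHom = D := by
        refine eq_of_le_of_card_ge (sup_le hND hgD) ?_
        refine Nat.le_of_dvd Nat.card_pos ?_
        refine hDc.dvd.trans (hcop.mul_dvd_of_dvd_of_dvd (card_dvd_of_le le_sup_left) ?_)
        exact hcard ▸ card_dvd_of_le le_sup_right
      obtain ⟨d, hd, hconj⟩ := Coprime.exists_conj_eq_of_coprime (A := H)
        (B := H.map (MulAut.conj g).toMonoidHom) (hHC.trans hDN) (hgD.trans hDN)
        (hsup.trans hsup'.symm) hcop.symm (by rw [hcard]; exact hcop.symm)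
        (Or.inl (by
          have : IsMulCommutative H := ⟨⟨fun a b => Subtype.ext (hHab a a.2 b b.2)⟩⟩
          exact Group.isSolvable_of_comm (fun a b => Subtype.ext (hHab a a.2 b b.2))))
      have hn' : d⁻¹ * g ∈ normalizer (H : Set G) := by
        refine mem_normalizer_iff_map_conj_eq.2 ?_
        change H.map (MulAut.conj (d⁻¹ * g)).toMonoidHom = H
        have e : (MulAut.conj (d⁻¹ * g)).toMonoidHom =
            (MulAut.conj d⁻¹).toMonoidHom.comp (MulAut.conj g).toMonoidHom := by
          ext x; simp [mul_assoc]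
        rw [e, ← map_map, hconj, map_map]
        convert map_id H
        ext x; simp [mul_assoc]
      have := mul_mem (hND hd) (centralizer_le hPH (h hn'))
      simpa using this
    · obtain ⟨N, hNM, hMN, hsup, hinf, hcop, -⟩ :=
        rec_ _ hM (hHC.trans (centralizer_le_normalizer _))
      rw [← hsup, sup_le_iff]
      refine ⟨fun a ha => mem_centralizer_iff.2 fun b hb => ?_, hHC⟩
      have h1 : b * a * b⁻¹ * a⁻¹ ∈ N ⊓ H := by
        refine mem_inf.2 ⟨mul_mem ?_ (inv_mem ha), ?_⟩
        · exact (mem_normalizer_iff.1 (hMN (le_normalizer hb)) a).1 ha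
        · refine hPH ?_
          rw [mul_assoc b a, mul_assoc b (a * b⁻¹), mul_assoc a]
          refine mul_mem hb ?_
          rw [← mul_assoc]
          exact (mem_normalizer_iff.1 (hNM ha) b⁻¹).1 (inv_mem hb)
      rw [hinf, mem_bot, mul_inv_eq_one, mul_inv_eq_iff_eq_mul] at h1
      exact h1

/-- A Hall subgroup that is central in its normalizer has a normal complement. -/
theorem exists_normal_complement_of_normalizer_le_centralizer {G : Type u} [Group G] [Finite G]
    (H : Subgroup G) (hHall : (Nat.card H).Coprime H.index)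
    (h : normalizer (H : Set G) ≤ centralizer (H : Set G)) :
    ∃ N : Subgroup G, N.Normal ∧ N.IsComplement' H :=
  central_hall_aux _ rfl H hHall h

end CfsgLib.Transfer
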