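import Cfsg.Agent.Lib.Transfer.Frobenius

/-!
# Alperin's fusion theorem with tame intersections
-/

namespace CfsgLib.Transfer

open Subgroup

variable {G : Type*} [Group G] {p : ℕ}

/-- `D ^ g = g⁻¹ D g`. -/
def rconj (g : G) (D : Subgroup G) : Subgroup G := D.map (MulAut.conj g⁻¹).toMonoidHom

theorem mem_rconj {g x : G} {D : Subgroup G} : x ∈ rconj g D ↔ g * x * g⁻¹ ∈ D := by
  rw [rconj, mem_map_equiv, MulAut.conj_symm_apply]
  simp

theorem rconj_rconj (g h : G) (D : Subgroup G) : rconj h (rconj g D) = rconj (g * h) D := by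
  ext x; simp [mem_rconj, mul_assoc]

theorem rconj_one (D : Subgroup G) : rconj 1 D = D := by
  ext x; simp [mem_rconj]

theorem rconj_mono {g : G} {D E : Subgroup G} (h : D ≤ E) : rconj g D ≤ rconj g E := map_mono h

theorem rconj_eq_of_mem_normalizer {g : G} {D : Subgroup G} (hg : g ∈ normalizer (D : Set G)) :
    rconj g D = D := by
  ext x
  rw [mem_rconj]
  exact (mem_normalizer_iff.1 hg x).symm

theorem rconj_normalizer (g : G) (D : Subgroup G) :
    rconj g (normalizer (D : Set G)) = normalizer (rconj g D : Set G) := by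
  ext x
  rw [mem_rconj, mem_normalizer_iff, mem_normalizer_iff]
  constructor
  · intro h y
    rw [mem_rconj, mem_rconj, h (g * y * g⁻¹)]
    simp [mul_assoc]
  · intro h y
    have := h (g⁻¹ * y * g)
    simp only [mem_rconj] at this
    simpa [mul_assoc] using this

/-- `P ∩ Q` is a tame intersection. -/
def Tame (P Q : Sylow p G) : Prop :=
  ¬ p ∣ ((P : Subgroup G) ⊓ normalizer ((((P : Subgroup G) ⊓ (Q : Subgroup G)) : Subgroup G) : Set G)).relIndex
      (normalizer ((((P : Subgroup G) ⊓ (Q : Subgroup G)) : Subgroup G) : Set G)) ∧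
    ¬ p ∣ ((Q : Subgroup G) ⊓ normalizer ((((P : Subgroup G) ⊓ (Q : Subgroup G)) : Subgroup G) : Set G)).relIndex
      (normalizer ((((P : Subgroup G) ⊓ (Q : Subgroup G)) : Subgroup G) : Set G))

/-- `D` is carried by `g` along tame intersections. -/
inductive Reach (P : Sylow p G) : Subgroup G → G → Prop
  | one (D : Subgroup G) : Reach P D 1
  | cons (D : Subgroup G) (Q : Sylow p G) (x g : G) (hT : Tame P Q)
      (hx : x ∈ normalizer ((((P : Subgroup G) ⊓ (Q : Subgroup G)) : Subgroup G) : Set G))
      (hD : D ≤ (P : Subgroup G) ⊓ (Q : Subgroup G)) (h : Reach P (rconj x D) g) : Reach P D (x * g)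

variable {P : Sylow p G}

theorem Reach.mono {D : Subgroup G} {g : G} (h : Reach P D g) :
    ∀ {E : Subgroup G}, E ≤ D → Reach P E g := by
  induction h with
  | one D => exact fun _ => .one _
  | cons D Q x g hT hx hD _ ih =>
    exact fun hE => .cons _ Q x g hT hx (hE.trans hD) (ih (rconj_mono hE))

theorem Reach.trans {D : Subgroup G} {g : G} (h : Reach P D g) :
    ∀ {k : G}, Reach P (rconj g D) k → Reach P D (g * k) := by
  induction h with
  | one D =>
    intro k hk
    rw [rconj_one] at hk
    rwa [one_mul]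
  | cons D Q x g hT hx hD _ ih =>
    intro k hk
    rw [mul_assoc]
    exact .cons _ Q x _ hT hx hD (ih (by rwa [rconj_rconj]))

theorem Reach.inv {D : Subgroup G} {g : G} (h : Reach P D g) : Reach P (rconj g D) g⁻¹ := by
  induction h with
  | one D => rw [inv_one, rconj_one]; exact .one _
  | cons D Q x g hT hx hD _ ih =>
    rw [mul_inv_rev, ← rconj_rconj]
    refine ih.trans ?_
    rw [rconj_rconj g g⁻¹, mul_inv_cancel, rconj_one]
    have hle : rconj x D ≤ (P : Subgroup G) ⊓ (Q : Subgroup G) :=
      (rconj_mono hD).trans (rconj_eq_of_mem_normalizer hx).le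
    have := Reach.cons (P := P) _ Q x⁻¹ 1 hT (inv_mem hx) hle (.one _)
    rwa [mul_one] at this

variable [Finite G] [Fact p.Prime]

/-- If `N_P(D)` and `N_Q(D)` are Sylow subgroups of `N(D)` they are conjugate in it. -/
theorem exists_conj_of_not_dvd {N A B : Subgroup G} (hA : IsPGroup p A) (hB : IsPGroup p B)
    (hAN : A ≤ N) (hBN : B ≤ N) (h1 : ¬ p ∣ A.relIndex N) (h2 : ¬ p ∣ B.relIndex N) :
    ∃ c ∈ N, rconj c A = B := by
  let SA := (hA.of_equiv (subgroupOfEquivOfLe hAN).symm).toSylow h1
  let SB := (hB.of_equiv (subgroupOfEquivOfLe hBN).symm).toSylow h2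
  obtain ⟨c, hc⟩ := MulAction.exists_smul_eq N SA SB
  refine ⟨(c⁻¹ : N), (c⁻¹).2, ?_⟩
  have hc' : ∀ y : N, (y : G) ∈ B ↔ (c : G)⁻¹ * y * c ∈ A := by
    intro y
    have h3 : y ∈ c • SA ↔ c⁻¹ * y * c ∈ SA := sylow_smul_mem_iff
    rw [hc] at h3
    exact h3
  ext x
  rw [mem_rconj]
  constructor
  · intro hx
    have hxN : x ∈ N := by
      have := mul_mem (mul_mem c.2 (hAN hx)) (inv_mem c.2)
      simpa [mul_assoc] using this
    exact (hc' ⟨x, hxN⟩).2 (by simpa using hx)
  · intro hx
    simpa using (hc' ⟨x, hBN hx⟩).1 hx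

/-- Alperin's fusion theorem. -/
theorem reach_of_le (P : Sylow p G) : ∀ (D : Subgroup G) (g : G), D ≤ (P : Subgroup G) →
    rconj g D ≤ (P : Subgroup G) → Reach P D g := by
  suffices key : ∀ n : ℕ, ∀ (D : Subgroup G) (g : G), D ≤ (P : Subgroup G) →
      rconj g D ≤ (P : Subgroup G) → Nat.card (P : Subgroup G) - Nat.card D = n → Reach P D g from
    fun D g h1 h2 => key _ D g h1 h2 rfl
  intro n
  induction n using Nat.strong_induction_on with
  | _ n ih =>
    intro D g hDP hgP hn
    have big : ∀ (D' : Subgroup G) (g' : G), D' ≤ (P : Subgroup G) →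
        rconj g' D' ≤ (P : Subgroup G) → Nat.card D < Nat.card D' → Reach P D' g' := by
      intro D' g' h1 h2 h3
      refine ih _ ?_ D' g' h1 h2 rfl
      have := card_le_of_le h1
      omega
    rcases hDP.lt_or_eq with hlt | heq
    swap
    · -- `D = P`
      subst heq
      have hg : g ∈ normalizer ((P : Subgroup G) : Set G) := by
        have he : rconj g (P : Subgroup G) = (P : Subgroup G) :=
          eq_of_le_of_card_ge hgP (card_map_of_injective (MulEquiv.injective _)).ge
        exact mem_normalizer_iff.2 fun x => by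
          conv_lhs => rw [← he, mem_rconj]
      have hT : Tame P P := by
        have h1 : ¬ p ∣ ((P : Subgroup G) ⊓ normalizer ((P : Subgroup G) : Set G)).relIndex
            (normalizer ((P : Subgroup G) : Set G)) := by
          rw [inf_eq_left.2 le_normalizer]
          exact fun hd => P.not_dvd_index (hd.trans (relIndex_dvd_index_of_le le_normalizer))
        constructor <;> rwa [inf_idem]
      have := Reach.cons (P := P) (P : Subgroup G) P g 1 hT (by rwa [inf_idem]) (le_inf le_rfl le_rfl)
        (.one _)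
      rwa [mul_one] at this
    -- move to fully normalized conjugates
    have full : ∀ E : Subgroup G, E ≤ (P : Subgroup G) → Nat.card E = Nat.card D →
        ∃ h : G, Reach P E h ∧ rconj h E ≤ (P : Subgroup G) ∧
          ¬ p ∣ ((P : Subgroup G) ⊓ normalizer (rconj h E : Set G)).relIndex
            (normalizer (rconj h E : Set G)) := by
      intro E hEP hEc
      have hElt : E < (P : Subgroup G) := lt_of_le_of_ne hEP fun e => by
        have h1 := card_le_of_le hlt.le
        have h2 : Nat.card D < Nat.card (P : Subgroup G) :=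
          lt_of_le_of_ne h1 fun e' => hlt.ne (eq_of_le_of_card_ge hlt.le e'.ge)
        rw [← hEc, e] at h2
        exact lt_irrefl _ h2
      obtain ⟨y, hyP, hyN, hyE⟩ := exists_mem_normalizer_not_mem P.2 hElt
      set N := normalizer (E : Set G)
      obtain ⟨S, hS⟩ := (P.2.to_le (inf_le_left : (P : Subgroup G) ⊓ N ≤ _) |>.of_equiv
        (subgroupOfEquivOfLe inf_le_right).symm).exists_le_sylow
      obtain ⟨R, hR⟩ := (S.2.map N.subtype).exists_le_sylow
      obtain ⟨h, hh⟩ := MulAction.exists_smul_eq G R P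
      have hPR : ∀ x, x ∈ (R : Subgroup G) → x ∈ rconj h (P : Subgroup G) := by
        intro x hx
        rw [mem_rconj]
        show h * x * h⁻¹ ∈ P
        rw [← hh, sylow_smul_mem_iff]
        simpa [mul_assoc] using (show x ∈ R from hx)
      set E' := (P : Subgroup G) ⊓ N
      have hE'R : E' ≤ (R : Subgroup G) := fun x hx =>
        hR ⟨⟨x, hx.2⟩, hS (mem_subgroupOf.2 hx), rfl⟩
      have hEE' : E ≤ E' := le_inf hEP le_normalizer
      refine ⟨h⁻¹, ?_, ?_, ?_⟩
      · refine (big E' h⁻¹ inf_le_left ?_ ?_).mono hEE'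
        · intro x hx
          rw [mem_rconj, inv_inv] at hx
          have := hPR _ (hE'R hx)
          rw [mem_rconj] at this
          simpa [mul_assoc] using this
        · rw [← hEc]
          exact lt_of_le_of_ne (card_le_of_le hEE') fun e =>
            hyE ((eq_of_le_of_card_ge hEE' e.ge).ge ⟨hyP, hyN⟩)
      · intro x hx
        rw [mem_rconj, inv_inv] at hx
        have := hPR _ (hE'R (hEE' hx))
        rw [mem_rconj] at this
        simpa [mul_assoc] using this
      · intro hd
        rw [← rconj_normalizer] at hd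
        have hle : rconj h⁻¹ ((S : Subgroup N).map N.subtype) ≤
            (P : Subgroup G) ⊓ rconj h⁻¹ N := by
          refine le_inf (fun x hx => ?_) (rconj_mono (map_subtype_le _))
          rw [mem_rconj, inv_inv] at hx
          have := hPR _ (hR hx)
          rw [mem_rconj] at this
          simpa [mul_assoc] using this
        have hd' := hd.trans (relIndex_dvd_of_le_left _ hle)
        rw [rconj, rconj, relIndex_map_map_of_injective _ _ (MulEquiv.injective _), relIndex,
          subgroupOf, comap_map_eq_self_of_injective N.subtype_injective] at hd'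
        exact S.not_dvd_index hd'
    by_cases hbig : Nat.card D < Nat.card ((P : Subgroup G) ⊓ rconj g⁻¹ (P : Subgroup G) : Subgroup G)
    · refine (big _ g inf_le_left ?_ hbig).mono (le_inf hDP fun x hx => ?_)
      · intro x hx
        rw [mem_rconj] at hx
        have := mem_rconj.1 (mem_inf.1 hx).2
        simpa [mul_assoc] using this
      · rw [mem_rconj, inv_inv]
        exact hgP (mem_rconj.2 (by simpa [mul_assoc] using hx))
    have hcard : ∀ (k : G) (E : Subgroup G), Nat.card (rconj k E) = Nat.card E := fun k E =>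
      card_map_of_injective (MulEquiv.injective _)
    obtain ⟨h, hRh, hFP, hF⟩ := full D hDP rfl
    obtain ⟨h₂, hRh₂, hF₂P, hF₂⟩ := full (rconj g D) hgP (hcard g D)
    set F := rconj h D with hFd
    set F₂ := rconj h₂ (rconj g D) with hF₂d
    set m := h⁻¹ * g * h₂
    have hm : rconj m F = F₂ := by
      simp only [F, F₂, m, rconj_rconj]; congr 1; group
    have hcF₂ : Nat.card F₂ = Nat.card D := (hcard _ _).trans (hcard _ _)
    have hcF : Nat.card F = Nat.card D := hcard _ _
    have hlarge : ∀ E : Subgroup G, E ≤ (P : Subgroup G) → Nat.card E = Nat.card D →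
        Nat.card D < Nat.card ((P : Subgroup G) ⊓ normalizer (E : Set G) : Subgroup G) := by
      intro E hE hEc
      have hElt : E < (P : Subgroup G) := lt_of_le_of_ne hE fun e => by
        have h2 : Nat.card D < Nat.card (P : Subgroup G) :=
          lt_of_le_of_ne (card_le_of_le hlt.le) fun e' => hlt.ne (eq_of_le_of_card_ge hlt.le e'.ge)
        rw [← hEc, e] at h2
        exact lt_irrefl _ h2
      obtain ⟨y, hyP, hyN, hyE⟩ := exists_mem_normalizer_not_mem P.2 hElt
      rw [← hEc]
      have hle : E ≤ (P : Subgroup G) ⊓ normalizer (E : Set G) := le_inf hE le_normalizer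
      exact lt_of_le_of_ne (card_le_of_le hle) fun e =>
        hyE ((eq_of_le_of_card_ge hle e.ge).ge ⟨hyP, hyN⟩)
    have hNm : rconj m (normalizer (F : Set G)) = normalizer (F₂ : Set G) := by
      rw [rconj_normalizer, hm]
    obtain ⟨c, hc, hAB⟩ := exists_conj_of_not_dvd (p := p)
      (A := rconj m ((P : Subgroup G) ⊓ normalizer (F : Set G)))
      (B := (P : Subgroup G) ⊓ normalizer (F₂ : Set G)) (N := normalizer (F₂ : Set G))
      ((P.2.to_le inf_le_left).map _) (P.2.to_le inf_le_left)
      (hNm ▸ rconj_mono inf_le_right) inf_le_right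
      (by
        rw [← hNm, rconj, rconj, relIndex_map_map_of_injective _ _ (MulEquiv.injective _)]
        exact hF) hF₂
    rw [rconj_rconj] at hAB
    have hR1 : Reach P F (m * c) := (big _ _ inf_le_left (hAB.le.trans inf_le_left)
      (hlarge F hFP hcF)).mono (le_inf hFP le_normalizer)
    have hFmc : rconj (m * c) F = F₂ := by
      rw [← rconj_rconj, hm, rconj_eq_of_mem_normalizer hc]
    -- `c⁻¹` normalizes the fully normalized subgroup `F₂`
    have hR2 : Reach P F₂ c⁻¹ := by
      set D' := (P : Subgroup G) ⊓ rconj c (P : Subgroup G)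
      have hle : F₂ ≤ D' := by
        refine le_inf hF₂P ?_
        rw [← rconj_eq_of_mem_normalizer hc]
        exact rconj_mono hF₂P
      by_cases hb : Nat.card D < Nat.card D'
      · refine (big D' c⁻¹ inf_le_left ?_ hb).mono hle
        intro x hx
        rw [mem_rconj, inv_inv] at hx
        have := mem_rconj.1 (mem_inf.1 hx).2
        simpa [mul_assoc] using this
      have heq : F₂ = D' := eq_of_le_of_card_ge hle (by omega)
      have hQ : ((c⁻¹ • P : Sylow p G) : Subgroup G) = rconj c (P : Subgroup G) := by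
        ext x
        rw [mem_rconj]
        show x ∈ c⁻¹ • P ↔ c * x * c⁻¹ ∈ P
        rw [sylow_smul_mem_iff, inv_inv]
      have hPQ : (P : Subgroup G) ⊓ ((c⁻¹ • P : Sylow p G) : Subgroup G) = F₂ := by
        rw [hQ, heq]
      have hT : Tame P (c⁻¹ • P) := by
        refine ⟨by rw [hPQ]; exact hF₂, ?_⟩
        rw [hPQ, hQ]
        have hN : rconj c (normalizer (F₂ : Set G)) = normalizer (F₂ : Set G) :=
          rconj_eq_of_mem_normalizer (le_normalizer hc)
        rw [← hN, rconj, rconj, ← map_inf _ _ _ (MulEquiv.injective _),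
          relIndex_map_map_of_injective _ _ (MulEquiv.injective _)]
        exact hF₂
      have := Reach.cons (P := P) F₂ _ c⁻¹ 1 hT (by rw [hPQ]; exact inv_mem hc)
        (le_of_eq hPQ.symm) (.one _)
      rwa [mul_one] at this
    have hR3 := hR1.trans (hFmc.symm ▸ hR2)
    rw [mul_inv_cancel_right] at hR3
    have hR4 := hR3.trans (k := h₂⁻¹) (hm.symm ▸ hRh₂.inv)
    have hR5 := hRh.trans hR4
    convert hR5 using 1
    simp only [m]; group

omit [Finite G] [Fact p.Prime] in
/-- Unfolding `Reach` into sequences. -/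
theorem Reach.exists_seq {D : Subgroup G} {g : G} (h : Reach P D g) :
    ∀ A : Set G, A ⊆ (D : Set G) → ∃ (n : ℕ) (Q : Fin n → Sylow p G) (x : Fin n → G),
      (List.ofFn x).prod = g ∧
      (∀ i : Fin n, x i ∈ normalizer ((((P : Subgroup G) ⊓ (Q i : Subgroup G)) : Subgroup G) : Set G) ∧
        Tame P (Q i)) ∧
      (∀ h : 0 < n, A ⊆ (((P : Subgroup G) ⊓ (Q ⟨0, h⟩ : Subgroup G) : Subgroup G) : Set G)) ∧
      ∀ i : Fin n, ∀ h : i.val + 1 < n,
        (fun a => (((List.ofFn x).take (i.val + 1)).prod)⁻¹ * a * ((List.ofFn x).take (i.val + 1)).prod) '' A ⊆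
          (((P : Subgroup G) ⊓ (Q ⟨i.val + 1, h⟩ : Subgroup G) : Subgroup G) : Set G) := by
  induction h with
  | one D =>
    exact fun A _ => ⟨0, Fin.elim0, Fin.elim0, by simp, fun i => i.elim0,
      fun h => absurd h (lt_irrefl 0), fun i => i.elim0⟩
  | cons D Q x g hT hx hD _ ih =>
    intro A hA
    obtain ⟨n, Qs, xs, hprod, hall, h0, hsucc⟩ := ih ((fun a => x⁻¹ * a * x) '' A) (by
      rintro _ ⟨a, ha, rfl⟩
      refine mem_rconj.2 ?_
      simpa [mul_assoc] using hA ha)
    refine ⟨n + 1, Fin.cons Q Qs, Fin.cons x xs, ?_, ?_, fun _ => ?_, ?_⟩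
    · simp [List.ofFn_succ, hprod]
    · intro i
      cases i using Fin.cases with
      | zero => simpa using And.intro hx hT
      | succ i => simpa using hall i
    · exact hA.trans (SetLike.coe_subset_coe.2 hD)
    · intro i hi
      cases i using Fin.cases with
      | zero =>
        have h0n : 0 < n := by simp only [Fin.val_zero] at hi; omega
        rw [show (Fin.cons Q Qs : Fin (n + 1) → Sylow p G) ⟨(0 : Fin (n + 1)).val + 1, hi⟩ =
          Qs ⟨0, h0n⟩ from rfl]
        simpa [List.ofFn_succ] using h0 h0n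
      | succ j =>
        have hj : j.val + 1 < n := by simp only [Fin.val_succ] at hi; omega
        rw [show (⟨(Fin.succ j).val + 1, hi⟩ : Fin (n + 1)) = Fin.succ ⟨j.val + 1, hj⟩
          from Fin.ext (by simp)]
        rw [Fin.cons_succ]
        refine subset_trans ?_ (hsucc j hj)
        rintro _ ⟨a, ha, rfl⟩
        refine ⟨x⁻¹ * a * x, ⟨a, ha, rfl⟩, ?_⟩
        simp [List.ofFn_succ, mul_assoc]

end CfsgLib.Transfer
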