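import Cfsg.Agent.Lib.Transfer.Frobenius
import Mathlib.GroupTheory.Frattini

/-!
# Tate's theorem
-/

namespace CfsgLib.Transfer

open Subgroup
open scoped commutatorElement Pointwise

section

open scoped IsMulCommutative

variable {G : Type*} [Group G] [Finite G] {p : ℕ} [Fact p.Prime]

/-- The core of Tate's theorem: `G = K P`, `O^p(K) = K`, `P ∩ K ≤ Φ(P)` force `P ∩ K = 1`. -/
theorem tate_core (P : Sylow p G) (K : Subgroup G) [K.Normal]
    (hKP : K ⊔ (P : Subgroup G) = ⊤) (hK : Cfsg.pResidual p K = ⊤)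
    (h : K.subgroupOf (P : Subgroup G) ≤ frattini (P : Subgroup G)) :
    K.subgroupOf (P : Subgroup G) = ⊥ := by
  set Q := K.subgroupOf (P : Subgroup G)
  set X := ⁅Q, (⊤ : Subgroup (P : Subgroup G))⁆ with hX
  let ψP := QuotientGroup.mk' X
  set A := (P : Subgroup G) ⧸ X
  set Z : Subgroup A := Q.map ψP with hZdef
  have hZc : Z ≤ center A := by
    rintro _ ⟨q, hq, rfl⟩
    rw [mem_center_iff]
    intro a
    obtain ⟨s, rfl⟩ := QuotientGroup.mk'_surjective X a
    have hmem : ⁅q, s⁆ ∈ X := commutator_mem_commutator hq (mem_top s)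
    have : ψP ⁅q, s⁆ = 1 := (QuotientGroup.eq_one_iff _).2 hmem
    rw [map_commutatorElement, commutatorElement_eq_one_iff_mul_comm] at this
    exact this.symm
  have : IsMulCommutative Z :=
    ⟨⟨fun a b => Subtype.ext ((mem_center_iff.1 (hZc b.2)) (a : A))⟩⟩
  have hZp : IsPGroup p Z := (P.2.to_quotient X).to_subgroup Z
  let π := QuotientGroup.mk' K
  let ρ : A →* G ⧸ K := QuotientGroup.lift X (π.comp (P : Subgroup G).subtype) (by
    refine (commutator_le_left Q ⊤).trans fun q hq => ?_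
    exact (QuotientGroup.eq_one_iff (q : G)).2 hq)
  have hρ : ∀ s, ρ (ψP s) = π s := fun s => rfl
  -- the fibre product
  let E : Subgroup (G × A) := (π.comp (MonoidHom.fst G A)).eqLocus (ρ.comp (MonoidHom.snd G A))
  let f : E →* G := (MonoidHom.fst G A).comp E.subtype
  have hf : Function.Surjective f := by
    intro g
    have hg : g ∈ ((K : Set G) * ((P : Subgroup G) : Set G) : Set G) := by
      rw [← normal_mul, hKP]; trivial
    obtain ⟨k, hk, s, hs, rfl⟩ := hg
    refine ⟨⟨(k * s, ψP ⟨s, hs⟩), ?_⟩, rfl⟩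
    change π (k * s) = ρ (ψP ⟨s, hs⟩)
    rw [hρ, map_mul, (show π k = 1 from (QuotientGroup.eq_one_iff k).2 hk), one_mul]
  set R := (P : Subgroup G).comap f
  have hRi : R.index = (P : Subgroup G).index := index_comap_of_surjective _ hf
  have hmem : ∀ e : R, (e : E).1.2 * (ψP ⟨(e : E).1.1, e.2⟩)⁻¹ ∈ Z := by
    intro e
    obtain ⟨q, hq⟩ := QuotientGroup.mk'_surjective X ((e : E).1.2 * (ψP ⟨(e : E).1.1, e.2⟩)⁻¹)
    refine ⟨q, ?_, hq⟩
    have h1 : ρ (ψP q) = 1 := by
      change ρ (QuotientGroup.mk' X q) = 1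
      rw [hq, map_mul, map_inv, hρ]
      have he : π (e : E).1.1 = ρ (e : E).1.2 := (e : E).2
      rw [← he, mul_inv_cancel]
    rw [hρ] at h1
    exact (QuotientGroup.eq_one_iff (q : G)).1 h1
  let r : R →* Z :=
    { toFun := fun e => ⟨_, hmem e⟩
      map_one' := Subtype.ext (by
        change (1 : A) * (ψP 1)⁻¹ = 1
        rw [map_one, inv_one, mul_one])
      map_mul' := fun a b => Subtype.ext (by
        have hb := mem_center_iff.1 (hZc (hmem b))
        change (a : E).1.2 * (b : E).1.2 *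
            (ψP (⟨(a : E).1.1, a.2⟩ * ⟨(b : E).1.1, b.2⟩))⁻¹ =
          (a : E).1.2 * (ψP ⟨(a : E).1.1, a.2⟩)⁻¹ * ((b : E).1.2 * (ψP ⟨(b : E).1.1, b.2⟩)⁻¹)
        rw [map_mul, mul_inv_rev, mul_assoc ((a : E).1.2) ((ψP ⟨(a : E).1.1, a.2⟩)⁻¹),
          hb ((ψP ⟨(a : E).1.1, a.2⟩)⁻¹)]
        simp only [mul_assoc]) }
  let τ := MonoidHom.transfer r
  -- `τ` is the `index`-th power on `Z`
  have hzmem : ∀ z : Z, ((1 : G), (z : A)) ∈ E := by
    rintro ⟨_, q, hq, rfl⟩
    change π 1 = ρ (ψP q)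
    rw [hρ, map_one]
    exact ((QuotientGroup.eq_one_iff (q : G)).2 hq).symm
  have hτz : ∀ z : Z, τ ⟨_, hzmem z⟩ = z ^ R.index := by
    intro z
    have hcent : (⟨_, hzmem z⟩ : E) ∈ center E := mem_center_iff.2 fun e => Subtype.ext
      (Prod.ext ((mul_one _).trans (one_mul _).symm) (mem_center_iff.1 (hZc z.2) e.1.2))
    change MonoidHom.transfer r ⟨_, hzmem z⟩ = _
    rw [MonoidHom.transfer_eq_pow r _ fun k g₀ _ => by
      rw [mem_center_iff.1 (pow_mem hcent k) g₀⁻¹, mul_assoc, inv_mul_cancel, mul_one]]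
    have hzR : (⟨_, hzmem z⟩ : E) ∈ R := one_mem (P : Subgroup G)
    rw [show (⟨(⟨_, hzmem z⟩ : E) ^ R.index, _⟩ : R) = (⟨_, hzR⟩ : R) ^ R.index from
      Subtype.ext (SubmonoidClass.coe_pow (⟨_, hzR⟩ : R) R.index).symm, map_pow]
    congr 1
    refine Subtype.ext ?_
    change (z : A) * (ψP (1 : (P : Subgroup G)))⁻¹ = z
    rw [map_one, inv_one, mul_one]
  let ι : K →* E :=
    { toFun := fun k => ⟨((k : G), 1), by
        change π k = ρ 1
        rw [map_one]
        exact (QuotientGroup.eq_one_iff (k : G)).2 k.2⟩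
      map_one' := rfl
      map_mul' := fun a b => Subtype.ext (Prod.ext rfl (one_mul 1).symm) }
  have hτK : ∀ k, τ (ι k) = 1 := eq_one_of_pResidual_eq_top (τ.comp ι) hZp hK
  let φ : (P : Subgroup G) →* Z :=
    τ.comp ((((P : Subgroup G).subtype).prod ψP).codRestrict E fun s => (hρ s).symm)
  have hφQ : ∀ q (hq : q ∈ Q), φ q = (⟨ψP q, q, hq, rfl⟩ : Z) ^ R.index := by
    intro q hq
    rw [← hτz]
    have : ((((P : Subgroup G).subtype).prod ψP).codRestrict E fun s => (hρ s).symm) q =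
        ι ⟨q, hq⟩ * ⟨_, hzmem ⟨ψP q, q, hq, rfl⟩⟩ :=
      Subtype.ext (Prod.ext (mul_one _).symm (one_mul _).symm)
    change τ _ = _
    rw [this, map_mul, hτK, one_mul]
  have hcop : (Nat.card Z).Coprime R.index := by
    obtain ⟨n, hn⟩ := hZp.exists_card_eq
    rw [hn, hRi]
    exact ((Fact.out : p.Prime).coprime_iff_not_dvd.2 P.not_dvd_index).pow_left n
  have hsurj : ∀ z : Z, ∃ q ∈ Q, φ q = z := by
    intro z
    obtain ⟨⟨_, q, hq, rfl⟩, hw⟩ := (powCoprime hcop).surjective z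
    exact ⟨q, hq, (hφQ q hq).trans hw⟩
  have htop : φ.ker ⊔ Q = ⊤ := by
    refine top_le_iff.1 fun s _ => ?_
    obtain ⟨q, hq, hqs⟩ := hsurj (φ s)
    have : s * q⁻¹ ∈ φ.ker := by rw [MonoidHom.mem_ker, map_mul, map_inv, hqs, mul_inv_cancel]
    have := mul_mem_sup this hq
    rwa [inv_mul_cancel_right] at this
  have hker : φ.ker = ⊤ :=
    frattini_nongenerating (top_le_iff.1 (htop.ge.trans (sup_le_sup_left h _)))
  have hQX : Q ≤ X := by
    intro q hq
    rw [← QuotientGroup.eq_one_iff]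
    obtain ⟨q', -, hq'⟩ := hsurj ⟨ψP q, q, hq, rfl⟩
    have h1 : φ q' = 1 := by rw [← MonoidHom.mem_ker, hker]; exact mem_top q'
    rw [h1] at hq'
    exact (congrArg Subtype.val hq').symm
  have := P.2.isNilpotent
  have : Group.IsNilpotent (⊤ : Subgroup (P : Subgroup G)) := Group.isNilpotent_top.2 this
  exact eq_bot_of_le_commutator le_top hQX

end

variable {G : Type*} [Group G] [Finite G] {p : ℕ} [Fact p.Prime]

/-- **Tate's theorem**: a normal subgroup meeting a Sylow subgroup inside its Frattini subgroup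
has a normal `p`-complement. -/
theorem tate (P : Sylow p G) (N : Subgroup G) [N.Normal]
    (h : N.subgroupOf (P : Subgroup G) ≤ frattini (P : Subgroup G)) :
    Cfsg.HasNormalPComplement p N := by
  have := pResidual_characteristic (G := N) (p := p)
  obtain ⟨S, hS⟩ := exists_sylow_eq_subgroupOf P N
  rw [hasNormalPComplement_iff_pResidual_inf_eq_bot S]
  set K := (Cfsg.pResidual p N).map N.subtype with hKdef
  have hKn : K.Normal := ConjAct.normal_of_characteristic_of_normal
  -- pass to `K ⊔ P`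
  set H := K ⊔ (P : Subgroup G)
  let P' := P.subtype (le_sup_right : (P : Subgroup G) ≤ H)
  have hKH : K ≤ H := le_sup_left
  have hKP : K.subgroupOf H ⊔ (P' : Subgroup H) = ⊤ := by
    rw [Sylow.coe_subtype, ← Subgroup.subgroupOf_sup hKH le_sup_right, subgroupOf_self]
  let e : Cfsg.pResidual p N ≃* K.subgroupOf H :=
    ((Cfsg.pResidual p N).equivMapOfInjective N.subtype N.subtype_injective).trans
      (subgroupOfEquivOfLe hKH).symm
  have hK : Cfsg.pResidual p (K.subgroupOf H) = ⊤ := by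
    refine top_le_iff.1 ?_
    rw [← map_top_of_surjective e.toMonoidHom e.surjective, ← pResidual_pResidual (G := N) (p := p)]
    exact map_pResidual_le _
  let e' : (P' : Subgroup H) ≃* (P : Subgroup G) := subgroupOfEquivOfLe le_sup_right
  have hfr : (K.subgroupOf H).subgroupOf (P' : Subgroup H) ≤ frattini (P' : Subgroup H) := by
    intro x hx
    have h1 : e' x ∈ frattini (P : Subgroup G) := h (show (x.1 : G) ∈ N from map_subtype_le _ (show (x.1 : G) ∈ K from hx))
    exact frattini_le_comap_frattini_of_surjective e'.symm.surjective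
      (φ := e'.symm.toMonoidHom) h1 |> fun h2 => by simpa using h2
  have hbot := tate_core P' (K.subgroupOf H) hKP hK hfr
  rw [eq_bot_iff]
  rintro x ⟨hx1, hx2⟩
  rw [hS] at hx2
  have hxP : (x : G) ∈ (P : Subgroup G) := hx2
  have hxK : (x : G) ∈ K := ⟨x, hx1, rfl⟩
  have : (⟨⟨x, hKH hxK⟩, hxP⟩ : (P' : Subgroup H)) ∈
      (K.subgroupOf H).subgroupOf (P' : Subgroup H) := hxK
  rw [hbot, mem_bot] at this
  exact mem_bot.2 (Subtype.ext (congrArg (fun y : (P' : Subgroup H) => ((y : H) : G)) this))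

end CfsgLib.Transfer
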