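import Cfsg.Agent.Lib.Transfer.MaxClass
import Cfsg.Agent.Lib.Invol.Dihedral

/-!
# 2-groups of maximal class
-/

namespace CfsgLib.Transfer

open Subgroup
open scoped commutatorElement

universe u

variable {X : Type u} [Group X] [Finite X]

/-- In a 2-group of maximal class no maximal class group is abelian. -/
theorem not_isMulCommutative_of_maxClass {n : ℕ} (hn : 3 ≤ n) (hX : Nat.card X = 2 ^ n)
    (hc : Group.nilpotencyClass X = n - 1) : ¬ IsMulCommutative X := by
  intro hab
  have : Fact (Nat.Prime 2) := ⟨Nat.prime_two⟩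
  have := (IsPGroup.of_card hX : IsPGroup 2 X).isNilpotent
  have := Group.IsNilpotent.nilpotencyClass_le_one_iff.2 hab
  omega

/-- An element outside an abelian subgroup `A` of index two acts on `A / Z(X)` by inversion. -/
theorem mul_conj_mem_center {A : Subgroup X} [A.Normal]
    (hab : ∀ a ∈ A, ∀ b ∈ A, a * b = b * a) (hi : A.index = 2) {y : X} (hy : y ∉ A) {a : X}
    (ha : a ∈ A) : a * (y * a * y⁻¹) ∈ center X ∧ y * y ∈ center X := by
  have : Fact (Nat.Prime 2) := ⟨Nat.prime_two⟩
  have hy2 : y * y ∈ A := mul_self_mem_of_index_two hi y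
  have hy2c : y * y ∈ center X := mem_center_of_commute (p := 2) hab hi hy hy2 (by simp [mul_assoc])
  have hσ : y * a * y⁻¹ ∈ A := Normal.conj_mem inferInstance a ha y
  refine ⟨mem_center_of_commute (p := 2) hab hi hy (mul_mem ha hσ) ?_, hy2c⟩
  calc y * (a * (y * a * y⁻¹)) = (y * a * y⁻¹) * ((y * y) * a * (y * y)⁻¹) * y := by group
    _ = (y * a * y⁻¹) * a * y := by
        rw [(mem_center_iff.1 hy2c a).symm, mul_inv_cancel_right]
    _ = a * (y * a * y⁻¹) * y := by rw [hab _ hσ a ha]

theorem exists_orderOf_four {n : ℕ} (hX : Nat.card X = 2 ^ n) (hnc : ¬ IsMulCommutative X) :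
    ∃ g : X, orderOf g = 4 := by
  by_contra! hne
  refine hnc ⟨⟨fun a b => ?_⟩⟩
  have hsq : ∀ c : X, c * c = 1 := by
    intro c
    obtain ⟨i, -, hc⟩ := (Nat.dvd_prime_pow Nat.prime_two).1 (hX ▸ _root_.orderOf_dvd_natCard c)
    rw [← sq, ← orderOf_dvd_iff_pow_eq_one, hc]
    rcases i with _ | _ | i
    · exact one_dvd _
    · exact dvd_rfl
    · exfalso
      refine hne (c ^ 2 ^ i) ?_
      rw [orderOf_pow' _ (by positivity), hc,
        Nat.gcd_eq_right (pow_dvd_pow 2 (by omega : i ≤ i + 2)), Nat.pow_div (by omega) (by norm_num),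
        show i + 2 - i = 2 by omega]
  have hi : ∀ c : X, c⁻¹ = c := fun c => inv_eq_of_mul_eq_one_right (hsq c)
  rw [← hi (a * b), mul_inv_rev, hi, hi]

private theorem cyclic_index_two_aux : ∀ n : ℕ, ∀ {X : Type u} [Group X] [Finite X], 3 ≤ n →
    Nat.card X = 2 ^ n → Group.nilpotencyClass X = n - 1 →
      ∃ C : Subgroup X, IsCyclic C ∧ C.index = 2 := by
  intro n
  induction n using Nat.strong_induction_on with
  | _ n ih =>
    intro X _ _ hn hX hc
    have : Fact (Nat.Prime 2) := ⟨Nat.prime_two⟩
    have hnc := not_isMulCommutative_of_maxClass hn hX hc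
    by_cases hn3 : n = 3
    · subst hn3
      obtain ⟨g, hg⟩ := exists_orderOf_four hX hnc
      refine ⟨zpowers g, inferInstance, ?_⟩
      have h1 := (zpowers g).card_mul_index
      rw [Nat.card_zpowers, hg, hX] at h1
      omega
    obtain ⟨hZ, hQ, hQc⟩ := card_center_of_maxClass (p := 2) hn hX hc
    obtain ⟨C, hC, hCi⟩ := ih (n - 1) (by omega) (by omega) hQ hQc
    set π := QuotientGroup.mk' (center X)
    set A := C.comap π
    have hAi : A.index = 2 := by
      rw [index_comap_of_surjective _ (QuotientGroup.mk'_surjective _), hCi]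
    have hAn : A.Normal := normal_of_index_eq_two hAi
    have hAab : IsMulCommutative A :=
      (π.subgroupComap C).isMulCommutative_of_isCyclic_of_ker_le_center fun a ha => by
        rw [mem_center_iff]
        intro b
        have h1 : (a : X) ∈ center X := by
          have h2 : π (a : X) = 1 := congrArg Subtype.val (MonoidHom.mem_ker.1 ha)
          exact (QuotientGroup.eq_one_iff _).1 h2
        exact Subtype.ext (mem_center_iff.1 h1 b)
    have hab : ∀ a ∈ A, ∀ b ∈ A, a * b = b * a := fun a ha b hb =>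
      congrArg Subtype.val (hAab.is_comm.comm ⟨a, ha⟩ ⟨b, hb⟩)
    obtain ⟨hZA, hcard⟩ := card_eq_commutator_mul_center (p := 2) hab hAi hnc
    obtain ⟨⟨a', ha'⟩, hgen⟩ := isCyclic_iff_exists_zpowers_eq_top.1 hC
    obtain ⟨a, rfl⟩ := QuotientGroup.mk'_surjective (center X) a'
    have haA : a ∈ A := ha'
    refine ⟨A, ?_, hAi⟩
    have hA : ∀ b ∈ A, ∃ i : ℤ, ∃ z ∈ center X, b = a ^ i * z := by
      intro b hb
      obtain ⟨i, hi⟩ := mem_zpowers_iff.1 (hgen.ge (mem_top (⟨π b, hb⟩ : C)))
      have hi' : π (a ^ i) = π b := by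
        rw [map_zpow]
        exact congrArg Subtype.val hi
      exact ⟨i, (a ^ i)⁻¹ * b, QuotientGroup.eq.1 hi', by group⟩
    have hAc : Nat.card A = 2 ^ (n - 1) := by
      have h1 := A.card_mul_index
      rw [hAi, hX, show 2 ^ n = 2 ^ (n - 1) * 2 by rw [← pow_succ]; congr 1; omega] at h1
      omega
    by_cases hzA : center X ≤ zpowers a
    · rw [show A = zpowers a from le_antisymm (fun b hb => by
        obtain ⟨i, z, hz, rfl⟩ := hA b hb
        exact mul_mem (zpow_mem (mem_zpowers a) i) (hzA hz)) (zpowers_le.2 haA)]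
      infer_instance
    exfalso
    obtain ⟨y, -, hy⟩ := SetLike.exists_of_lt (lt_top_iff_ne_top.2
      (fun e => by rw [e, index_top] at hAi; omega : A ≠ ⊤))
    have hinf : zpowers a ⊓ center X = ⊥ := by
      have hd := card_dvd_of_le (inf_le_right : zpowers a ⊓ center X ≤ center X)
      rw [hZ] at hd
      rcases (Nat.dvd_prime Nat.prime_two).1 hd with e | e
      · exact Subgroup.card_eq_one.1 e
      · exact absurd ((eq_of_le_of_card_ge (inf_le_right : zpowers a ⊓ center X ≤ center X)
          (by rw [hZ, e])).ge.trans inf_le_left) hzA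
    -- the element of order two of `⟨a⟩` is central
    have hAeq : A = zpowers a ⊔ center X := le_antisymm (fun b hb => by
      obtain ⟨i, z, hz, rfl⟩ := hA b hb
      exact mul_mem (mem_sup_left (zpow_mem (mem_zpowers a) i)) (mem_sup_right hz))
      (sup_le (zpowers_le.2 haA) hZA)
    have hoa : orderOf a = 2 ^ (n - 2) := by
      have h1 : orderOf (π a) = 2 ^ (n - 2) := by
        have h2 : orderOf (⟨π a, ha'⟩ : C) = Nat.card C := by
          rw [← Nat.card_zpowers, hgen, card_top]
        rw [Subgroup.orderOf_mk] at h2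
        have h3 := C.card_mul_index
        rw [hCi, hQ, show 2 ^ (n - 1) = 2 ^ (n - 2) * 2 by rw [← pow_succ]; congr 1; omega] at h3
        omega
      rw [← h1]
      refine Nat.dvd_antisymm (orderOf_dvd_of_pow_eq_one ?_) (orderOf_map_dvd π a)
      have h4 : a ^ orderOf (π a) ∈ zpowers a ⊓ center X := mem_inf.2
        ⟨pow_mem (mem_zpowers a) _, (QuotientGroup.eq_one_iff _).1 (by
          show π (a ^ orderOf (π a)) = 1
          rw [map_pow, pow_orderOf_eq_one])⟩
      rwa [hinf, mem_bot] at h4
    set w := a ^ 2 ^ (n - 3)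
    have how : orderOf w = 2 := by
      rw [orderOf_pow' _ (by positivity), hoa, Nat.gcd_eq_right (pow_dvd_pow 2 (by omega : n - 3 ≤ n - 2)),
        Nat.pow_div (by omega) (by norm_num), show n - 2 - (n - 3) = 1 by omega, pow_one]
    have hwA : w ∈ A := pow_mem haA _
    have hwc : w ∈ center X := by
      refine mem_center_of_commute (p := 2) hab hAi hy hwA ?_
      obtain ⟨hz, -⟩ := mul_conj_mem_center hab hAi hy haA
      set σ := y * a * y⁻¹
      have hσA : σ ∈ A := hAn.conj_mem a haA y
      have h1 : (a * σ) ^ 2 ^ (n - 3) = 1 := by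
        have h2 : (a * σ) ^ 2 = 1 := by
          have h3 := _root_.orderOf_dvd_natCard (⟨a * σ, hz⟩ : center X)
          rw [hZ, Subgroup.orderOf_mk] at h3
          exact orderOf_dvd_iff_pow_eq_one.1 h3
        obtain ⟨k, hk⟩ : 2 ∣ 2 ^ (n - 3) := dvd_pow_self 2 (by omega)
        rw [hk, pow_mul, h2, one_pow]
      rw [(show Commute a σ from hab a haA σ hσA).mul_pow] at h1
      have h2 : σ ^ 2 ^ (n - 3) = y * w * y⁻¹ := conj_pow
      rw [h2] at h1
      have hw2 : w * w = 1 := by rw [← sq]; exact orderOf_dvd_iff_pow_eq_one.1 how.dvd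
      have h4 : y * w * y⁻¹ = w := by
        rw [← inv_eq_of_mul_eq_one_right h1]
        exact inv_eq_of_mul_eq_one_right hw2
      exact mul_inv_eq_iff_eq_mul.1 h4
    have : w = 1 := by
      have h1 : w ∈ zpowers a ⊓ center X := mem_inf.2 ⟨pow_mem (mem_zpowers a) _, hwc⟩
      rwa [hinf, mem_bot] at h1
    rw [this, orderOf_one] at how
    omega

/-- A 2-group of maximal class has a cyclic subgroup of index two. -/
theorem exists_cyclic_index_two {n : ℕ} (hn : 3 ≤ n) (hX : Nat.card X = 2 ^ n)
    (hc : Group.nilpotencyClass X = n - 1) : ∃ C : Subgroup X, IsCyclic C ∧ C.index = 2 :=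
  cyclic_index_two_aux n hn hX hc

theorem center_quotient_dihedral {n : ℕ} (hn : 3 ≤ n) (hX : Nat.card X = 2 ^ n)
    (hc : Group.nilpotencyClass X = n - 1) :
    Nonempty (X ⧸ center X ≃* DihedralGroup (2 ^ (n - 2))) := by
  have : Fact (Nat.Prime 2) := ⟨Nat.prime_two⟩
  obtain ⟨A, hA, hAi⟩ := exists_cyclic_index_two hn hX hc
  have hAn : A.Normal := normal_of_index_eq_two hAi
  have hab : ∀ a ∈ A, ∀ b ∈ A, a * b = b * a := fun a ha b hb => by
    let _ := IsCyclic.commGroup (α := A)
    exact congrArg Subtype.val (mul_comm (⟨a, ha⟩ : A) ⟨b, hb⟩)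
  obtain ⟨hZA, -⟩ := card_eq_commutator_mul_center (p := 2) hab hAi
    (not_isMulCommutative_of_maxClass hn hX hc)
  obtain ⟨hZ, hQ, -⟩ := card_center_of_maxClass (p := 2) hn hX hc
  obtain ⟨y, -, hy⟩ := SetLike.exists_of_lt (lt_top_iff_ne_top.2
    (fun e => by rw [e, index_top] at hAi; omega : A ≠ ⊤))
  obtain ⟨⟨a, haA⟩, hgen⟩ := isCyclic_iff_exists_zpowers_eq_top.1 hA
  have hAe : A = zpowers a := by
    have h1 := congrArg (Subgroup.map A.subtype) hgen
    rw [MonoidHom.map_zpowers, ← MonoidHom.range_eq_map, range_subtype] at h1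
    exact h1.symm
  set π := QuotientGroup.mk' (center X)
  obtain ⟨hz, hy2⟩ := mul_conj_mem_center hab hAi hy haA
  have hoa : orderOf (π a) = 2 ^ (n - 2) := by
    rw [← Nat.card_zpowers, ← MonoidHom.map_zpowers, ← hAe,
      show Nat.card (A.map π) = π.ker.relIndex A from (relIndex_ker _ _).symm, QuotientGroup.ker_mk']
    have h1 := relIndex_mul_relIndex ⊥ (center X) A bot_le hZA
    have h2 := A.card_mul_index
    rw [relIndex_bot_left, relIndex_bot_left, hZ] at h1
    rw [hAi, hX, show 2 ^ n = 2 ^ (n - 2) * 4 by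
      rw [show (4 : ℕ) = 2 ^ 2 by norm_num, ← pow_add]; congr 1; omega] at h2
    omega
  have hyZ : π y ≠ 1 := fun e => hy (hZA ((QuotientGroup.eq_one_iff y).1 e))
  have hoy : orderOf (π y) = 2 := orderOf_eq_prime
    (by rw [sq, ← map_mul]; exact (QuotientGroup.eq_one_iff _).2 hy2) hyZ
  have hinv : π y * π a * (π y)⁻¹ = (π a)⁻¹ := by
    refine eq_inv_of_mul_eq_one_right ?_
    rw [← map_inv, ← map_mul, ← map_mul, ← map_mul]
    exact (QuotientGroup.eq_one_iff _).2 hz
  have hnot : π y ∉ zpowers (π a) := by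
    intro hmem
    obtain ⟨i, hi⟩ := mem_zpowers_iff.1 hmem
    rw [← map_zpow] at hi
    have h1 : (a ^ i)⁻¹ * y ∈ center X := QuotientGroup.eq.1 hi
    refine hy ?_
    simpa using mul_mem (zpow_mem haA i) (hZA h1)
  have hn2 : NeZero (2 ^ (n - 2)) := ⟨by positivity⟩
  obtain ⟨e⟩ := Invol.exists_mulEquiv_dihedral hoa hoy hinv hnot
  have hgenQ : closure ({π a, π y} : Set (X ⧸ center X)) = ⊤ := by
    refine eq_top_of_card_eq _ ?_
    rw [Nat.card_congr e.toEquiv, DihedralGroup.nat_card, hQ,
      show n - 1 = n - 2 + 1 by omega, pow_succ']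
  exact ⟨(topEquiv.symm.trans (MulEquiv.subgroupCongr hgenQ.symm)).trans e⟩

theorem commutator_index_four_of_maxClass {n : ℕ} (hn : 3 ≤ n) (hX : Nat.card X = 2 ^ n)
    (hc : Group.nilpotencyClass X = n - 1) :
    (_root_.commutator X).index = 4 ∧ ∀ x : X, x * x ∈ _root_.commutator X := by
  have : Fact (Nat.Prime 2) := ⟨Nat.prime_two⟩
  have hnc := not_isMulCommutative_of_maxClass hn hX hc
  obtain ⟨A, hA, hAi⟩ := exists_cyclic_index_two hn hX hc
  have hAn : A.Normal := normal_of_index_eq_two hAi
  have hab : ∀ a ∈ A, ∀ b ∈ A, a * b = b * a := fun a ha b hb => by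
    let _ := IsCyclic.commGroup (α := A)
    exact congrArg Subtype.val (mul_comm (⟨a, ha⟩ : A) ⟨b, hb⟩)
  obtain ⟨hZA, hcard⟩ := card_eq_commutator_mul_center (p := 2) hab hAi hnc
  obtain ⟨hZ, -, -⟩ := card_center_of_maxClass (p := 2) hn hX hc
  have h2 := A.card_mul_index
  rw [hAi, hcard, hZ, hX] at h2
  have h3 := (_root_.commutator X).card_mul_index
  rw [hX, ← h2] at h3
  have hidx : (_root_.commutator X).index = 4 := by
    have hpos := Nat.card_pos (α := _root_.commutator X)
    have : Nat.card (_root_.commutator X) * (_root_.commutator X).index =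
        Nat.card (_root_.commutator X) * 4 := by rw [h3]; ring
    exact Nat.eq_of_mul_eq_mul_left hpos this
  refine ⟨hidx, fun x => ?_⟩
  have hCA : _root_.commutator X ≤ A := by
    refine (Normal.quotient_commutative_iff_commutator_le (N := A)).1 ?_
    have := isCyclic_of_prime_card (α := X ⧸ A) (p := 2) (by rw [← index_eq_card, hAi])
    exact ⟨⟨fun u v => by let _ := IsCyclic.commGroup (α := X ⧸ A); exact mul_comm u v⟩⟩
  have hr : (_root_.commutator X).relIndex A = 2 := by
    have := relIndex_mul_index hCA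
    rw [hAi, hidx] at this
    omega
  by_cases hx : x ∈ A
  · have h5 := mul_self_mem_of_index_two (H := (_root_.commutator X).subgroupOf A) hr ⟨x, hx⟩
    exact h5
  · obtain ⟨-, hxx⟩ := mul_conj_mem_center hab hAi hx (one_mem A)
    have hne : _root_.commutator X ≠ ⊥ := fun e => hnc (by
      have h6 := (Normal.quotient_commutative_iff_commutator_le (N := (⊥ : Subgroup X))).2 e.le
      exact ⟨⟨fun a b => (QuotientGroup.quotientBot (G := X)).symm.injective
        (by rw [map_mul, map_mul, h6.is_comm.comm])⟩⟩)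
    obtain ⟨M, hMn, hMle, hMc⟩ := exists_normal_le_card (p := 2) (IsPGroup.of_card hX)
      (_root_.commutator X) (k := 1) (by
        obtain ⟨c, hcc⟩ := ((IsPGroup.of_card hX : IsPGroup 2 X).to_subgroup
          (_root_.commutator X)).exists_card_eq
        rw [hcc, pow_one]
        refine dvd_pow_self 2 ?_
        rintro rfl
        exact hne (Subgroup.card_eq_one.1 (hcc.trans (pow_zero 2))))
    have hMZ : M ≤ center X := by
      have h7 := index_centralizer_le_of_normal (IsPGroup.of_card hX : IsPGroup 2 X) 1 M hMc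
      simp only [show (1 * (1 - 1) / 2) = 0 by rfl, pow_zero] at h7
      have h8 : centralizer (M : Set X) = ⊤ := index_eq_one.1
        (le_antisymm h7 (Nat.pos_of_ne_zero index_ne_zero_of_finite))
      intro m hm
      exact mem_center_iff.2 fun g => (mem_centralizer_iff.1 (h8.ge (mem_top g)) m hm).symm
    exact hMle ((eq_of_le_of_card_ge hMZ (by rw [hZ, hMc, pow_one])).ge hxx)

private theorem maxClass_of_commutator_aux : ∀ n : ℕ, ∀ {X : Type u} [Group X] [Finite X], 3 ≤ n →
    Nat.card X = 2 ^ n → (_root_.commutator X).index = 4 →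
      (∀ x : X, x * x ∈ _root_.commutator X) → Group.nilpotencyClass X = n - 1 := by
  intro n
  induction n using Nat.strong_induction_on with
  | _ n ih =>
    intro X _ _ hn hX hidx hsq
    have : Fact (Nat.Prime 2) := ⟨Nat.prime_two⟩
    have hXp : IsPGroup 2 X := IsPGroup.of_card hX
    have := hXp.isNilpotent
    have := nontrivial_of_card_pow (p := 2) one_lt_two (by omega) hX
    have h3 := (_root_.commutator X).card_mul_index
    rw [hidx, hX, show 2 ^ n = 2 ^ (n - 2) * 4 by
      rw [show (4 : ℕ) = 2 ^ 2 by norm_num, ← pow_add]; congr 1; omega] at h3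
    have hCc : Nat.card (_root_.commutator X) = 2 ^ (n - 2) := by omega
    have hnc : ¬ IsMulCommutative X := by
      intro h
      have e : _root_.commutator X = ⊥ := by
        rw [commutator_def, commutator_eq_bot_iff_le_centralizer]
        exact fun a _ => mem_centralizer_iff.2 fun b _ => h.is_comm.comm b a
      rw [e, card_bot] at hCc
      have := Nat.one_lt_two_pow (show n - 2 ≠ 0 by omega)
      omega
    by_cases hn3 : n = 3
    · subst hn3
      have h1 := nilpotencyClass_le_of_card (p := 2) hX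
      have h2 : ¬ Group.nilpotencyClass X ≤ 1 := fun h =>
        hnc (Group.IsNilpotent.nilpotencyClass_le_one_iff.1 h)
      omega
    obtain ⟨Z, hZn, hZle, hZc⟩ := exists_normal_le_card (p := 2) hXp (_root_.commutator X) (k := 1)
      (by rw [hCc]; exact pow_dvd_pow 2 (by omega))
    have hZZ : Z ≤ center X := by
      have h7 := index_centralizer_le_of_normal hXp 1 Z hZc
      simp only [show (1 * (1 - 1) / 2) = 0 by rfl, pow_zero] at h7
      have h8 : centralizer (Z : Set X) = ⊤ := index_eq_one.1
        (le_antisymm h7 (Nat.pos_of_ne_zero index_ne_zero_of_finite))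
      intro m hm
      exact mem_center_iff.2 fun g => (mem_centralizer_iff.1 (h8.ge (mem_top g)) m hm).symm
    set π := QuotientGroup.mk' Z
    have hQc : Nat.card (X ⧸ Z) = 2 ^ (n - 1) := by
      have h1 := Z.card_mul_index
      rw [index_eq_card, hZc, hX, show 2 ^ n = 2 ^ 1 * 2 ^ (n - 1) by
        rw [← pow_add]; congr 1; omega] at h1
      exact Nat.eq_of_mul_eq_mul_left (by norm_num) h1
    have hcm : _root_.commutator (X ⧸ Z) = (_root_.commutator X).map π := by
      rw [commutator_def, commutator_def, map_commutator,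
        map_top_of_surjective _ (QuotientGroup.mk'_surjective Z)]
    have hQi : (_root_.commutator (X ⧸ Z)).index = 4 := by
      rw [hcm, index_map_eq _ (QuotientGroup.mk'_surjective Z) (by rw [QuotientGroup.ker_mk']; exact hZle),
        hidx]
    have hQsq : ∀ q : X ⧸ Z, q * q ∈ _root_.commutator (X ⧸ Z) := by
      intro q
      obtain ⟨x, rfl⟩ := QuotientGroup.mk'_surjective Z q
      rw [hcm, ← map_mul]
      exact mem_map_of_mem _ (hsq x)
    have hclass := ih (n - 1) (by omega) (by omega) hQc hQi hQsq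
    obtain ⟨C, hC, hCi⟩ := exists_cyclic_index_two (by omega) hQc hclass
    set A := C.comap π
    have hAi : A.index = 2 := by
      rw [index_comap_of_surjective _ (QuotientGroup.mk'_surjective _), hCi]
    have hAn : A.Normal := normal_of_index_eq_two hAi
    have hAab : IsMulCommutative A :=
      (π.subgroupComap C).isMulCommutative_of_isCyclic_of_ker_le_center fun a ha => by
        rw [mem_center_iff]
        intro b
        have h1 : (a : X) ∈ center X := by
          have h2 : π (a : X) = 1 := congrArg Subtype.val (MonoidHom.mem_ker.1 ha)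
          exact hZZ ((QuotientGroup.eq_one_iff _).1 h2)
        exact Subtype.ext (mem_center_iff.1 h1 b)
    have hab : ∀ a ∈ A, ∀ b ∈ A, a * b = b * a := fun a ha b hb =>
      congrArg Subtype.val (hAab.is_comm.comm ⟨a, ha⟩ ⟨b, hb⟩)
    obtain ⟨hZA, hcard⟩ := card_eq_commutator_mul_center (p := 2) hab hAi hnc
    have hA2 := A.card_mul_index
    rw [hAi, hcard, hCc, hX, show 2 ^ n = 2 ^ (n - 2) * 2 * 2 by
      rw [← pow_succ, ← pow_succ]; congr 1; omega] at hA2
    have hZ2 : Nat.card (center X) = 2 := by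
      have := Nat.eq_of_mul_eq_mul_right (by norm_num) hA2
      exact Nat.eq_of_mul_eq_mul_left (by positivity) this
    have he : Z = center X := eq_of_le_of_card_ge hZZ (by rw [hZ2, hZc, pow_one])
    rw [Group.nilpotencyClass_eq_quotient_center_plus_one,
      ← (show Group.nilpotencyClass (X ⧸ Z) = Group.nilpotencyClass (X ⧸ center X) by subst he; rfl),
      hclass]
    omega

/-- Taussky: a 2-group with four-group commutator quotient has maximal class. -/
theorem maxClass_of_commutator {n : ℕ} (hn : 3 ≤ n) (hX : Nat.card X = 2 ^ n)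
    (hidx : (_root_.commutator X).index = 4) (hsq : ∀ x : X, x * x ∈ _root_.commutator X) :
    Group.nilpotencyClass X = n - 1 :=
  maxClass_of_commutator_aux n hn hX hidx hsq

end CfsgLib.Transfer
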