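import Cfsg.Agent.Lib.Transfer.Focal

/-!
# Consequences of transfer for abelian Sylow and Hall subgroups
-/

namespace CfsgLib.Transfer

open Subgroup
open scoped Pointwise commutatorElement

variable {G : Type*} [Group G] [Finite G]

/-- An abelian Hall subgroup meets `G' ∩ Z(G)` trivially. -/
theorem inf_commutator_inf_center_eq_bot (H : Subgroup G) [IsMulCommutative H]
    (hH : (Nat.card H).Coprime H.index) : H ⊓ commutator G ⊓ center G = ⊥ := by
  rw [eq_bot_iff]
  rintro z ⟨⟨hzH, hzG⟩, hzZ⟩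
  open scoped IsMulCommutative in
  have h1 : MonoidHom.transfer (MonoidHom.id H) z = 1 :=
    Abelianization.commutator_subset_ker _ hzG
  open scoped IsMulCommutative in
  rw [MonoidHom.transfer_eq_pow (MonoidHom.id H) z fun k g₀ _ => by
    rw [mem_center_iff.1 (pow_mem hzZ k) g₀⁻¹, mul_assoc, inv_mul_cancel, mul_one]] at h1
  have h2 : z ^ H.index = 1 := congrArg Subtype.val h1
  have h3 : z ^ Nat.card H = 1 := by
    exact congrArg Subtype.val (pow_card_eq_one' (x := (⟨z, hzH⟩ : H)))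
  have h4 : orderOf z = 1 := Nat.eq_one_of_dvd_coprimes hH (orderOf_dvd_of_pow_eq_one h3)
    (orderOf_dvd_of_pow_eq_one h2)
  exact mem_bot.2 (orderOf_eq_one_iff.1 h4)

section

open scoped IsMulCommutative

/-- For an abelian normal Hall subgroup `A`: `[A, G] = G' ∩ A` and `A = [A, G] × (Z(G) ∩ A)`. -/
theorem abelian_normal_hall_decomposition (A : Subgroup G) [A.Normal] [IsMulCommutative A]
    (hA : (Nat.card A).Coprime A.index) :
    ⁅A, (⊤ : Subgroup G)⁆ = commutator G ⊓ A ∧
      (commutator G ⊓ A) ⊓ (center G ⊓ A) = ⊥ ∧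
      (commutator G ⊓ A) ⊔ (center G ⊓ A) = A := by
  classical
  have hdvd : Nat.card (A ⧸ A.focalSubgroupOf) ∣ Nat.card A := card_quotient_dvd_card _
  have hfoc : commutator G ⊓ A ≤ ⁅A, (⊤ : Subgroup G)⁆ := by
    rw [(commutator_inf_eq_focal_of_coprime A (hA.symm.coprime_dvd_right hdvd)).1]
    exact focalSubgroup_le_of_controls fun x _ g _ => ⟨g, mem_top g, rfl⟩
  have heq : ⁅A, (⊤ : Subgroup G)⁆ = commutator G ⊓ A :=
    le_antisymm (le_inf (commutator_mono le_top le_rfl) (commutator_le_left A ⊤)) hfoc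
  refine ⟨heq, ?_, ?_⟩
  · rw [eq_bot_iff, ← inf_commutator_inf_center_eq_bot A hA]
    rintro x ⟨⟨hx1, hx2⟩, hx3, -⟩
    exact ⟨⟨hx2, hx1⟩, hx3⟩
  refine le_antisymm (sup_le inf_le_right inf_le_right) fun a ha => ?_
  -- the norm map over `G ⧸ A`
  let c : G → A := fun g => ⟨g * a * g⁻¹, ‹A.Normal›.conj_mem a ha g⟩
  have hc : ∀ g, ∀ b ∈ A, c (g * b) = c g := fun g b hb => Subtype.ext <| by
    have hcomm : b * a = a * b :=
      congrArg Subtype.val (mul_comm (⟨b, hb⟩ : A) ⟨a, ha⟩)
    change g * b * a * (g * b)⁻¹ = g * a * g⁻¹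
    rw [mul_assoc g b a, hcomm]; group
  let _ : Fintype (G ⧸ A) := Fintype.ofFinite _
  let f : G ⧸ A → A := fun q => c q.out
  have hf : ∀ g : G, f (g : G ⧸ A) = c g := by
    intro g
    obtain ⟨b, hb⟩ := QuotientGroup.mk_out_eq_mul A g
    simp only [f, hb]
    exact hc g b b.2
  set N : A := ∏ q, f q with hN
  have hNc : (N : G) ∈ center G := by
    rw [mem_center_iff]
    intro g
    let σ : A →* A :=
      { toFun := fun x => ⟨g * x * g⁻¹, ‹A.Normal›.conj_mem x x.2 g⟩
        map_one' := Subtype.ext (by simp)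
        map_mul' := fun x y => Subtype.ext (by simp [mul_assoc]) }
    have h1 : σ N = N := by
      rw [hN, map_prod]
      refine Fintype.prod_equiv (MulAction.toPerm g) _ _ fun q => ?_
      obtain ⟨x, rfl⟩ := QuotientGroup.mk_surjective q
      rw [MulAction.toPerm_apply, MulAction.Quotient.smul_mk, hf, hf]
      exact Subtype.ext (by simp [σ, c, mul_assoc])
    have h2 : g * N * g⁻¹ = (N : G) := congrArg Subtype.val h1
    exact mul_inv_eq_iff_eq_mul.1 h2
  set n := A.index
  have hprod : ((∏ q, (⟨a, ha⟩ : A) * (f q)⁻¹ : A) : G) ∈ ⁅A, (⊤ : Subgroup G)⁆ := by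
    refine Subgroup.prod_mem (⁅A, (⊤ : Subgroup G)⁆.subgroupOf A) fun q _ => ?_
    rw [mem_subgroupOf]
    have := commutator_mem_commutator ha (mem_top q.out)
    simpa [f, c, commutatorElement_def, mul_assoc] using this
  have hpow : a ^ n ∈ (commutator G ⊓ A) ⊔ (center G ⊓ A) := by
    have h1 : (∏ q, (⟨a, ha⟩ : A) * (f q)⁻¹) * N = (⟨a, ha⟩ : A) ^ n := by
      rw [Finset.prod_mul_distrib, Finset.prod_inv_distrib, inv_mul_cancel_right,
        Finset.prod_const, Finset.card_univ, ← Nat.card_eq_fintype_card, ← index_eq_card]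
    have h2 : ((∏ q, (⟨a, ha⟩ : A) * (f q)⁻¹ : A) : G) * N = a ^ n := congrArg Subtype.val h1
    rw [← h2, ← heq]
    exact mul_mem_sup hprod ⟨hNc, N.2⟩
  obtain ⟨m, hm⟩ := exists_pow_eq_self_of_coprime
    (hA.symm.coprime_dvd_right (A.orderOf_dvd_natCard ha))
  rw [← hm]
  exact pow_mem hpow m

end

variable {p : ℕ} [Fact p.Prime]

/-- An abelian Sylow `p`-subgroup of order `p ^ n` is central in its normalizer if no prime
`r ≠ p` dividing `|G|` divides some `p ^ n - p ^ j`, `j < n`. -/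
theorem normalizer_le_centralizer_of_no_prime (P : Sylow p G) [IsMulCommutative (P : Subgroup G)]
    {n : ℕ} (hn : Nat.card (P : Subgroup G) = p ^ n)
    (h : ∀ r : ℕ, r.Prime → r ≠ p → r ∣ Nat.card G → ∀ j < n, ¬ p ^ n ≡ p ^ j [MOD r]) :
    normalizer ((P : Subgroup G) : Set G) ≤ centralizer ((P : Subgroup G) : Set G) := by
  set N := normalizer ((P : Subgroup G) : Set G)
  set C := centralizer ((P : Subgroup G) : Set G)
  rw [← relIndex_eq_one]
  by_contra hne
  obtain ⟨r, hr, hrdvd⟩ := Nat.exists_prime_and_dvd hne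
  have : Fact r.Prime := ⟨hr⟩
  have hrN : r ∣ Nat.card N := hrdvd.trans (relIndex_dvd_card _ _)
  have hrp : r ≠ p := by
    rintro rfl
    exact P.not_dvd_index (hrdvd.trans ((relIndex_dvd_of_le_left _ (le_centralizer _)).trans
      (relIndex_dvd_index_of_le le_normalizer)))
  obtain ⟨R⟩ := (inferInstance : Nonempty (Sylow r N))
  let act : MulAction R (P : Subgroup G) :=
    { smul := fun x y => ⟨(x : N) * y * ((x : N) : G)⁻¹,
        (mem_normalizer_iff.1 (x : N).2 y).1 y.2⟩
      one_smul := fun y => Subtype.ext (by change (1 : G) * y * (1 : G)⁻¹ = y; simp)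
      mul_smul := fun x y z => Subtype.ext (by
        change ((x * y : R) : N) * (z : G) * (((x * y : R) : N) : G)⁻¹ =
          ((x : N) : G) * (((y : N) : G) * z * ((y : N) : G)⁻¹) * ((x : N) : G)⁻¹
        simp [mul_assoc]) }
  let F : Subgroup (P : Subgroup G) :=
    { carrier := MulAction.fixedPoints R (P : Subgroup G)
      one_mem' := fun x => Subtype.ext (by change ((x : N) : G) * 1 * _ = 1; simp)
      mul_mem' := fun {a b} ha hb x => Subtype.ext (by
        have e1 : ((x : N) : G) * a * ((x : N) : G)⁻¹ = a := congrArg Subtype.val (ha x)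
        have e2 : ((x : N) : G) * b * ((x : N) : G)⁻¹ = b := congrArg Subtype.val (hb x)
        change ((x : N) : G) * (a * b) * ((x : N) : G)⁻¹ = a * b
        calc _ = (((x : N) : G) * a * ((x : N) : G)⁻¹) * (((x : N) : G) * b * ((x : N) : G)⁻¹) := by
              group
          _ = _ := by rw [e1, e2])
      inv_mem' := fun {a} ha x => Subtype.ext (by
        have e1 : ((x : N) : G) * a * ((x : N) : G)⁻¹ = a := congrArg Subtype.val (ha x)
        change ((x : N) : G) * (a : G)⁻¹ * ((x : N) : G)⁻¹ = (a : G)⁻¹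
        calc _ = (((x : N) : G) * a * ((x : N) : G)⁻¹)⁻¹ := by group
          _ = _ := by rw [e1]) }
  obtain ⟨j, hj, hFj⟩ : ∃ j ≤ n, Nat.card F = p ^ j :=
    (Nat.dvd_prime_pow Fact.out).1 (hn ▸ card_subgroup_dvd_card F)
  have hmod : p ^ n ≡ p ^ j [MOD r] := by
    rw [← hn, ← hFj]
    exact R.2.card_modEq_card_fixedPoints (α := (P : Subgroup G))
  rcases hj.lt_or_eq with hlt | rfl
  · exact h r hr hrp (hrN.trans (card_subgroup_dvd_card N)) j hlt hmod
  · have hF : F = ⊤ := eq_top_of_card_eq F (by rw [hFj, hn])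
    have hRC : (R : Subgroup N) ≤ C.subgroupOf N := fun x hx => by
      rw [mem_subgroupOf, mem_centralizer_iff]
      intro y hy
      have hy' : (⟨y, hy⟩ : (P : Subgroup G)) ∈ F := hF ▸ mem_top _
      have := congrArg Subtype.val (hy' ⟨x, hx⟩)
      exact (mul_inv_eq_iff_eq_mul.1 this).symm
    exact R.not_dvd_index (hrdvd.trans (index_dvd_of_le hRC))

/-- `P = [P, N(P)] × C_P(N(P))` for an abelian Sylow subgroup `P`. -/
theorem abelian_sylow_decomposition (P : Sylow p G) [IsMulCommutative (P : Subgroup G)] :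
    ⁅(P : Subgroup G), normalizer ((P : Subgroup G) : Set G)⁆ ⊓
        ((P : Subgroup G) ⊓ centralizer (normalizer ((P : Subgroup G) : Set G) : Set G)) = ⊥ ∧
      ⁅(P : Subgroup G), normalizer ((P : Subgroup G) : Set G)⁆ ⊔
        ((P : Subgroup G) ⊓ centralizer (normalizer ((P : Subgroup G) : Set G) : Set G)) =
          (P : Subgroup G) := by
  set N := normalizer ((P : Subgroup G) : Set G) with hNdef
  have hPN : (P : Subgroup G) ≤ N := le_normalizer
  set A := (P : Subgroup G).subgroupOf N with hA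
  have : A.Normal := normal_in_normalizer
  have : IsMulCommutative A := ⟨⟨fun a b => Subtype.ext (Subtype.ext
    (congrArg Subtype.val (IsMulCommutative.is_comm.comm
      (⟨(a : N), mem_subgroupOf.1 a.2⟩ : (P : Subgroup G)) ⟨(b : N), mem_subgroupOf.1 b.2⟩) :))⟩⟩
  have hhall : (Nat.card A).Coprime A.index := by
    rw [hA, ← P.coe_subtype hPN]; exact Sylow.card_coprime_index _
  obtain ⟨h1, h2, h3⟩ := abelian_normal_hall_decomposition A hhall
  rw [← h1] at h2 h3
  have hD : (⁅A, (⊤ : Subgroup N)⁆).map N.subtype = ⁅(P : Subgroup G), N⁆ := by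
    rw [map_commutator, hA, map_subgroupOf_eq_of_le hPN, ← MonoidHom.range_eq_map, range_subtype]
  have hC : (center N ⊓ A).map N.subtype =
      (P : Subgroup G) ⊓ centralizer (N : Set G) := by
    ext x
    constructor
    · rintro ⟨y, ⟨hy1, hy2⟩, rfl⟩
      exact ⟨hy2, mem_centralizer_iff.2 fun n hn =>
        congrArg Subtype.val (mem_center_iff.1 hy1 ⟨n, hn⟩)⟩
    · rintro ⟨hx1, hx2⟩
      exact ⟨⟨x, hPN hx1⟩, ⟨mem_center_iff.2 fun n => Subtype.ext
        (mem_centralizer_iff.1 hx2 n n.2), hx1⟩, rfl⟩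
  constructor
  · rw [← hD, ← hC, ← Subgroup.map_inf _ _ _ N.subtype_injective, h2, Subgroup.map_bot]
  · rw [← hD, ← hC, ← Subgroup.map_sup, h3, hA, map_subgroupOf_eq_of_le hPN]

end CfsgLib.Transfer
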