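import Cfsg.Agent.Lib.Transfer.SylowLemmas
import Cfsg.Agent.Lib.Transfer.AbelianSylow
import Mathlib.GroupTheory.Perm.Cycle.Type
import Mathlib.RingTheory.IntegralDomain

/-!
# No finite group has exactly 21 Sylow 5-subgroups
-/

namespace CfsgLib.Transfer

open Subgroup MulAction
open scoped Pointwise commutatorElement

/-- The sign of a permutation with `σ ^ 4 = 1` from two support sizes. -/
theorem sign_of_pow_four_eq_one {α : Type*} [Fintype α] [DecidableEq α] (σ : Equiv.Perm α)
    (h : σ ^ 4 = 1) :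
    Equiv.Perm.sign σ =
      (-1) ^ ((σ.support.card - (σ ^ 2).support.card) / 2 + (σ ^ 2).support.card / 4) := by
  have key : σ ^ 4 = 1 → ∃ a b : ℕ, σ.support.card = 2 * a + 4 * b ∧
      (σ ^ 2).support.card = 4 * b ∧ Equiv.Perm.sign σ = (-1) ^ (a + b) := by
    induction σ using Equiv.Perm.cycle_induction_on with
    | base_one => exact fun _ => ⟨0, 0, by simp, by simp, by simp⟩
    | base_cycles σ hσ =>
      intro h4
      have hdvd : σ.support.card ∣ 4 := hσ.orderOf ▸ orderOf_dvd_of_pow_eq_one h4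
      have h2 := hσ.two_le_card_support
      have hle := Nat.le_of_dvd (by norm_num) hdvd
      have hcases : σ.support.card = 2 ∨ σ.support.card = 4 := by
        interval_cases σ.support.card <;> simp_all
      rcases hcases with hc | hc
      · refine ⟨1, 0, by simp [hc], ?_, by rw [hσ.sign, hc]; rfl⟩
        have : σ ^ 2 = 1 := hc ▸ hσ.orderOf ▸ pow_orderOf_eq_one σ
        simp [this]
      · refine ⟨0, 1, by simp [hc], ?_, by rw [hσ.sign, hc]; rfl⟩
        rw [hσ.support_pow_eq_iff.2 (by rw [hσ.orderOf, hc]; norm_num), hc]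
    | induction_disjoint σ τ hd _ ihσ ihτ =>
      intro h4
      have h' : σ ^ 4 * τ ^ 4 = 1 := by rw [← hd.commute.mul_pow, h4]
      obtain ⟨hs, ht⟩ := (hd.pow_disjoint_pow 4 4).mul_eq_one_iff.1 h'
      obtain ⟨a, b, h1, h2, h3⟩ := ihσ (by simpa using hs) hs
      obtain ⟨c, d, k1, k2, k3⟩ := ihτ (by simpa using ht) ht
      refine ⟨a + c, b + d, ?_, ?_, ?_⟩
      · rw [hd.card_support_mul, h1, k1]; ring
      · rw [hd.commute.mul_pow, (hd.pow_disjoint_pow 2 2).card_support_mul, h2, k2]; ring
      · rw [map_mul, h3, k3, ← pow_add]; congr 1; ring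
  obtain ⟨a, b, h1, h2, h3⟩ := key h
  rw [h3, h1, h2, Nat.add_sub_cancel, Nat.mul_div_cancel_left _ (by norm_num),
    Nat.mul_div_cancel_left _ (by norm_num)]

variable {G : Type*} [Group G] [Finite G] {p : ℕ} [Fact p.Prime]

/-- `H.relIndex M ∣ H.index` for `M` normal. -/
theorem relIndex_dvd_index_normal_right (H M : Subgroup G) [M.Normal] :
    H.relIndex M ∣ H.index := by
  have h1 : H.relIndex M = H.relIndex (H ⊔ M) := by
    have e1 := relIndex_mul_relIndex ⊥ M (H ⊔ M) bot_le le_sup_right
    have e2 := relIndex_mul_relIndex ⊥ H (H ⊔ M) bot_le le_sup_left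
    have e3 := relIndex_mul_relIndex ⊥ (H ⊓ M) H bot_le inf_le_left
    have e4 := relIndex_mul_relIndex ⊥ (H ⊓ M) M bot_le inf_le_right
    rw [relIndex_sup_right] at e1
    rw [inf_relIndex_left] at e3
    rw [inf_relIndex_right] at e4
    rw [← e4, ← e2, ← e3] at e1
    have hpos : (⊥ : Subgroup G).relIndex (H ⊓ M) * M.relIndex H ≠ 0 := by
      rw [e3, relIndex_bot_left]; exact Nat.card_pos.ne'
    exact Nat.eq_of_mul_eq_mul_left (Nat.pos_of_ne_zero hpos) (by rw [← e1]; ring)
  rw [h1]; exact relIndex_dvd_index_of_le le_sup_left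

/-- The only Sylow subgroup fixed by `P` is `P`. -/
theorem eq_of_forall_smul_eq {P Q : Sylow p G} (h : ∀ x ∈ P, x • Q = Q) : Q = P := by
  have hle : (P : Subgroup G) ≤ Subgroup.normalizer (Q : Set G) := fun x hx =>
    Sylow.smul_eq_iff_mem_normalizer.1 (h x hx)
  have := P.2.inf_normalizer_sylow Q
  rw [inf_eq_left.2 hle, eq_comm, inf_eq_left] at this
  exact Sylow.ext (P.3 Q.2 this)

/-- If `P` normalizes `H`, the `H`-orbit of `P` has size congruent to `1` modulo `p`. -/
theorem orbit_card_modEq_one (P : Sylow p G) (H : Subgroup G)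
    (hPH : (P : Subgroup G) ≤ normalizer (H : Set G)) :
    Nat.card (orbit H P) ≡ 1 [MOD p] := by
  let act : MulAction (P : Subgroup G) (orbit H P) :=
    { smul := fun x o => ⟨(x : G) • (o : Sylow p G), by
        obtain ⟨_, h, rfl⟩ := o
        refine ⟨⟨(x : G) * h * (x : G)⁻¹, (mem_normalizer_iff.1 (hPH x.2) h).1 h.2⟩, ?_⟩
        change ((x : G) * h * (x : G)⁻¹) • P = (x : G) • ((h : G) • P)
        have hx : (x : G)⁻¹ • P = P :=
          Sylow.smul_eq_iff_mem_normalizer.2 (Subgroup.le_normalizer (inv_mem x.2))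
        rw [mul_smul, hx, mul_smul]⟩
      one_smul := fun o => Subtype.ext (one_smul G (o : Sylow p G))
      mul_smul := fun x y o => Subtype.ext (mul_smul (x : G) (y : G) (o : Sylow p G)) }
  refine (P.2.card_modEq_card_fixedPoints (α := orbit H P)).trans ?_
  have hP : (⟨P, mem_orbit_self P⟩ : orbit H P) ∈ fixedPoints (P : Subgroup G) (orbit H P) :=
    fun x => Subtype.ext (Sylow.smul_eq_iff_mem_normalizer.2 (Subgroup.le_normalizer x.2))
  have : fixedPoints (P : Subgroup G) (orbit H P) = {⟨P, mem_orbit_self P⟩} := by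
    refine Set.eq_singleton_iff_unique_mem.2 ⟨hP, fun o ho => Subtype.ext ?_⟩
    exact eq_of_forall_smul_eq fun x hx => congrArg Subtype.val (ho ⟨x, hx⟩)
  rw [this, Nat.card_unique]

section Simple

variable [IsSimpleGroup G] [Fact (Nat.Prime 5)]

/-- In a simple group with `21` Sylow `5`-subgroups of order `5`, an involution centralizing `P`
fixes no other Sylow subgroup. -/
theorem eq_of_involution_fix (h21 : Nat.card (Sylow 5 G) = 21) (hG : ¬ IsMulCommutative G)
    (hfaith : ∀ g : G, (∀ Q : Sylow 5 G, g • Q = Q) → g = 1) (P : Sylow 5 G) {z : G} (hz2 : z ^ 2 = 1)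
    (hz1 : z ≠ 1) (hzC : z ∈ centralizer ((P : Subgroup G) : Set G)) (Q : Sylow 5 G)
    (hQ : z • Q = Q) : Q = P := by
  classical
  let _ : Fintype (Sylow 5 G) := Fintype.ofFinite _
  set f := MulAction.toPermHom G (Sylow 5 G)
  have hsign := sign_eq_one_of_simple hG f z
  set σ := f z with hσdef
  have hσ2 : σ ^ 2 = 1 := by rw [hσdef, ← map_pow, hz2, map_one]
  have hσ1 : σ ≠ 1 := fun h => hz1 (hfaith z fun R => by
    have := congrArg (fun τ : Equiv.Perm (Sylow 5 G) => τ R) h; exact this)
  rw [Equiv.Perm.sign_of_pow_two_eq_one hσ2] at hsign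
  set S := {R : Sylow 5 G | z • R = R} with hS
  have hcardS : Fintype.card (Function.fixedPoints σ) = Nat.card S := by
    rw [← Nat.card_eq_fintype_card]; rfl
  let act : MulAction (P : Subgroup G) S :=
    { smul := fun x o => ⟨(x : G) • (o : Sylow 5 G), by
        change z • (x : G) • (o : Sylow 5 G) = (x : G) • (o : Sylow 5 G)
        rw [← mul_smul, ← mem_centralizer_iff.1 hzC x x.2, mul_smul, o.2]⟩
      one_smul := fun o => Subtype.ext (one_smul G (o : Sylow 5 G))
      mul_smul := fun x y o => Subtype.ext (mul_smul (x : G) (y : G) (o : Sylow 5 G)) }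
  have hPS : z • P = P := Sylow.smul_eq_iff_mem_normalizer.2 (centralizer_le_normalizer _ hzC)
  have hfix : fixedPoints (P : Subgroup G) S = {⟨P, hPS⟩} := by
    refine Set.eq_singleton_iff_unique_mem.2 ⟨fun x => Subtype.ext
      (Sylow.smul_eq_iff_mem_normalizer.2 (Subgroup.le_normalizer x.2)), fun o ho => Subtype.ext ?_⟩
    exact eq_of_forall_smul_eq fun x hx => congrArg Subtype.val (ho ⟨x, hx⟩)
  have hmod := P.2.card_modEq_card_fixedPoints (α := S)
  rw [hfix] at hmod
  have hc1 : Nat.card ({⟨P, hPS⟩} : Set S) = 1 := Nat.card_unique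
  rw [hc1] at hmod
  have hsupp := Equiv.Perm.two_dvd_card_support hσ2
  have hsum : Nat.card S + σ.support.card = 21 := by
    rw [← h21, Nat.card_eq_fintype_card, Nat.card_eq_fintype_card]
    have : σ.support = (Finset.univ.filter fun R => z • R = R)ᶜ := by
      ext R
      simp [Equiv.Perm.mem_support, hσdef, f]
    rw [this, Finset.card_compl, Fintype.card_subtype]
    have hle := Finset.card_le_univ (Finset.univ.filter fun R : Sylow 5 G => z • R = R)
    have : (Finset.univ.filter fun R : Sylow 5 G => R ∈ S) =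
        Finset.univ.filter fun R : Sylow 5 G => z • R = R := by ext; simp [hS]
    rw [this]; omega
  have hpos : 0 < σ.support.card := Finset.card_pos.2 (Finset.nonempty_iff_ne_empty.2
    fun h => hσ1 (Equiv.Perm.support_eq_empty_iff.1 h))
  rw [hcardS, ← Nat.card_eq_fintype_card, h21] at hsign
  have heven : Even ((21 - Nat.card S) / 2) := by
    by_contra h
    rw [Nat.not_even_iff_odd] at h
    rw [h.neg_one_pow] at hsign
    exact absurd hsign (by decide)
  have hone : Nat.card S = 1 := by
    obtain ⟨k, hk⟩ := heven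
    obtain ⟨m, hm⟩ := hsupp
    have hmod' : Nat.card S % 5 = 1 := hmod
    omega
  obtain ⟨a, ha⟩ := (Nat.card_eq_one_iff_exists.1 hone)
  have e1 := congrArg Subtype.val (ha ⟨Q, hQ⟩)
  have e2 := congrArg Subtype.val (ha ⟨P, hPS⟩)
  exact e1.trans e2.symm

/-- The same for nontrivial `2`-elements. -/
theorem eq_of_two_element_fix (h21 : Nat.card (Sylow 5 G) = 21) (hG : ¬ IsMulCommutative G)
    (hfaith : ∀ g : G, (∀ Q : Sylow 5 G, g • Q = Q) → g = 1) (P : Sylow 5 G) {w : G} {n : ℕ}
    (hw : w ^ (2 ^ n) = 1)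
    (hw1 : w ≠ 1) (hwC : w ∈ centralizer ((P : Subgroup G) : Set G)) (Q : Sylow 5 G)
    (hQ : w • Q = Q) : Q = P := by
  induction n generalizing w with
  | zero => exact absurd (by simpa using hw) hw1
  | succ n ih =>
    by_cases h : w ^ 2 = 1
    · exact eq_of_involution_fix h21 hG hfaith P h hw1 hwC Q hQ
    · refine ih (w := w ^ 2) (by rw [← pow_mul, ← hw, pow_succ']) h (pow_mem hwC 2) ?_
      rw [sq, mul_smul, hQ, hQ]

/-- No simple group has exactly `21` Sylow `5`-subgroups of order `5`. -/
theorem not_simple_of_card_sylow_eq_twentyone (h21 : Nat.card (Sylow 5 G) = 21)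
    (hG : ¬ IsMulCommutative G) (hfaith : ∀ g : G, (∀ Q : Sylow 5 G, g • Q = Q) → g = 1)
    (P : Sylow 5 G) (h5 : Nat.card (P : Subgroup G) = 5) : False := by
  classical
  have : Fact (Nat.Prime 2) := ⟨Nat.prime_two⟩
  let _ : Fintype (Sylow 5 G) := Fintype.ofFinite _
  set N := Subgroup.normalizer ((P : Subgroup G) : Set G) with hN
  set C := centralizer ((P : Subgroup G) : Set G) with hC
  have hNindex : N.index = 21 := by rw [← h21, P.card_eq_index_normalizer]; rfl
  have hnoc : ∀ {q : ℕ} [Fact q.Prime], q ∣ Nat.card G → ¬ Cfsg.HasNormalPComplement q G := by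
    intro q _ hq hcomp
    obtain ⟨S, K, hK, hKS⟩ := hcomp
    rcases IsSimpleGroup.eq_bot_or_eq_top_of_normal K hK with rfl | rfl
    · -- `G` is a `q`-group, so it has a nontrivial abelian quotient
      have hS : (S : Subgroup G) = ⊤ := isComplement'_bot_left.1 hKS
      have := (S.2.to_le hS.ge).isNilpotent
      have hnil : Group.IsNilpotent G := Group.isNilpotent_top.1 this
      have htop := commutator_eq_top_of_simple hG
      have hb : (⊤ : Subgroup G) = ⊥ := eq_bot_of_le_commutator (K := ⊤) le_rfl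
        (le_of_eq (by rw [← commutator_def, htop]))
      have hone : ∀ a : G, a = 1 := fun a => by
        have ha : a ∈ (⊤ : Subgroup G) := mem_top a
        rwa [hb, mem_bot] at ha
      exact hG ⟨⟨fun a b => by rw [hone a, hone b]⟩⟩
    · exact S.ne_bot_of_dvd_card hq (isComplement'_top_left.1 hKS)
  have : IsCyclic (P : Subgroup G) := isCyclic_of_prime_card h5
  have hcycAut : IsCyclic (MulAut (P : Subgroup G)) := by
    have : IsCyclic (ZMod 5)ˣ := inferInstance
    exact isCyclic_of_surjective ((IsCyclic.mulAutMulEquiv (G := (P : Subgroup G))).trans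
      (Units.mapEquiv (ZMod.ringEquivCongr h5).toMulEquiv)).symm.toMonoidHom (MulEquiv.surjective _)
  have hcardAut : Nat.card (MulAut (P : Subgroup G)) = 4 := by
    rw [IsCyclic.card_mulAut, h5]; decide
  set φ := (P : Subgroup G).normalizerMonoidHom
  have hker : ∀ n : N, φ n = 1 ↔ (n : G) ∈ C := fun n => by
    rw [← MonoidHom.mem_ker, normalizerMonoidHom_ker, mem_subgroupOf]
  -- a Sylow 2-subgroup of `G` inside `N`
  obtain ⟨T0⟩ := (inferInstance : Nonempty (Sylow 2 N))
  have hT0 : ¬ 2 ∣ ((T0 : Subgroup N).map N.subtype).index := by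
    rw [index_map_subtype, hNindex, Nat.prime_two.dvd_mul]
    exact not_or.2 ⟨T0.not_dvd_index, by norm_num⟩
  set T : Sylow 2 G := (T0.2.map N.subtype).toSylow hT0
  have hTN : (T : Subgroup G) ≤ N := map_subtype_le _
  set W := (T : Subgroup G) ⊓ C with hW
  have hTW : ∀ w ∈ W, ∃ n, w ^ (2 ^ n) = 1 := fun w hw => by
    obtain ⟨n, hn⟩ := T.2 ⟨w, hw.1⟩
    exact ⟨n, congrArg Subtype.val hn⟩
  -- `T ⊄ C`
  have hTC : ¬ (T : Subgroup G) ≤ C := by
    intro hle
    refine hnoc (q := 5) (h5 ▸ card_subgroup_dvd_card _)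
      (hasNormalPComplement_of_normalizer_le_centralizer P ?_)
    rw [← relIndex_eq_one]
    have h1 : C.relIndex N ∣ 2 ^ 2 := by
      rw [show (2 : ℕ) ^ 2 = 4 from rfl, ← hcardAut]
      change (C.subgroupOf N).index ∣ _
      rw [← normalizerMonoidHom_ker, index_ker]
      exact card_subgroup_dvd_card _
    have h2 : C.relIndex N ∣ (T : Subgroup G).index :=
      (relIndex_dvd_of_le_left _ hle).trans (relIndex_dvd_index_of_le hTN)
    exact Nat.eq_one_of_dvd_coprimes
      (Nat.Coprime.pow_left 2 ((Nat.prime_two.coprime_iff_not_dvd).2 T.not_dvd_index)) h1 h2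
  let χ : (T : Subgroup G) →* MulAut (P : Subgroup G) := φ.comp (inclusion hTN)
  have hχker : ∀ t : (T : Subgroup G), χ t = 1 ↔ (t : G) ∈ C := fun t => hker _
  have hcycRange : ∀ (K : Subgroup (MulAut (P : Subgroup G))), IsCyclic K := fun K => inferInstance
  have hWne : W ≠ ⊥ := by
    intro hbot
    have hinj : Function.Injective χ := (injective_iff_map_eq_one χ).2 fun t ht =>
      Subtype.ext (mem_bot.1 (hbot ▸ (show (t : G) ∈ W from ⟨t.2, (hχker t).1 ht⟩)))
    have hTcyc : IsCyclic (T : Subgroup G) := isCyclic_of_injective χ hinj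
    have hTne : (T : Subgroup G) ≠ ⊥ := fun h => hTC (h ▸ bot_le)
    have h2G : 2 ∣ Nat.card G := by
      obtain ⟨n, hn⟩ := T.2.exists_card_eq
      rcases n with _ | n
      · exact absurd (Subgroup.card_eq_one.1 (by simpa using hn)) hTne
      · exact (dvd_pow_self 2 n.succ_ne_zero).trans (hn ▸ card_subgroup_dvd_card _)
    exact hnoc h2G ⟨T, _, inferInstance,
      hTcyc.isComplement' ((Nat.minFac_eq_two_iff _).2 h2G)⟩
  -- freeness of `W × P` off `P`
  have hfree : ∀ w ∈ W, ∀ h ∈ (P : Subgroup G), ∀ Q : Sylow 5 G, Q ≠ P →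
      (w * h) • Q = Q → w = 1 ∧ h = 1 := by
    intro w hw h hh Q hQP hfixQ
    have hcomm : Commute w h := (mem_centralizer_iff.1 hw.2 h hh).symm
    have h5h : h ^ 5 = 1 := by
      have := (P : Subgroup G).orderOf_dvd_natCard hh
      rw [h5] at this
      exact orderOf_dvd_iff_pow_eq_one.1 this
    have hw5 : w ^ 5 = (w * h) ^ 5 := by rw [hcomm.mul_pow, h5h, mul_one]
    have hw1 : w = 1 := by
      by_contra hne
      obtain ⟨n, hn⟩ := hTW w hw
      have hne5 : w ^ 5 ≠ 1 := fun h' => hne (orderOf_eq_one_iff.1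
        (Nat.eq_one_of_dvd_coprimes (k := orderOf w) (Nat.Coprime.pow_right n (by norm_num))
          (orderOf_dvd_of_pow_eq_one h') (orderOf_dvd_of_pow_eq_one hn)))
      refine hQP (eq_of_two_element_fix h21 hG hfaith P (n := n)
        (by rw [← pow_mul, mul_comm, pow_mul, hn, one_pow]) hne5 (pow_mem hw.2 5) Q ?_)
      rw [hw5]
      exact (mem_stabilizer_iff.1 (pow_mem (mem_stabilizer_iff.2 hfixQ) 5) :)
    subst hw1
    rw [one_mul] at hfixQ
    refine ⟨rfl, by_contra fun hne => hQP (eq_of_forall_smul_eq fun x hx => ?_)⟩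
    have hz : (⟨x, hx⟩ : (P : Subgroup G)) ∈ zpowers ⟨h, hh⟩ :=
      mem_zpowers_of_prime_card h5 (fun h' => hne (congrArg Subtype.val h'))
    obtain ⟨k, hk⟩ := mem_zpowers_iff.1 hz
    have hk' : h ^ k = x := congrArg Subtype.val hk
    rw [← hk']
    exact (mem_stabilizer_iff.1 (zpow_mem (mem_stabilizer_iff.2 hfixQ) k) :)
  -- `W` is central in `T`
  have hcent : ∀ t ∈ (T : Subgroup G), ∀ w ∈ W, t * w = w * t := by
    by_contra hcon
    push Not at hcon
    obtain ⟨t, ht, w0, hw0, hne⟩ := hcon
    have hWn : ∀ s ∈ N, s ∈ (T : Subgroup G) → ∀ w ∈ W, s * w * s⁻¹ ∈ W := by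
      intro s hsN hsT w hw
      refine mem_inf.2 ⟨mul_mem (mul_mem hsT (mem_inf.1 hw).1) (inv_mem hsT),
        mem_centralizer_iff.2 fun x hx => ?_⟩
      have hx' := (mem_normalizer_iff.1 hsN (s⁻¹ * x * s)).2
        (by rw [show s * (s⁻¹ * x * s) * s⁻¹ = x by group]; exact hx)
      have := congrArg (fun v => s * v * s⁻¹) (mem_centralizer_iff.1 hw.2 _ hx')
      simpa [mul_assoc] using this
    obtain ⟨q, hq⟩ : ∃ q : Sylow 5 G, q ≠ P := by
      have : 1 < Nat.card (Sylow 5 G) := by omega
      rw [Finite.one_lt_card_iff_nontrivial] at this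
      exact exists_ne P
    have hinj : ∀ w ∈ W, ∀ h ∈ (P : Subgroup G), ∀ w' ∈ W, ∀ h' ∈ (P : Subgroup G),
        (w * h) • q = (w' * h') • q → w = w' ∧ h = h' := by
      intro w hw h hh w' hw' h' hh' heq
      have hcomm : ∀ a ∈ W, ∀ b ∈ (P : Subgroup G), a * b = b * a := fun a ha b hb =>
        (mem_centralizer_iff.1 ha.2 b hb).symm
      have key : (w'⁻¹ * w) * (h'⁻¹ * h) = (w' * h')⁻¹ * (w * h) := by
        rw [mul_inv_rev, show w'⁻¹ * w * (h'⁻¹ * h) = h'⁻¹ * h * (w'⁻¹ * w) from
          hcomm _ (mul_mem (inv_mem hw') hw) _ (mul_mem (inv_mem hh') hh),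
          hcomm w hw h hh]
        have := hcomm _ (inv_mem hw') h hh
        calc h'⁻¹ * h * (w'⁻¹ * w) = h'⁻¹ * (h * w'⁻¹) * w := by group
          _ = h'⁻¹ * (w'⁻¹ * h) * w := by rw [this]
          _ = _ := by group
      have hf' : ((w'⁻¹ * w) * (h'⁻¹ * h)) • q = q := by
        rw [key, mul_smul, heq, inv_smul_smul]
      obtain ⟨e1, e2⟩ := hfree _ (mul_mem (inv_mem hw') hw) _ (mul_mem (inv_mem hh') hh) q hq hf'
      exact ⟨(inv_mul_eq_one.1 e1).symm, (inv_mul_eq_one.1 e2).symm⟩
    let Φ : W × (P : Subgroup G) → {Q : Sylow 5 G // Q ≠ P} := fun wh =>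
      ⟨((wh.1 : G) * (wh.2 : G)) • q, fun h => hq (by
        rw [eq_inv_smul_iff.2 h]
        exact Sylow.smul_eq_iff_mem_normalizer.2 (inv_mem (mul_mem (hTN wh.1.2.1)
          (Subgroup.le_normalizer wh.2.2))))⟩
    have hΦ : Function.Injective Φ := fun a b hab => by
      obtain ⟨e1, e2⟩ := hinj _ a.1.2 _ a.2.2 _ b.1.2 _ b.2.2 (congrArg Subtype.val hab)
      exact Prod.ext (Subtype.ext e1) (Subtype.ext e2)
    have hcard20 : Nat.card {Q : Sylow 5 G // Q ≠ P} = 20 := by
      rw [Nat.card_eq_fintype_card, Fintype.card_subtype_compl, Fintype.card_subtype_eq,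
        ← Nat.card_eq_fintype_card, h21]
    have hWle : Nat.card W * 5 ≤ 20 := by
      have := Nat.card_le_card_of_injective Φ hΦ
      rwa [Nat.card_prod, h5, hcard20] at this
    have hWT : IsPGroup 2 W := T.2.to_le inf_le_left
    have hW4 : Nat.card W = 4 := by
      obtain ⟨k, hk⟩ := hWT.exists_card_eq
      have hk2 : k ≤ 2 := by
        by_contra hk3
        have : 2 ^ 3 ≤ 2 ^ k := Nat.pow_le_pow_right (by norm_num) (by omega)
        omega
      interval_cases k
      · exact absurd (Subgroup.card_eq_one.1 (by simpa using hk)) hWne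
      · exfalso
        apply hne
        have h2 : Nat.card W = 2 := hk
        rw [Nat.card_eq_two_iff' (1 : W)] at h2
        obtain ⟨a, -, ha⟩ := h2
        rcases eq_or_ne w0 1 with rfl | hw01
        · simp
        have e1 := ha ⟨t * w0 * t⁻¹, hWn t (hTN ht) ht w0 hw0⟩ (fun h => hw01 (by
          have h' : t * w0 * t⁻¹ = 1 := congrArg Subtype.val h
          simpa [mul_assoc] using congrArg (fun v => t⁻¹ * v * t) h'))
        have e2 := ha ⟨w0, hw0⟩ (fun h => hw01 (congrArg Subtype.val h))
        exact mul_inv_eq_iff_eq_mul.1 (congrArg Subtype.val (e1.trans e2.symm) :)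
      · simpa using hk
    let _ : Fintype W := Fintype.ofFinite _
    let _ : Fintype (P : Subgroup G) := Fintype.ofFinite _
    have hΦb : Function.Bijective Φ := by
      rw [Fintype.bijective_iff_injective_and_card]
      refine ⟨hΦ, ?_⟩
      rw [← Nat.card_eq_fintype_card, ← Nat.card_eq_fintype_card, Nat.card_prod, h5, hW4, hcard20]
    -- support of an element fixing `q` and normalizing `W` and `P`
    set f := MulAction.toPermHom G (Sylow 5 G) with hf
    have hsupp : ∀ y : G, y • P = P → y • q = q →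
        ∀ hyW : ∀ w ∈ W, y * w * y⁻¹ ∈ W, ∀ hyP : ∀ h ∈ (P : Subgroup G), y * h * y⁻¹ ∈ P,
        (f y).support.card + Nat.card {v : W × (P : Subgroup G) //
          y * v.1 * y⁻¹ = v.1 ∧ y * v.2 * y⁻¹ = v.2} = 20 := by
      intro y hyP' hyq hyW hyP
      let e := Equiv.ofBijective Φ hΦb
      have hmov : ∀ v, y • (Φ v).1 = (Φ v).1 ↔
          (y * v.1 * y⁻¹ = (v.1 : G) ∧ y * v.2 * y⁻¹ = (v.2 : G)) := by
        intro v
        have hy1 : y • (Φ v).1 = (y * v.1 * y⁻¹ * (y * v.2 * y⁻¹)) • q := by
          change y • (((v.1 : G) * (v.2 : G)) • q) = _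
          rw [show y * v.1 * y⁻¹ * (y * v.2 * y⁻¹) = y * ((v.1 : G) * v.2) * y⁻¹ by group,
            mul_smul (y * ((v.1 : G) * v.2)) y⁻¹ q,
            show y⁻¹ • q = q from inv_smul_eq_iff.2 hyq.symm, mul_smul y ((v.1 : G) * v.2) q]
        rw [hy1]
        constructor
        · exact hinj _ (hyW _ v.1.2) _ (hyP _ v.2.2) _ v.1.2 _ v.2.2
        · rintro ⟨a, b⟩; rw [a, b]
      have hset : (f y).support = (Finset.univ.filter fun v : W × (P : Subgroup G) =>
          ¬(y * v.1 * y⁻¹ = (v.1 : G) ∧ y * v.2 * y⁻¹ = (v.2 : G))).image fun v => (Φ v).1 := by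
        ext R
        simp only [Equiv.Perm.mem_support, Finset.mem_image, Finset.mem_filter, Finset.mem_univ,
          true_and, hf, toPermHom_apply, toPerm_apply]
        constructor
        · intro hR
          obtain ⟨v, hv⟩ := hΦb.2 ⟨R, fun h => hR (h ▸ hyP')⟩
          refine ⟨v, fun h => hR ?_, congrArg Subtype.val hv⟩
          have := (hmov v).2 h
          rwa [congrArg Subtype.val hv] at this
        · rintro ⟨v, hv, rfl⟩ h
          exact hv ((hmov v).1 h)
      rw [hset, Finset.card_image_of_injective _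
        (fun a b h => hΦ (Subtype.ext h)), Nat.card_eq_fintype_card, Fintype.card_subtype]
      have h20 : Fintype.card (W × (P : Subgroup G)) = 20 := by
        rw [← Nat.card_eq_fintype_card, Nat.card_prod, hW4, h5]
      rw [← h20, ← Finset.card_univ, add_comm]
      exact Finset.card_filter_add_card_filter_not _
    have hodd : ∀ y : G, y ^ 4 = 1 → ((f y).support.card - (f (y ^ 2)).support.card) / 2 +
        (f (y ^ 2)).support.card / 4 = 5 ∨ ((f y).support.card - (f (y ^ 2)).support.card) / 2 +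
        (f (y ^ 2)).support.card / 4 = 9 → False := by
      intro y hy4 h
      have hs := sign_eq_one_of_simple hG f y
      rw [sign_of_pow_four_eq_one (f y) (by rw [← map_pow, hy4, map_one]), ← map_pow f] at hs
      rcases h with h | h <;> rw [h] at hs <;> exact absurd hs (by decide)
    -- `W` has exponent two
    have hW2 : ∀ w ∈ W, w * w = 1 := by
      intro w hw
      by_contra hsq
      have hw4 : w ^ 4 = 1 := by
        have := W.orderOf_dvd_natCard hw
        rw [hW4] at this
        exact orderOf_dvd_iff_pow_eq_one.1 this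
      have hfixw : ∀ u ∈ W, u ≠ 1 → (f u).support.card = 20 := by
        intro u hu hu1
        have : (f u).support = Finset.univ.erase P := by
          ext R
          simp only [Equiv.Perm.mem_support, hf, toPermHom_apply, toPerm_apply,
            Finset.mem_erase, Finset.mem_univ, and_true]
          constructor
          · rintro h rfl; exact h (Sylow.smul_eq_iff_mem_normalizer.2 (hTN hu.1))
          · intro h hR
            exact hu1 (hfree u hu 1 (one_mem _) R h (by rw [mul_one]; exact hR)).1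
        rw [this, Finset.card_erase_of_mem (Finset.mem_univ _), Finset.card_univ,
          ← Nat.card_eq_fintype_card, h21]
      refine hodd w hw4 (Or.inl ?_)
      rw [hfixw w hw (fun h => hsq (by rw [h, one_mul])),
        hfixw (w ^ 2) (pow_mem hw 2) (by rwa [sq])]
    have hWcomm : ∀ a ∈ W, ∀ b ∈ W, a * b = b * a := fun a ha b hb => by
      have e1 := eq_inv_of_mul_eq_one_left (hW2 a ha)
      have e2 := eq_inv_of_mul_eq_one_left (hW2 b hb)
      have e3 := eq_inv_of_mul_eq_one_left (hW2 (a * b) (mul_mem ha hb))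
      rw [e3, mul_inv_rev, ← e1, ← e2]
    -- an element fixing `q` acting on `W` as `t`
    obtain ⟨⟨⟨w1, hw1⟩, ⟨h1, hh1⟩⟩, hv⟩ := hΦb.2 ⟨t • q, fun h => hq (by
      rw [eq_inv_smul_iff.2 h]
      exact Sylow.smul_eq_iff_mem_normalizer.2 (inv_mem (hTN ht)))⟩
    have hv' : (w1 * h1) • q = t • q := congrArg Subtype.val hv
    set y := (w1 * h1)⁻¹ * t with hy
    have hyq : y • q = q := by rw [hy, mul_smul, ← hv', inv_smul_smul]
    have hyN : y ∈ N := mul_mem (inv_mem (mul_mem (hTN hw1.1) (Subgroup.le_normalizer hh1))) (hTN ht)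
    have hyP' : y • P = P := Sylow.smul_eq_iff_mem_normalizer.2 hyN
    have hyPm : ∀ s ∈ N, ∀ h ∈ (P : Subgroup G), s * h * s⁻¹ ∈ P := fun s hs h hh =>
      (mem_normalizer_iff.1 hs h).1 hh
    have hyconj : ∀ w ∈ W, y * w * y⁻¹ = t * w * t⁻¹ := by
      intro w hw
      have hu := hWn t (hTN ht) ht w hw
      have c1 : (t * w * t⁻¹) * h1 = h1 * (t * w * t⁻¹) :=
        (mem_centralizer_iff.1 hu.2 h1 hh1).symm
      have c2 : (t * w * t⁻¹) * w1 = w1 * (t * w * t⁻¹) := hWcomm _ hu _ hw1
      calc y * w * y⁻¹ = (w1 * h1)⁻¹ * ((t * w * t⁻¹) * (w1 * h1)) := by rw [hy]; group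
        _ = (w1 * h1)⁻¹ * ((w1 * h1) * (t * w * t⁻¹)) := by
          rw [← mul_assoc (t * w * t⁻¹), c2, mul_assoc, c1, ← mul_assoc w1]
        _ = _ := by rw [inv_mul_cancel_left]
    have hyW : ∀ w ∈ W, y * w * y⁻¹ ∈ W := fun w hw => hyconj w hw ▸ hWn t (hTN ht) ht w hw
    have hyC : y ∉ C := by
      intro hyC
      apply hne
      have htC : t ∈ C := by
        have : t = (w1 * h1) * y := by rw [hy, mul_inv_cancel_left]
        rw [this]
        exact mul_mem (mul_mem hw1.2 (Subgroup.le_centralizer _ hh1)) hyC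
      exact hWcomm t ⟨ht, htC⟩ w0 hw0
    -- fixed points of `y` on `W`
    let σ : W → W := fun w => ⟨y * w * y⁻¹, hyW w w.2⟩
    have hσinj : Function.Injective σ := fun a b h => Subtype.ext (by
      have := congrArg Subtype.val h
      simpa [σ] using congrArg (fun v => y⁻¹ * v * y) this)
    let F : Subgroup W :=
      { carrier := {w | σ w = w}
        one_mem' := Subtype.ext (by simp [σ])
        mul_mem' := fun {a b} ha hb => Subtype.ext (by
          have e1 : y * a * y⁻¹ = (a : G) := congrArg Subtype.val ha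
          have e2 : y * b * y⁻¹ = (b : G) := congrArg Subtype.val hb
          change y * ((a : G) * b) * y⁻¹ = (a : G) * b
          calc _ = (y * a * y⁻¹) * (y * b * y⁻¹) := by group
            _ = _ := by rw [e1, e2])
        inv_mem' := fun {a} ha => Subtype.ext (by
          have e1 : y * a * y⁻¹ = (a : G) := congrArg Subtype.val ha
          change y * (a : G)⁻¹ * y⁻¹ = (a : G)⁻¹
          calc _ = (y * a * y⁻¹)⁻¹ := by group
            _ = _ := by rw [e1]) }
    have hFne : F ≠ ⊤ := fun h => hne (by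
      have e1 : y * w0 * y⁻¹ = w0 := congrArg Subtype.val (show (⟨w0, hw0⟩ : W) ∈ F from h ▸ mem_top _)
      rw [hyconj w0 hw0] at e1
      exact mul_inv_eq_iff_eq_mul.1 e1)
    have hF2 : Nat.card F = 2 := by
      let S := Subgroup.zpowers (⟨t, ht⟩ : (T : Subgroup G))
      let act : MulAction S W :=
        { smul := fun s w => ⟨((s : (T : Subgroup G)) : G) * w * ((s : (T : Subgroup G)) : G)⁻¹,
            hWn _ (hTN (s : (T : Subgroup G)).2) (s : (T : Subgroup G)).2 w w.2⟩
          one_smul := fun w => Subtype.ext (by change (1 : G) * w * (1 : G)⁻¹ = w; simp)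
          mul_smul := fun a b w => Subtype.ext (by
            change (((a * b : S) : (T : Subgroup G)) : G) * w *
              (((a * b : S) : (T : Subgroup G)) : G)⁻¹ = _ * (_ * (w : G) * _) * _
            simp [mul_assoc]) }
      have hmod := (T.2.to_subgroup S).card_modEq_card_fixedPoints (α := W)
      have hfp : fixedPoints S W = (F : Set W) := by
        ext w
        constructor
        · intro hw
          have e1 : t * w * t⁻¹ = (w : G) :=
            congrArg Subtype.val (hw ⟨⟨t, ht⟩, mem_zpowers _⟩)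
          exact Subtype.ext ((hyconj w w.2).trans e1)
        · intro hw
          have e1 : t * w * t⁻¹ = (w : G) := (hyconj w w.2).symm.trans (congrArg Subtype.val hw)
          rintro ⟨⟨s, hs⟩, hsS⟩
          obtain ⟨k, hk⟩ := mem_zpowers_iff.1 hsS
          have hk' : t ^ k = s := congrArg Subtype.val hk
          refine Subtype.ext ?_
          change s * w * s⁻¹ = w
          rw [← hk', (Commute.zpow_left (mul_inv_eq_iff_eq_mul.1 e1) k).eq, mul_inv_cancel_right]
      rw [hfp, hW4] at hmod
      have hmod' : 4 % 2 = Nat.card F % 2 := hmod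
      have hd : Nat.card F ∣ 4 := hW4 ▸ card_subgroup_dvd_card F
      have hne4 : Nat.card F ≠ 4 := fun h => hFne (eq_top_of_card_eq F (h.trans hW4.symm))
      have hle := Nat.le_of_dvd (by norm_num) hd
      interval_cases (Nat.card F) <;> omega
    -- `y ^ 2` centralizes `W`
    have hy2W : ∀ w : W, σ (σ w) = w := by
      intro w
      by_cases hw : w ∈ F
      · have hw' : σ w = w := hw
        rw [hw', hw']
      have h1' : σ w ∉ F := fun h => hw (hσinj h :)
      have h2' : σ (σ w) ∉ F := fun h => h1' (hσinj h :)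
      have hcompl : ((F : Set W)ᶜ).ncard = 2 := by
        have := Set.ncard_add_ncard_compl (F : Set W)
        rw [← Nat.card_coe_set_eq, SetLike.coe_sort_coe, hF2, hW4] at this
        omega
      obtain ⟨a, b, hab, hset⟩ := Set.ncard_eq_two.1 hcompl
      have m0 : w ∈ ({a, b} : Set W) := hset ▸ hw
      have m1 : σ w ∈ ({a, b} : Set W) := hset ▸ h1'
      have m2 : σ (σ w) ∈ ({a, b} : Set W) := hset ▸ h2'
      have n01 : σ w ≠ w := fun h => hw h
      have n12 : σ (σ w) ≠ σ w := fun h => n01 (hσinj h)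
      rcases m0 with m0 | m0 <;> rcases m1 with m1 | m1 <;> rcases m2 with m2 | m2 <;>
        first
        | exact m2.trans m0.symm
        | exact absurd (m1.trans m0.symm) n01
        | exact absurd (m2.trans m1.symm) n12
    have hy2 : ∀ w ∈ W, y ^ 2 * w * (y ^ 2)⁻¹ = w := fun w hw => by
      have e := congrArg Subtype.val (hy2W ⟨w, hw⟩)
      simpa [σ, sq, mul_assoc] using e
    -- conjugation on `P`
    have hPfix : ∀ s : N, (s : G) ∉ C → ∀ h ∈ (P : Subgroup G),
        (s : G) * h * (s : G)⁻¹ = h → h = 1 := by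
      intro s hs h hh e
      by_contra hne'
      refine hs (mem_centralizer_iff.2 fun x hx => ?_)
      obtain ⟨k, hk⟩ := mem_zpowers_iff.1 (mem_zpowers_of_prime_card (g := (⟨h, hh⟩ : (P : Subgroup G)))
        (g' := ⟨x, hx⟩) h5 (fun h' => hne' (congrArg Subtype.val h')))
      have hk' : h ^ k = x := congrArg Subtype.val hk
      rw [← hk']
      exact ((Commute.zpow_right (mul_inv_eq_iff_eq_mul.1 e) k).eq).symm
    have hy4C : y ^ 4 ∈ C := by
      have h4 : φ (⟨y, hyN⟩ ^ 4) = 1 := by rw [map_pow, ← hcardAut]; exact pow_card_eq_one'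
      exact (hker _).1 h4
    have hfull : ∀ k : G, k ∈ N → k • q = q → k ∈ C → (∀ w ∈ W, k * w * k⁻¹ = w) →
        (f k).support.card = 0 := by
      intro k hkN hkq hkC hkW
      have e := hsupp k (Sylow.smul_eq_iff_mem_normalizer.2 hkN) hkq
        (fun w hw => (hkW w hw).symm ▸ hw) (hyPm k hkN)
      have hall : Nat.card {v : W × (P : Subgroup G) //
          k * v.1 * k⁻¹ = v.1 ∧ k * v.2 * k⁻¹ = v.2} = 20 := by
        rw [Nat.card_congr (Equiv.subtypeUnivEquiv fun v => ⟨hkW _ v.1.2, by
          rw [← mem_centralizer_iff.1 hkC _ v.2.2, mul_inv_cancel_right]⟩), Nat.card_prod, hW4, h5]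
      omega
    have hy4 : y ^ 4 = 1 := by
      have hq4 : y ^ 4 • q = q := (mem_stabilizer_iff.1 (pow_mem (mem_stabilizer_iff.2 hyq) 4) :)
      have h0 := hfull (y ^ 4) (pow_mem hyN 4) hq4 hy4C (fun w hw => by
        have e1 := hy2 w hw
        calc y ^ 4 * w * (y ^ 4)⁻¹ = y ^ 2 * (y ^ 2 * w * (y ^ 2)⁻¹) * (y ^ 2)⁻¹ := by group
          _ = w := by rw [e1, e1])
      rw [Finset.card_eq_zero, Equiv.Perm.support_eq_empty_iff] at h0
      exact hfaith _ fun R => congrArg (fun π : Equiv.Perm (Sylow 5 G) => π R) h0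
    have hs1 : (f y).support.card = 18 := by
      have e := hsupp y hyP' hyq hyW (hyPm y hyN)
      have hcount : Nat.card {v : W × (P : Subgroup G) //
          y * v.1 * y⁻¹ = v.1 ∧ y * v.2 * y⁻¹ = v.2} = 2 := by
        rw [← hF2]
        refine Nat.card_congr
          { toFun := fun v => ⟨v.1.1, Subtype.ext v.2.1⟩
            invFun := fun w => ⟨(w.1, 1), congrArg Subtype.val w.2, by simp⟩
            left_inv := fun v => Subtype.ext (Prod.ext rfl (Subtype.ext
              (hPfix ⟨y, hyN⟩ hyC _ v.1.2.2 v.2.2).symm))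
            right_inv := fun w => rfl }
      omega
    have hyq2 : y ^ 2 • q = q := by rw [sq, mul_smul, hyq, hyq]
    refine hodd y hy4 ?_
    by_cases hy2C : y ^ 2 ∈ C
    · exact Or.inr (by rw [hs1, hfull (y ^ 2) (pow_mem hyN 2) hyq2 hy2C hy2])
    · have hs2 : (f (y ^ 2)).support.card = 16 := by
        have e := hsupp (y ^ 2) (Sylow.smul_eq_iff_mem_normalizer.2 (pow_mem hyN 2)) hyq2
          (fun w hw => (hy2 w hw).symm ▸ hw) (hyPm _ (pow_mem hyN 2))
        have hcount : Nat.card {v : W × (P : Subgroup G) //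
            y ^ 2 * v.1 * (y ^ 2)⁻¹ = v.1 ∧ y ^ 2 * v.2 * (y ^ 2)⁻¹ = v.2} = 4 := by
          rw [← hW4]
          refine Nat.card_congr
            { toFun := fun v => v.1.1
              invFun := fun w => ⟨(w, 1), hy2 w w.2, by simp⟩
              left_inv := fun v => Subtype.ext (Prod.ext rfl (Subtype.ext
                (hPfix ⟨y ^ 2, pow_mem hyN 2⟩ hy2C _ v.1.2.2 v.2.2).symm))
              right_inv := fun w => rfl }
        omega
      exact Or.inl (by rw [hs1, hs2])
  -- `T` is abelian
  have : IsCyclic χ.range := hcycRange _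
  have hTcomm : ∀ a b : (T : Subgroup G), a * b = b * a :=
    commutative_of_cyclic_center_quotient χ.rangeRestrict (by
      rw [MonoidHom.ker_rangeRestrict]
      intro w hw
      rw [mem_center_iff]
      intro s
      exact Subtype.ext (hcent s s.2 w ⟨w.2, (hχker w).1 hw⟩))
  have : IsMulCommutative (T : Subgroup G) := ⟨⟨hTcomm⟩⟩
  have hNT : Subgroup.normalizer ((T : Subgroup G) : Set G) ≤ N := by
    intro g hg
    obtain ⟨w, hw, hw1⟩ := (bot_or_exists_ne_one W).resolve_left hWne
    obtain ⟨n, hn⟩ := hTW w hw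
    have hmem := (mem_normalizer_iff.1 hg w).1 hw.1
    have e1 : (g * w * g⁻¹) • P = P := Sylow.smul_eq_iff_mem_normalizer.2 (hTN hmem)
    have e2 : w • (g⁻¹ • P) = g⁻¹ • P := by
      have := congrArg (g⁻¹ • ·) e1
      simp only [mul_smul, inv_smul_smul] at this
      exact this
    have e3 := eq_of_two_element_fix h21 hG hfaith P hn hw1 hw.2 _ e2
    exact inv_mem_iff.1 (Sylow.smul_eq_iff_mem_normalizer.1 e3)
  apply hTC
  have hT := commutator_inf_abelian_sylow T
  rw [commutator_eq_top_of_simple hG, top_inf_eq] at hT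
  rw [hT, commutator_le]
  intro a ha b hb
  have h1 : φ ⁅(⟨a, hTN ha⟩ : N), ⟨b, hNT hb⟩⁆ = 1 := by
    let _ : CommGroup (MulAut (P : Subgroup G)) := IsCyclic.commGroup
    rw [map_commutatorElement]
    exact commutatorElement_eq_one_iff_mul_comm.2 (mul_comm _ _)
  exact (hker _).1 h1

end Simple

end CfsgLib.Transfer

namespace CfsgLib.Transfer

open Subgroup MulAction
open scoped Pointwise commutatorElement

universe u

/-- **No finite group has exactly `21` Sylow `5`-subgroups.** -/
theorem card_sylow_five_ne_twentyone (G : Type u) [Group G] [Finite G] :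
    Nat.card (Sylow 5 G) ≠ 21 := by
  have : Fact (Nat.Prime 5) := ⟨by norm_num⟩
  have : Fact (Nat.Prime 3) := ⟨Nat.prime_three⟩
  induction hn : Nat.card G using Nat.strong_induction_on generalizing G with
  | _ n ih => ?_
  subst hn
  intro h21
  obtain ⟨P⟩ := (inferInstance : Nonempty (Sylow 5 G))
  -- no proper subgroup contains all Sylow subgroups
  have hall : ∀ H : Subgroup G, (∀ Q : Sylow 5 G, (Q : Subgroup G) ≤ H) → H = ⊤ := by
    intro H hH
    by_contra hne
    have hlt : Nat.card H < Nat.card G := lt_of_le_of_ne (card_le_card_group H)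
      fun h => hne (eq_top_of_card_eq H h)
    refine ih _ hlt H rfl ?_
    rw [← h21]
    refine (Nat.card_congr (Equiv.ofBijective (fun Q : Sylow 5 G => Q.subtype (hH Q)) ⟨?_, ?_⟩)).symm
    · intro Q R h; exact Sylow.subtype_injective h
    · intro S
      obtain ⟨Q, hQ⟩ := (S.2.map H.subtype).exists_le_sylow
      refine ⟨Q, Sylow.ext (S.3 (Q.subtype (hH Q)).2 fun x hx => ?_)⟩
      exact hQ ⟨x, hx, rfl⟩
  -- the action is faithful
  set K := (MulAction.toPermHom G (Sylow 5 G)).ker with hK
  have hKmem : ∀ g : G, g ∈ K ↔ ∀ Q : Sylow 5 G, g • Q = Q := fun g => by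
    rw [hK, MonoidHom.mem_ker]
    exact ⟨fun h Q => congrArg (fun π : Equiv.Perm (Sylow 5 G) => π Q) h, fun h => Equiv.ext h⟩
  have hKbot : K = ⊥ := by
    by_contra hne
    have hlt : Nat.card (G ⧸ K) < Nat.card G := by
      rw [card_eq_card_quotient_mul_card_subgroup K]
      exact lt_mul_of_one_lt_right Nat.card_pos ((one_lt_card_iff_ne_bot K).2 hne)
    refine ih _ hlt (G ⧸ K) rfl ?_
    rw [← h21]
    refine (Nat.card_congr (Equiv.ofBijective
      (fun Q : Sylow 5 G => Q.mapSurjective (QuotientGroup.mk'_surjective K)) ⟨?_, ?_⟩)).symm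
    · intro Q R h
      have h' : (Q : Subgroup G).map (QuotientGroup.mk' K) = (R : Subgroup G).map (QuotientGroup.mk' K) :=
        congrArg Sylow.toSubgroup h
      refine (eq_of_forall_smul_eq fun x hx => ?_).symm
      have hx' : QuotientGroup.mk' K x ∈ (R : Subgroup G).map (QuotientGroup.mk' K) :=
        h' ▸ mem_map_of_mem _ hx
      obtain ⟨y, hy, hyx⟩ := hx'
      obtain ⟨k, hk, rfl⟩ := (QuotientGroup.mk'_eq_mk' _).1 hyx
      rw [mul_smul, (hKmem k).1 hk R]
      exact Sylow.smul_eq_iff_mem_normalizer.2 (Subgroup.le_normalizer hy)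
    · exact Sylow.mapSurjective_surjective _ 5
  have hfaith : ∀ g : G, (∀ Q : Sylow 5 G, g • Q = Q) → g = 1 := fun g hg =>
    mem_bot.1 (hKbot ▸ (hKmem g).2 hg)
  have hne : ∀ Q : Sylow 5 G, (Q : Subgroup G) ≠ ⊥ := by
    intro Q hbot
    have : Subsingleton (Sylow 5 G) := ⟨fun A B => by
      have hA : Nat.card (A : Subgroup G) = 1 := by
        rw [Nat.card_congr (A.equiv Q).toEquiv, hbot, card_bot]
      have hB : Nat.card (B : Subgroup G) = 1 := by
        rw [Nat.card_congr (B.equiv Q).toEquiv, hbot, card_bot]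
      exact Sylow.ext ((Subgroup.card_eq_one.1 hA).trans (Subgroup.card_eq_one.1 hB).symm)⟩
    rw [Nat.card_unique] at h21
    omega
  -- the orbits of a Sylow subgroup
  have horb : ∀ P Q : Sylow 5 G, ∀ n : ℕ, (stabilizer (P : Subgroup G) Q).index = 5 ^ n → n ≤ 1 := by
    intro P Q n hn
    rw [index_stabilizer] at hn
    have h25 : 5 ^ n ≤ 21 := by
      rw [← hn, ← h21, ← Set.ncard_univ]
      exact Set.ncard_le_ncard (Set.subset_univ _)
    by_contra hlt
    have : 5 ^ 2 ≤ 5 ^ n := Nat.pow_le_pow_right (by norm_num) (by omega)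
    omega
  have hab : ∀ P : Sylow 5 G, IsMulCommutative (P : Subgroup G) := by
    refine fun P => ⟨⟨fun a b => ?_⟩⟩
    rw [← commutatorElement_eq_one_iff_mul_comm]
    refine Subtype.ext (hfaith _ fun Q => ?_)
    set S := stabilizer (P : Subgroup G) Q
    obtain ⟨n, hn⟩ := P.2.index S
    have hn1 := horb P Q n hn
    change ⁅a, b⁆ ∈ S
    rcases Nat.le_one_iff_eq_zero_or_eq_one.1 hn1 with rfl | rfl
    · rw [pow_zero, index_eq_one] at hn
      rw [hn]; exact mem_top _
    · rw [pow_one] at hn
      have : S.Normal := normal_of_index_eq_minFac_card (by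
        obtain ⟨m, hm⟩ := P.2.exists_card_eq
        rw [hn, hm, Nat.pow_minFac, (Fact.out : Nat.Prime 5).minFac_eq]
        rintro rfl
        have := hn ▸ index_dvd_card S
        rw [hm] at this
        norm_num at this)
      have hc : IsCyclic ((P : Subgroup G) ⧸ S) :=
        isCyclic_of_prime_card (p := 5) (by rw [← index_eq_card]; exact hn)
      let _ : CommGroup ((P : Subgroup G) ⧸ S) := IsCyclic.commGroup
      rw [← QuotientGroup.eq_one_iff, ← QuotientGroup.mk'_apply, map_commutatorElement]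
      exact commutatorElement_eq_one_iff_mul_comm.2 (mul_comm _ _)
  obtain ⟨P, Q, hPQ⟩ := exists_inf_eq_iInf_of_abelian hab
  have hinf : (P : Subgroup G) ⊓ (Q : Subgroup G) = ⊥ := by
    rw [hPQ, eq_bot_iff]
    intro x hx
    exact mem_bot.2 (hfaith x fun R =>
      Sylow.smul_eq_iff_mem_normalizer.2 (Subgroup.le_normalizer ((mem_iInf.1 hx) R)))
  have h5 : Nat.card (P : Subgroup G) = 5 := by
    have hPQne : P ≠ Q := fun h => hne P (by rw [← hinf, h, inf_idem])
    have hstab : stabilizer (P : Subgroup G) Q = ⊥ := by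
      rw [eq_bot_iff]
      intro x hx
      have h1 : (x : G) ∈ (P : Subgroup G) ⊓ Subgroup.normalizer (Q : Set G) :=
        ⟨x.2, Sylow.smul_eq_iff_mem_normalizer.1 hx⟩
      rw [P.2.inf_normalizer_sylow, hinf, mem_bot] at h1
      exact mem_bot.2 (Subtype.ext h1)
    obtain ⟨n, hn⟩ := P.2.exists_card_eq
    have hn1 := horb P Q n (by rw [hstab, index_bot, hn])
    rcases Nat.le_one_iff_eq_zero_or_eq_one.1 hn1 with rfl | rfl
    · exact absurd (Subgroup.card_eq_one.1 (by simpa using hn)) (hne P)
    · simpa using hn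
  -- simplicity
  have hsimple : ∀ M : Subgroup G, M.Normal → M = ⊥ ∨ M = ⊤ := by
    intro M hM
    by_contra hcon
    push Not at hcon
    obtain ⟨hMb, hMt⟩ := hcon
    have hMP : ∀ Q : Sylow 5 G, M ⊓ (Q : Subgroup G) = ⊥ := by
      intro Q
      by_contra hne'
      refine hMt (hall M fun R => ?_)
      have hQ5 : Nat.card (Q : Subgroup G) = 5 := (Nat.card_congr (Q.equiv P).toEquiv).trans h5
      have hQM : (Q : Subgroup G) ≤ M := by
        have hd : Nat.card (M ⊓ (Q : Subgroup G) : Subgroup G) ∣ 5 :=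
          (card_dvd_of_le inf_le_right).trans hQ5.dvd
        rcases (Nat.dvd_prime (by norm_num)).1 hd with h | h
        · exact absurd (Subgroup.card_eq_one.1 h) hne'
        · exact inf_eq_right.1 (eq_of_le_of_card_ge inf_le_right (by rw [hQ5, h]))
      obtain ⟨g, rfl⟩ := MulAction.exists_smul_eq G Q R
      intro x hx
      have hx' : x ∈ g • Q := hx
      rw [sylow_smul_mem_iff] at hx'
      simpa [mul_assoc] using hM.conj_mem _ (hQM hx') g
    have hM5 : (Nat.card M).Coprime 5 := coprime_card_of_inf_sylow_eq_bot P (hMP P)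
    -- `M` is transitive
    have htr : ∀ P : Sylow 5 G,
        (Subgroup.normalizer ((P : Subgroup G) : Set G)).relIndex M = 21 := by
      intro P
      have hd : (Subgroup.normalizer ((P : Subgroup G) : Set G)).relIndex M ∣ 21 := by
        rw [← h21, P.card_eq_index_normalizer]
        exact relIndex_dvd_index_normal_right _ _
      have hmod := orbit_card_modEq_one P M (by rw [normalizer_eq_top]; exact le_top)
      have hidx : Nat.card (orbit M P) =
          (Subgroup.normalizer ((P : Subgroup G) : Set G)).relIndex M := by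
        rw [Nat.card_coe_set_eq, ← index_stabilizer]
        change _ = ((Subgroup.normalizer ((P : Subgroup G) : Set G)).subgroupOf M).index
        congr 1
        ext m
        exact Sylow.smul_eq_iff_mem_normalizer
      rw [hidx] at hmod
      have hle := Nat.le_of_dvd (by norm_num) hd
      generalize hr : (Subgroup.normalizer ((P : Subgroup G) : Set G)).relIndex M = r at hd hmod hle ⊢
      by_contra h21'
      have hmod' : r % 5 = 1 := hmod
      have hr1 : r = 1 := by
        interval_cases r <;> omega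
      subst hr1
      have hMN := relIndex_eq_one.1 hr
      refine hMb ((eq_bot_iff_forall M).2 fun m hm => hfaith m fun R => ?_)
      obtain ⟨g, rfl⟩ := MulAction.exists_smul_eq G P R
      have := Sylow.smul_eq_iff_mem_normalizer.2 (hMN (hM.conj_mem m hm g⁻¹))
      rw [inv_inv, mul_smul, mul_smul] at this
      exact smul_left_cancel g⁻¹ (this.trans (inv_smul_smul g P).symm)
    -- a Sylow `3`-subgroup of `M` normalized by a Sylow `5`-subgroup
    obtain ⟨R⟩ := (inferInstance : Nonempty (Sylow 3 M))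
    set R' := (R : Subgroup M).map M.subtype with hR'
    set L := Subgroup.normalizer (R' : Set G) with hL
    have hLM : L ⊔ M = ⊤ := Sylow.normalizer_sup_eq_top R
    have h5L : 5 ∣ Nat.card L := by
      have h5G : 5 ∣ Nat.card G := h5 ▸ card_subgroup_dvd_card (P : Subgroup G)
      have hidx : L.index ∣ Nat.card M := by
        have h1 : L.relIndex M ∣ Nat.card M := relIndex_dvd_card _ _
        have e1 := relIndex_mul_relIndex ⊥ M (L ⊔ M) bot_le le_sup_right
        have e2 := relIndex_mul_relIndex ⊥ L (L ⊔ M) bot_le le_sup_left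
        rw [relIndex_sup_right, hLM, relIndex_top_right] at *
        rw [relIndex_bot_left, index_bot] at e1
        have e3 := card_mul_index L
        have hd : M.relIndex L ∣ Nat.card L := relIndex_dvd_card _ _
        obtain ⟨c, hc⟩ := hd
        refine ⟨c, Nat.eq_of_mul_eq_mul_left (Nat.pos_of_ne_zero (FiniteIndex.index_ne_zero
          (H := M.subgroupOf L))) ?_⟩
        change M.relIndex L * Nat.card M = M.relIndex L * (L.index * c)
        rw [mul_comm, e1, ← e3, hc]; ring
      rw [← card_mul_index L] at h5G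
      exact ((Nat.Prime.dvd_mul (by norm_num)).1 h5G).resolve_right fun h =>
        ((Nat.Prime.coprime_iff_not_dvd (by norm_num)).1 hM5.symm) (h.trans hidx)
    obtain ⟨x, hx⟩ := exists_prime_orderOf_dvd_card' (G := L) 5 h5L
    have hxp : IsPGroup 5 (zpowers (x : G)) :=
      IsPGroup.of_card (n := 1) (by rw [Nat.card_zpowers, Subgroup.orderOf_coe, hx, pow_one])
    obtain ⟨P', hP'⟩ := hxp.exists_le_sylow
    have hP'eq : zpowers (x : G) = (P' : Subgroup G) := eq_of_le_of_card_ge hP' (by
      rw [Nat.card_congr (P'.equiv P).toEquiv, h5, Nat.card_zpowers, Subgroup.orderOf_coe, hx])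
    have hP'L : (P' : Subgroup G) ≤ L := by
      rw [← hP'eq, zpowers_le]; exact x.2
    have hmod := orbit_card_modEq_one P' R' hP'L
    have hidx : Nat.card (orbit R' P') =
        (Subgroup.normalizer ((P' : Subgroup G) : Set G)).relIndex R' := by
      rw [Nat.card_coe_set_eq, ← index_stabilizer]
      change _ = ((Subgroup.normalizer ((P' : Subgroup G) : Set G)).subgroupOf R').index
      congr 1
      ext m
      exact Sylow.smul_eq_iff_mem_normalizer
    rw [hidx] at hmod
    obtain ⟨k, -, hk⟩ := (Nat.dvd_prime_pow Nat.prime_three).1 (by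
      exact (relIndex_dvd_card (Subgroup.normalizer ((P' : Subgroup G) : Set G)) R').trans
        (Classical.choose_spec (R.2.map M.subtype).exists_card_eq).dvd)
    have hle : 3 ^ k ≤ 21 := by
      rw [← hk, ← hidx, Nat.card_coe_set_eq, ← h21, ← Set.ncard_univ]
      exact Set.ncard_le_ncard (Set.subset_univ _)
    have hk0 : k = 0 := by
      rw [hk] at hmod
      have hk3 : k < 3 := by
        by_contra h
        have : 3 ^ 3 ≤ 3 ^ k := Nat.pow_le_pow_right (by norm_num) (not_lt.1 h)
        omega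
      interval_cases k
      · rfl
      · exact absurd hmod (by decide)
      · exact absurd hmod (by decide)
    rw [hk0, pow_zero, relIndex_eq_one] at hk
    -- `R ≤ N(P') ∩ M`, of index prime to `3`
    have h3 : 3 ∣ R'.relIndex M := by
      refine dvd_trans ?_ (relIndex_dvd_of_le_left M hk)
      rw [htr P']; norm_num
    apply R.not_dvd_index
    rw [relIndex, hR', subgroupOf, comap_map_eq_self_of_injective M.subtype_injective] at h3
    exact h3
  have hG : ¬ IsMulCommutative G := by
    intro hc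
    have : Subsingleton (Sylow 5 G) := by
      refine ⟨fun A B => eq_of_forall_smul_eq fun x _ => ?_⟩
      refine Sylow.smul_eq_iff_mem_normalizer.2 (mem_normalizer_iff.2 fun y => ?_)
      rw [hc.is_comm.comm x y, mul_inv_cancel_right]
    rw [Nat.card_unique] at h21
    omega
  have : Nontrivial G := by
    rw [← Finite.one_lt_card_iff_nontrivial]
    have := Nat.le_of_dvd Nat.card_pos (h5 ▸ card_subgroup_dvd_card (P : Subgroup G))
    omega
  have : IsSimpleGroup G := ⟨hsimple⟩
  exact not_simple_of_card_sylow_eq_twentyone h21 hG hfaith P h5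

end CfsgLib.Transfer
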