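import Cfsg.Agent.Lib.Transfer.Frobenius
import Mathlib.GroupTheory.Perm.Centralizer
import Mathlib.GroupTheory.Perm.Cycle.Type
import Mathlib.GroupTheory.SpecificGroups.Alternating

/-!
# Sylow normalizers in symmetric and alternating groups of degree `p` and `p + 1`
-/

namespace CfsgLib.Transfer

open Subgroup Equiv Equiv.Perm
open scoped Nat Pointwise

variable {α : Type*} [Fintype α] [DecidableEq α] {p : ℕ} [Fact p.Prime]

omit [DecidableEq α] in
theorem card_perm_sylow (hα : Fintype.card α = p ∨ Fintype.card α = p + 1)
    (P : Sylow p (Perm α)) : Nat.card (P : Subgroup (Perm α)) = p := by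
  classical
  have hp := (Fact.out : p.Prime)
  rw [P.card_eq_multiplicity, Nat.card_perm, Nat.card_eq_fintype_card]
  have h1 : (p !).factorization p = 1 := by
    rw [← Nat.mul_factorial_pred hp.ne_zero,
      Nat.factorization_mul hp.ne_zero (Nat.factorial_ne_zero _), Finsupp.add_apply,
      hp.factorization_self,
      Nat.factorization_eq_zero_of_not_dvd fun h => by
        rw [hp.dvd_factorial] at h; have := hp.two_le; omega]
  rcases hα with h | h <;> rw [h]
  · rw [h1, pow_one]
  · rw [Nat.factorial_succ, Nat.factorization_mul (by omega) (Nat.factorial_ne_zero _),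
      Finsupp.add_apply, h1, Nat.factorization_eq_zero_of_not_dvd fun hd => by
        have := (Nat.dvd_add_right dvd_rfl).1 hd
        exact hp.not_dvd_one this, zero_add, pow_one]

theorem cycleType_of_mem_sylow (hα : Fintype.card α = p ∨ Fintype.card α = p + 1) {σ : Perm α}
    (hσ : orderOf σ = p) : σ.cycleType = {p} := by
  have hp := (Fact.out : p.Prime)
  obtain ⟨n, hn⟩ := cycleType_prime_order (hσ ▸ hp)
  rw [hσ] at hn
  have hle := σ.sum_cycleType_le
  rw [hn, Multiset.sum_replicate, smul_eq_mul] at hle
  have := hp.two_le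
  have : n = 0 := by
    by_contra hne
    have : 2 * p ≤ (n + 1) * p := Nat.mul_le_mul_right _ (by omega)
    omega
  subst this
  simpa using hn

/-- The normalizer of a Sylow `p`-subgroup of the symmetric group of degree `p` or `p + 1`. -/
theorem card_normalizer_perm_sylow (hα : Fintype.card α = p ∨ Fintype.card α = p + 1)
    (P : Sylow p (Perm α)) :
    Nat.card (Subgroup.normalizer ((P : Subgroup (Perm α)) : Set (Perm α))) = p * (p - 1) := by
  have hp := (Fact.out : p.Prime)
  have hcard := card_perm_sylow hα P
  obtain ⟨σ, hσ⟩ := exists_prime_orderOf_dvd_card' (G := (P : Subgroup (Perm α))) p (by rw [hcard])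
  have hgen : zpowers (σ : Perm α) = (P : Subgroup (Perm α)) :=
    eq_of_le_of_card_ge (zpowers_le.2 σ.2)
      (by rw [hcard, Nat.card_zpowers, Subgroup.orderOf_coe, hσ])
  have hσo : orderOf (σ : Perm α) = p := by rw [Subgroup.orderOf_coe, hσ]
  set N := Subgroup.normalizer ((P : Subgroup (Perm α)) : Set (Perm α))
  set ψ := (P : Subgroup (Perm α)).normalizerMonoidHom
  have : IsCyclic (P : Subgroup (Perm α)) := isCyclic_of_prime_card hcard
  have hsurj : Function.Surjective ψ := by
    intro a
    have hconj : IsConj (σ : Perm α) (a σ : Perm α) := by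
      rw [isConj_iff_cycleType_eq, cycleType_of_mem_sylow hα hσo, cycleType_of_mem_sylow hα]
      rw [Subgroup.orderOf_coe]
      exact (MulEquiv.orderOf_eq a σ).trans hσ
    obtain ⟨g, hg⟩ := isConj_iff.1 hconj
    have hgN : g ∈ N := by
      refine mem_normalizer_iff_map_conj_eq.2 ?_
      refine eq_of_le_of_card_ge ?_ (le_of_eq ?_)
      · conv_lhs => rw [← hgen]
        rw [MonoidHom.map_zpowers, zpowers_le]
        change g * σ * g⁻¹ ∈ (P : Subgroup (Perm α))
        rw [hg]; exact (a σ).2
      · exact (card_map_of_injective (MulAut.conj g).injective).symm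
    refine ⟨⟨g, hgN⟩, MulEquiv.ext fun x => ?_⟩
    obtain ⟨k, hk⟩ := mem_zpowers_iff.1 (show (x : Perm α) ∈ zpowers (σ : Perm α) from hgen.symm ▸ x.2)
    have hx : x = σ ^ k := Subtype.ext hk.symm
    subst hx
    rw [map_zpow, map_zpow]
    congr 1
    exact Subtype.ext hg
  have hrange : Nat.card ψ.range = p - 1 := by
    rw [MonoidHom.range_eq_top.2 hsurj, card_top, IsCyclic.card_mulAut, hcard, Nat.totient_prime hp]
  have hker : Nat.card ψ.ker = p := by
    rw [normalizerMonoidHom_ker,
      Nat.card_congr (subgroupOfEquivOfLe (centralizer_le_normalizer _)).toEquiv,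
      show centralizer ((P : Subgroup (Perm α)) : Set (Perm α)) =
        centralizer {(σ : Perm α)} from (congrArg (fun K : Subgroup (Perm α) =>
          centralizer (K : Set (Perm α))) hgen).symm.trans
          (by rw [zpowers_eq_closure, centralizer_closure])]
    rw [nat_card_centralizer, cycleType_of_mem_sylow hα hσo]
    rcases hα with h | h <;> simp [h]
  rw [← ψ.ker.card_mul_index, index_ker, hker, hrange]

/-- The normalizer of an odd Sylow subgroup in the alternating group has half the order. -/
theorem two_mul_card_normalizer_alternating (hα : 2 ≤ Fintype.card α) (hp : p ≠ 2)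
    (P : Sylow p (Perm α)) :
    (P : Subgroup (Perm α)) ≤ alternatingGroup α ∧
      2 * Nat.card (Subgroup.normalizer
          (((P : Subgroup (Perm α)).subgroupOf (alternatingGroup α) : Subgroup (alternatingGroup α)) :
            Set (alternatingGroup α))) =
        Nat.card (Subgroup.normalizer ((P : Subgroup (Perm α)) : Set (Perm α))) := by
  have : Nontrivial α := Fintype.one_lt_card_iff_nontrivial.1 hα
  have hle : (P : Subgroup (Perm α)) ≤ alternatingGroup α := by
    intro x hx
    rw [mem_alternatingGroup]
    have hodd : Odd (orderOf x) := by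
      obtain ⟨k, hk⟩ := IsPGroup.iff_orderOf.1 P.2 ⟨x, hx⟩
      rw [Subgroup.orderOf_mk] at hk
      exact hk ▸ ((Fact.out : p.Prime).odd_of_ne_two hp).pow
    rcases Int.units_eq_one_or (sign x) with h | h
    · exact h
    · have h1 := congrArg sign (pow_orderOf_eq_one x)
      rw [map_pow, h, map_one, hodd.neg_one_pow] at h1
      exact absurd h1 (by decide)
  refine ⟨hle, ?_⟩
  set A := alternatingGroup α
  set N := Subgroup.normalizer ((P : Subgroup (Perm α)) : Set (Perm α))
  rw [← subgroupOf_normalizer_eq hle]
  have htop : N ⊔ A = ⊤ := Sylow.normalizer_sup_eq_top' P hle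
  have h2 : A.relIndex N = 2 := by
    rw [← relIndex_sup_right, htop, relIndex_top_right]
    exact alternatingGroup.index_eq_two
  have h3 : Nat.card (N.subgroupOf A) = Nat.card (A.subgroupOf N) := by
    rw [← Subgroup.card_map_of_injective A.subtype_injective, subgroupOf_map_subtype,
      ← Subgroup.card_map_of_injective N.subtype_injective, subgroupOf_map_subtype, inf_comm]
  rw [h3, ← h2, mul_comm]
  exact (A.subgroupOf N).card_mul_index

end CfsgLib.Transfer
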