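import Cfsg.Agent.Lib.Transfer.SylowLemmas
import Cfsg.Agent.Lib.Transfer.PermSylow

/-!
# Sylow counting in simple groups
-/

namespace CfsgLib.Transfer

open Subgroup
open scoped Nat Pointwise

section Counting

variable {G : Type*} [Group G] [Finite G] {p : ℕ} [Fact p.Prime]

/-- When the Sylow subgroups have prime order `p` there are `n_p (p - 1)` elements of order `p`. -/
theorem card_orderOf_eq_prime (P : Sylow p G) (hP : Nat.card (P : Subgroup G) = p) :
    Nat.card {g : G // orderOf g = p} = Nat.card (Sylow p G) * (p - 1) := by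
  classical
  have hp := (Fact.out : p.Prime)
  have hall : ∀ Q : Sylow p G, Nat.card (Q : Subgroup G) = p := fun Q =>
    (Nat.card_congr (Q.equiv P).toEquiv).trans hP
  have hord : ∀ (Q : Sylow p G) (x : G), x ∈ (Q : Subgroup G) → x ≠ 1 → orderOf x = p := by
    intro Q x hx hx1
    rcases (Nat.dvd_prime hp).1 ((Subgroup.orderOf_dvd_natCard _ hx).trans (hall Q).dvd) with h | h
    · exact absurd (orderOf_eq_one_iff.1 h) hx1
    · exact h
  let f : (Σ Q : Sylow p G, {x : (Q : Subgroup G) // x ≠ 1}) → {g : G // orderOf g = p} :=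
    fun a => ⟨(a.2.1 : G), hord a.1 _ a.2.1.2 fun h => a.2.2 (Subtype.ext h)⟩
  have hz : ∀ (Q : Sylow p G) (x : G), x ∈ (Q : Subgroup G) → orderOf x = p →
      zpowers x = (Q : Subgroup G) := fun Q x hx ho =>
    eq_of_le_of_card_ge (zpowers_le.2 hx) (by rw [hall Q, Nat.card_zpowers, ho])
  have hf : Function.Bijective f := by
    refine ⟨?_, fun g => ?_⟩
    · rintro ⟨Q, ⟨x, hx⟩, hx1⟩ ⟨R, ⟨y, hy⟩, hy1⟩ h
      obtain rfl : x = y := congrArg Subtype.val h
      have ho := hord Q x hx fun h => hx1 (Subtype.ext h)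
      obtain rfl : Q = R := Sylow.ext ((hz Q x hx ho).symm.trans (hz R x hy ho))
      rfl
    · have hgp : IsPGroup p (zpowers (g : G)) :=
        IsPGroup.of_card (n := 1) (by rw [Nat.card_zpowers, g.2, pow_one])
      obtain ⟨Q, hQ⟩ := hgp.exists_le_sylow
      refine ⟨⟨Q, ⟨(g : G), hQ (mem_zpowers _)⟩, fun h => ?_⟩, rfl⟩
      have := g.2
      rw [show (g : G) = 1 from congrArg Subtype.val h, orderOf_one] at this
      exact hp.ne_one this.symm
  let _ : Fintype G := Fintype.ofFinite G
  let _ : Fintype (Sylow p G) := Fintype.ofFinite _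
  have hone : ∀ Q : Sylow p G, Nat.card {x : (Q : Subgroup G) // x ≠ 1} = p - 1 := by
    intro Q
    rw [Nat.card_eq_fintype_card, Fintype.card_subtype_compl, Fintype.card_subtype_eq,
      ← Nat.card_eq_fintype_card, hall Q]
  rw [← Nat.card_eq_of_bijective f hf, Nat.card_sigma]
  rw [Finset.sum_congr rfl fun Q _ => hone Q, Finset.sum_const, Finset.card_univ,
    ← Nat.card_eq_fintype_card, smul_eq_mul]

/-- If `n_p ≢ 1 (mod p ^ k)` some two Sylow subgroups meet in index at most `p ^ (k - 1)`. -/
theorem exists_large_intersection (k : ℕ) (h : ¬ Nat.card (Sylow p G) ≡ 1 [MOD p ^ k]) :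
    ∃ P R : Sylow p G, P ≠ R ∧ ((R : Subgroup G).subgroupOf (P : Subgroup G)).index ≤ p ^ (k - 1) := by
  classical
  by_contra! hcon
  apply h
  obtain ⟨P⟩ := (inferInstance : Nonempty (Sylow p G))
  have hp := (Fact.out : p.Prime)
  let X := {Q : Sylow p G // Q ≠ P}
  let act : MulAction (P : Subgroup G) X :=
    { smul := fun x Q => ⟨(x : G) • (Q : Sylow p G), fun hQ => Q.2 (by
        rw [← inv_smul_smul (x : G) (Q : Sylow p G), hQ,
          Sylow.smul_eq_iff_mem_normalizer.2 (Subgroup.le_normalizer (inv_mem x.2))])⟩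
      one_smul := fun Q => Subtype.ext (one_smul G (Q : Sylow p G))
      mul_smul := fun x y Q => Subtype.ext (mul_smul (x : G) (y : G) (Q : Sylow p G)) }
  let _ : Fintype (Sylow p G) := Fintype.ofFinite _
  let _ : Fintype (MulAction.orbitRel.Quotient (P : Subgroup G) X) := Fintype.ofFinite _
  have hd : p ^ k ∣ Nat.card X := by
    rw [Nat.card_congr (MulAction.selfEquivSigmaOrbits (P : Subgroup G) X), Nat.card_sigma]
    refine Finset.dvd_sum fun ω _ => ?_
    set R := ω.out
    have hstab : MulAction.stabilizer (P : Subgroup G) R =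
        ((R : Sylow p G) : Subgroup G).subgroupOf (P : Subgroup G) := by
      ext x
      rw [MulAction.mem_stabilizer_iff, Subtype.ext_iff, mem_subgroupOf]
      change (x : G) • (R : Sylow p G) = (R : Sylow p G) ↔ _
      rw [Sylow.smul_eq_iff_mem_normalizer]
      refine ⟨fun hx => ?_, fun hx => Subgroup.le_normalizer hx⟩
      have h2 : (x : G) ∈ (P : Subgroup G) ⊓ Subgroup.normalizer ((R : Sylow p G) : Set G) := ⟨x.2, hx⟩
      rw [P.2.inf_normalizer_sylow] at h2
      exact h2.2
    have hlt := hcon P (R : Sylow p G) (Ne.symm R.2)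
    rw [Nat.card_coe_set_eq, ← MulAction.index_stabilizer, hstab]
    obtain ⟨j, hj⟩ := P.2.index (((R : Sylow p G) : Subgroup G).subgroupOf (P : Subgroup G))
    rw [hj] at hlt ⊢
    refine pow_dvd_pow p ?_
    have := (Nat.pow_lt_pow_iff_right hp.one_lt).1 hlt
    omega
  have hsucc : Nat.card (Sylow p G) = Nat.card X + 1 := by
    rw [Nat.card_eq_fintype_card, Nat.card_eq_fintype_card, Fintype.card_subtype_compl,
      Fintype.card_subtype_eq]
    have := Fintype.card_pos_iff.2 ⟨P⟩
    omega
  rw [hsucc]
  simpa using (Nat.modEq_zero_iff_dvd.2 hd).add_right 1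

end Counting

section Simple

variable {G : Type*} [Group G] [Finite G] [IsSimpleGroup G]

/-- A simple group whose order is not prime is not abelian. -/
theorem not_isMulCommutative_of_not_prime (h : ¬ (Nat.card G).Prime) : ¬ IsMulCommutative G := by
  intro hc
  let _ : CommGroup G := { (inferInstance : Group G) with mul_comm := hc.is_comm.comm }
  exact h IsSimpleGroup.prime_card

variable (hG : ¬ IsMulCommutative G)
include hG

/-- A non-abelian simple group with a proper subgroup of index `n` embeds in `A_n`. -/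
theorem exists_embedding_alternating {H : Subgroup G} (hH : H ≠ ⊤) :
    ∃ f : G →* alternatingGroup (Fin H.index), Function.Injective f := by
  have e : G ⧸ H ≃ Fin H.index := Finite.equivFinOfCardEq (Subgroup.index_eq_card H).symm
  let f0 : G →* Equiv.Perm (Fin H.index) :=
    e.permCongrHom.toMonoidHom.comp (MulAction.toPermHom G (G ⧸ H))
  refine ⟨f0.codRestrict (alternatingGroup (Fin H.index))
    (fun g => Equiv.Perm.mem_alternatingGroup.2 (sign_eq_one_of_simple hG f0 g)), ?_⟩
  have hinj : Function.Injective f0 := by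
    refine e.permCongrHom.injective.comp ((MonoidHom.ker_eq_bot_iff _).1 ?_)
    rw [← Subgroup.normalCore_eq_ker]
    rcases IsSimpleGroup.eq_bot_or_eq_top_of_normal H.normalCore inferInstance with h | h
    · exact h
    · exact absurd (top_le_iff.1 (h.ge.trans H.normalCore_le)) hH
  exact fun a b h => hinj (congrArg Subtype.val h)

/-- `2 |G| ∣ [G : H]!` for a proper subgroup `H` of a non-abelian simple group. -/
theorem two_mul_card_dvd_factorial {H : Subgroup G} (hH : H ≠ ⊤) :
    2 * Nat.card G ∣ H.index ! := by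
  obtain ⟨f, hf⟩ := exists_embedding_alternating hG hH
  have h2 : 2 ≤ H.index := by
    have := H.one_lt_index_of_ne_top hH
    omega
  have : Nontrivial (Fin H.index) := Fin.nontrivial_iff_two_le.2 h2
  calc 2 * Nat.card G ∣ 2 * Nat.card (alternatingGroup (Fin H.index)) :=
        mul_dvd_mul_left 2 (card_dvd_of_injective f hf)
    _ = H.index ! := by
      rw [Nat.card_eq_fintype_card, two_mul_card_alternatingGroup, Fintype.card_perm,
        Fintype.card_fin]

variable {p : ℕ} [Fact p.Prime]

/-- A non-abelian simple group has no normal `p`-complement for `p` dividing its order. -/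
theorem not_hasNormalPComplement_of_simple (hp : p ∣ Nat.card G) :
    ¬ Cfsg.HasNormalPComplement p G := by
  rintro ⟨S, K, hK, hKS⟩
  rcases IsSimpleGroup.eq_bot_or_eq_top_of_normal K hK with rfl | rfl
  · have hS : (S : Subgroup G) = ⊤ := isComplement'_bot_left.1 hKS
    have := (S.2.to_le hS.ge).isNilpotent
    have hb : (⊤ : Subgroup G) = ⊥ := eq_bot_of_le_commutator (K := ⊤) le_rfl
      (le_of_eq (by rw [← commutator_def, commutator_eq_top_of_simple hG]))
    have hone : ∀ a : G, a = 1 := fun a => by
      have ha : a ∈ (⊤ : Subgroup G) := mem_top a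
      rwa [hb, mem_bot] at ha
    exact hG ⟨⟨fun a b => by rw [hone a, hone b]⟩⟩
  · exact S.ne_bot_of_dvd_card hp (isComplement'_top_left.1 hKS)

/-- The normalizer of an abelian Sylow subgroup of a non-abelian simple group is bigger than
its centralizer. -/
theorem not_normalizer_le_centralizer (hp : p ∣ Nat.card G) (P : Sylow p G) :
    ¬ Subgroup.normalizer ((P : Subgroup G) : Set G) ≤ centralizer ((P : Subgroup G) : Set G) :=
  fun h => not_hasNormalPComplement_of_simple hG hp
    (hasNormalPComplement_of_normalizer_le_centralizer P h)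

theorem normalizer_ne_top_of_simple (hp : p ∣ Nat.card G) (P : Sylow p G) :
    Subgroup.normalizer ((P : Subgroup G) : Set G) ≠ ⊤ := by
  intro h
  rcases IsSimpleGroup.eq_bot_or_eq_top_of_normal _ (normalizer_eq_top_iff.1 h) with h' | h'
  · exact P.ne_bot_of_dvd_card hp h'
  · refine not_hasNormalPComplement_of_simple hG hp ⟨P, ⊥, inferInstance, ?_⟩
    rw [h']; exact isComplement'_bot_top

/-- Sylow data of a non-abelian simple group. -/
theorem sylow_count_of_simple (hp : p ∣ Nat.card G) :
    1 < Nat.card (Sylow p G) ∧ Nat.card (Sylow p G) % p = 1 ∧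
      Nat.card (Sylow p G) ∣ Nat.card G ∧ 2 * Nat.card G ∣ (Nat.card (Sylow p G))! := by
  obtain ⟨P⟩ := (inferInstance : Nonempty (Sylow p G))
  have hN := normalizer_ne_top_of_simple hG hp P
  have hi : Nat.card (Sylow p G) = (Subgroup.normalizer ((P : Subgroup G) : Set G)).index :=
    P.card_eq_index_normalizer
  refine ⟨hi ▸ one_lt_index_of_ne_top hN, ?_, hi ▸ index_dvd_card _,
    hi ▸ two_mul_card_dvd_factorial hG hN⟩
  have h := card_sylow_modEq_one p G
  rw [Nat.ModEq, Nat.mod_eq_of_lt (Fact.out : p.Prime).one_lt] at h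
  exact h

/-- With `p + 1` Sylow subgroups of order `p`, twice the normalizer order divides `p (p - 1)`. -/
theorem two_mul_card_normalizer_dvd (hp2 : p ≠ 2) (P : Sylow p G)
    (hP : Nat.card (P : Subgroup G) = p) (hn : Nat.card (Sylow p G) = p + 1) :
    2 * Nat.card (Subgroup.normalizer ((P : Subgroup G) : Set G)) ∣ p * (p - 1) := by
  classical
  let _ : Fintype (Sylow p G) := Fintype.ofFinite _
  let f0 := MulAction.toPermHom G (Sylow p G)
  let A := alternatingGroup (Sylow p G)
  let f : G →* A :=
    f0.codRestrict A (fun g => Equiv.Perm.mem_alternatingGroup.2 (sign_eq_one_of_simple hG f0 g))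
  have hf : Function.Injective f := by
    rw [← MonoidHom.ker_eq_bot_iff]
    rcases IsSimpleGroup.eq_bot_or_eq_top_of_normal f.ker inferInstance with h | h
    · exact h
    · exfalso
      refine normalizer_ne_top_of_simple hG (hP ▸ card_subgroup_dvd_card (P : Subgroup G)) P
        (top_le_iff.1 fun g _ => Sylow.smul_eq_iff_mem_normalizer.1 ?_)
      have h1 : f g = 1 := MonoidHom.mem_ker.1 (h ▸ mem_top g)
      exact congrArg (fun π : A => (π : Equiv.Perm (Sylow p G)) P) h1
  have hinj : Function.Injective (A.subtype.comp f) := A.subtype_injective.comp hf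
  have hα : Fintype.card (Sylow p G) = p + 1 := by rw [← Nat.card_eq_fintype_card, hn]
  set I := (P : Subgroup G).map (A.subtype.comp f) with hI
  obtain ⟨S, hS⟩ := (P.2.map (A.subtype.comp f)).exists_le_sylow
  have hIS : I = (S : Subgroup (Equiv.Perm (Sylow p G))) :=
    eq_of_le_of_card_ge hS (by
      rw [card_perm_sylow (Or.inr hα), hI, Subgroup.card_map_of_injective hinj, hP])
  obtain ⟨-, h2⟩ := two_mul_card_normalizer_alternating (by rw [hα]; have := (Fact.out : p.Prime).two_le; omega)
    hp2 S
  rw [card_normalizer_perm_sylow (Or.inr hα)] at h2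
  rw [← h2]
  refine mul_dvd_mul_left 2 ?_
  have hmap : (P : Subgroup G).map f = (S : Subgroup _).subgroupOf A := by
    rw [← hIS, hI, ← Subgroup.map_map, subgroupOf,
      comap_map_eq_self_of_injective A.subtype_injective]
  rw [← Subgroup.card_map_of_injective (K := Subgroup.normalizer ((P : Subgroup G) : Set G)) hf,
    ← hmap]
  exact card_dvd_of_le (Subgroup.le_normalizer_map _)

end Simple

end CfsgLib.Transfer
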