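import Cfsg.Agent.Lib.Transfer.ExcChar
import Cfsg.Agent.Lib.Char.CABasic
import Cfsg.Agent.Lib.BlockB.ClassMul
import Cfsg.Agent.Lib.Char.Linear
import Mathlib.LinearAlgebra.Trace

/-!
# Numerical consequences of the degree equation in simple groups
-/

namespace CfsgLib.Transfer

open CfsgLib.Char
open scoped ComplexConjugate

universe u

variable {G : Type u} [Group G] [Fintype G]

omit [Fintype G] in
/-- Values of characters at involutions are integers. -/
theorem exists_int_char_involution {χ : G → ℂ} (hχ : Cfsg.IsCharacter G χ) {t : G}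
    (ht : t * t = 1) : ∃ k : ℤ, χ t = k := by
  obtain ⟨n, ρ, rfl⟩ := hχ
  have h2 : ρ t * ρ t = 1 := by rw [← map_mul, ht, map_one]
  set f : Module.End ℂ (Fin n → ℂ) := (2 : ℂ)⁻¹ • (1 + ρ t) with hf
  have hff : IsIdempotentElem f := by
    show f * f = f
    rw [hf, smul_mul_smul_comm, add_mul, one_mul, mul_add, mul_one, h2,
      show 1 + ρ t + (ρ t + 1) = (2 : ℂ) • (1 + ρ t) by rw [two_smul]; abel, smul_smul]
    norm_num
  have htr := (LinearMap.isProj_range_iff_isIdempotentElem f).2 hff |>.trace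
  refine ⟨2 * (Module.finrank ℂ (LinearMap.range f) : ℤ) - n, ?_⟩
  rw [hf, map_smul, map_add, LinearMap.trace_one, Module.finrank_fin_fun, smul_eq_mul] at htr
  show LinearMap.trace ℂ (Fin n → ℂ) (ρ t) = _
  push_cast
  linear_combination 2 * htr

section Simple

variable [IsSimpleGroup G]

omit [Fintype G] in
/-- A non-abelian simple group has no nontrivial linear character. -/
theorem irr_apply_one_ne_one [Finite G] (hG : ¬ IsMulCommutative G) (φ : Cfsg.IrrCharacter G)
    (hne : (φ : G → ℂ) ≠ fun _ => 1) : (φ : G → ℂ) 1 ≠ 1 := by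
  intro h
  obtain ⟨lam, hlam⟩ := exists_hom_of_degree_one (irr_isCharacter φ.2) h
  rcases lam.normal_ker.eq_bot_or_eq_top with hk | hk
  · exact hG ⟨⟨fun a b => (MonoidHom.ker_eq_bot_iff lam).1 hk (by rw [map_mul, map_mul, mul_comm])⟩⟩
  · refine hne ?_
    funext g
    have : g ∈ lam.ker := hk ▸ Subgroup.mem_top g
    rw [hlam]
    simp [MonoidHom.mem_ker.1 this]

omit [Fintype G] in
/-- A nontrivial irreducible character of a simple group is faithful. -/
theorem irr_apply_ne_apply_one [Finite G] (φ : Cfsg.IrrCharacter G)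
    (hne : (φ : G → ℂ) ≠ fun _ => 1) {x : G} (hx : x ≠ 1) :
    (φ : G → ℂ) x ≠ (φ : G → ℂ) 1 := by
  intro h
  have hφ := φ.2
  obtain ⟨n, ρ, hirr, hρ⟩ := hφ
  rw [← hρ] at h
  rcases (MonoidHom.normal_ker ρ).eq_bot_or_eq_top with hk | hk
  · exact hx (Subgroup.mem_bot.1 (hk ▸ (mem_ker_iff_char ρ x).2 h))
  · have hconst : ∀ g, (φ : G → ℂ) g = (φ : G → ℂ) 1 := fun g => by
      rw [← hρ]; exact (mem_ker_iff_char ρ g).1 (hk ▸ Subgroup.mem_top g)
    have := Fintype.ofFinite G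
    have h0 := irr_classInner_ne φ.2 isIrrCharacter_one hne
    rw [show (φ : G → ℂ) = (φ : G → ℂ) 1 • (fun _ => (1 : ℂ)) from
      funext fun g => by simp [hconst g], classInner_smul_left,
      irr_classInner_self isIrrCharacter_one, mul_one] at h0
    exact irr_apply_one_ne_zero φ.2 h0

variable (A : Subgroup G) (hA : ∀ x ∈ A, x ≠ 1 → Subgroup.centralizer ({x} : Set G) = A)

include hA in
open scoped Classical in
/-- The degree equation in a non-abelian simple group, with integer degrees. -/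
theorem exists_excData_simple (hG : ¬ IsMulCommutative G) {e w : ℕ}
    (hcN : Nat.card (Subgroup.normalizer (A : Set G)) = e * Nat.card A)
    (hwe : w * e + 1 = Nat.card A) (hw2 : 2 ≤ w) :
    ∃ (ε α : ℤ) (d : ℕ) (θ : Fin w → Cfsg.IrrCharacter G) (S : Finset (Cfsg.IrrCharacter G))
      (a : Cfsg.IrrCharacter G → ℤ) (D : Cfsg.IrrCharacter G → ℕ),
      ExcData A e w ε α d θ ∧ 1 < d ∧ d ∣ Nat.card G ∧
      (∀ φ ∈ S, (φ : G → ℂ) 1 = D φ ∧ 1 < D φ ∧ D φ ∣ Nat.card G ∧ (∀ j, φ ≠ θ j) ∧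
        (φ : G → ℂ) ≠ (fun _ => 1) ∧ a φ ≠ 0 ∧ (∀ x ∈ A, x ≠ 1 → (φ : G → ℂ) x = a φ) ∧
        ∃ k : ℕ, 0 < k ∧ (D φ : ℤ) = a φ + Nat.card A * k) ∧
      (∀ φ ∉ S, (∀ j, φ ≠ θ j) → (φ : G → ℂ) ≠ (fun _ => 1) →
        ∀ x ∈ A, x ≠ 1 → (φ : G → ℂ) x = 0) ∧
      (∑ φ ∈ S, a φ ^ 2) + ((w : ℤ) - 1) * α ^ 2 + (α - ε) ^ 2 = e ∧
      1 + (∑ φ ∈ S, a φ * D φ) + (w * α - ε) * d = 0 ∧
      1 + (∑ φ ∈ S, D φ ^ 2) + w * d ^ 2 ≤ Nat.card G := by
  have := Fintype.ofFinite (Cfsg.IrrCharacter G)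
  obtain ⟨ε, α, d, θ, S, a, hd, hS, hout, hnorm, hdeg⟩ := exists_excData A hA hcN hwe hw2
  let D : Cfsg.IrrCharacter G → ℕ := fun φ => Cfsg.charDegree (φ : G → ℂ)
  have hD : ∀ φ : Cfsg.IrrCharacter G, (φ : G → ℂ) 1 = D φ :=
    fun φ => (BlockB.irr_degree_cast φ).symm
  have hD1 : ∀ φ : Cfsg.IrrCharacter G, (φ : G → ℂ) ≠ (fun _ => 1) → 1 < D φ := fun φ hne => by
    have h0 : 0 < D φ := BlockB.irr_degree_pos φ
    by_contra h1
    exact irr_apply_one_ne_one hG φ hne (by rw [hD, show D φ = 1 by omega]; simp)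
  let j0 : Fin w := ⟨0, by omega⟩
  have hdD : d = D (θ j0) := by
    have := (hd.deg j0).symm.trans (hD _)
    exact_mod_cast this
  refine ⟨ε, α, d, θ, S, a, D, hd, hdD ▸ hD1 _ (hd.ne_one j0),
    hdD ▸ BlockB.irr_degree_dvd_card _, fun φ hφ => ?_, hout, hnorm, ?_, ?_⟩
  · obtain ⟨h1, h2, h3, h4, k, hk⟩ := hS φ hφ
    refine ⟨hD φ, hD1 φ h2, BlockB.irr_degree_dvd_card φ, h1, h2, h3, h4, k,
      Nat.pos_of_ne_zero ?_, ?_⟩
    · rintro rfl
      obtain ⟨x, hx, hx1⟩ : ∃ x ∈ A, x ≠ 1 := by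
        have : Nontrivial A := Finite.one_lt_card_iff_nontrivial.1 (by
          have : 0 < w * e := Nat.mul_pos (by omega) (by
            rcases Nat.eq_zero_or_pos e with h0 | h0
            · subst h0; rw [zero_mul] at hcN; exact absurd hcN Nat.card_pos.ne'
            · exact h0)
          omega)
        obtain ⟨y, hy⟩ := exists_ne (1 : A)
        exact ⟨y, y.2, fun h => hy (Subtype.ext h)⟩
      exact irr_apply_ne_apply_one φ h2 hx1 (by rw [h4 x hx hx1, hk]; simp)
    · rw [hD] at hk; exact_mod_cast hk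
  · simp only [hD] at hdeg; exact_mod_cast hdeg
  · have h := sum_irr_sq (G := G)
    simp only [hD] at h
    have hnat : ∑ φ, D φ ^ 2 = Nat.card G := by exact_mod_cast h
    rw [← hnat]
    let one : Cfsg.IrrCharacter G := ⟨fun _ => 1, isIrrCharacter_one⟩
    have hone : D one = 1 := by
      have := (hD one).symm
      simp only [one] at this
      exact_mod_cast this
    have hdisj : Disjoint S (Finset.univ.image θ) := Finset.disjoint_left.2 fun φ hφ h => by
      obtain ⟨j, -, rfl⟩ := Finset.mem_image.1 h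
      exact (hS _ hφ).1 j rfl
    have hnot : one ∉ S ∪ Finset.univ.image θ := by
      rw [Finset.mem_union]
      rintro (h | h)
      · exact (hS _ h).2.1 rfl
      · obtain ⟨j, -, hj⟩ := Finset.mem_image.1 h
        exact hd.ne_one j (congrArg Subtype.val hj)
    have hθd : ∑ j, D (θ j) ^ 2 = w * d ^ 2 := by
      have : ∀ j, D (θ j) = d := fun j => by exact_mod_cast (hD _).symm.trans (hd.deg j)
      simp [this]
    refine le_trans (le_of_eq ?_) (Finset.sum_le_univ_sum_of_nonneg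
      (s := insert one (S ∪ Finset.univ.image θ)) fun _ => Nat.zero_le _)
    rw [Finset.sum_insert hnot, Finset.sum_union hdisj, Finset.sum_image fun i _ j _ h => hd.inj h,
      hone, hθd]
    ring

include hA in
/-- `|G|`-divisibility data for `|N(A) : A| = 3`. -/
theorem exc_three_numeric (hG : ¬ IsMulCommutative G) {w : ℕ}
    (hcN : Nat.card (Subgroup.normalizer (A : Set G)) = 3 * Nat.card A)
    (hwe : w * 3 + 1 = Nat.card A) (hw : 5 ≤ w) :
    ∃ (s₁ s₂ ε : ℤ) (D₁ D₂ d : ℕ), (s₁ = 1 ∨ s₁ = -1) ∧ (s₂ = 1 ∨ s₂ = -1) ∧ (ε = 1 ∨ ε = -1) ∧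
      1 + s₁ * D₁ + s₂ * D₂ = ε * d ∧ D₁ ∣ Nat.card G ∧ D₂ ∣ Nat.card G ∧ d ∣ Nat.card G ∧
      1 < d ∧ (∃ k : ℕ, 0 < k ∧ (D₁ : ℤ) = s₁ + Nat.card A * k) ∧
      (∃ k : ℕ, 0 < k ∧ (D₂ : ℤ) = s₂ + Nat.card A * k) ∧
      (∃ z : ℕ, (d : ℤ) = Nat.card A * z + ε * 3) ∧
      1 + D₁ ^ 2 + D₂ ^ 2 + w * d ^ 2 ≤ Nat.card G := by
  classical
  obtain ⟨ε, α, d, θ, S, a, D, hd, hd1, hdG, hS, -, hnorm, hdeg, hsq⟩ :=
    exists_excData_simple A hA hG hcN hwe (by omega)
  have hα : α = 0 := by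
    by_contra h
    have h1 : 1 ≤ α ^ 2 := one_le_sq_iff_one_le_abs _ |>.2 (Int.one_le_abs h)
    have h2 : (0 : ℤ) ≤ ∑ φ ∈ S, a φ ^ 2 := Finset.sum_nonneg fun _ _ => sq_nonneg _
    have hw' : (4 : ℤ) ≤ (w : ℤ) - 1 := by omega
    push_cast at hnorm
    nlinarith [sq_nonneg (α - ε), mul_le_mul hw' h1 zero_le_one (by omega : (0 : ℤ) ≤ (w : ℤ) - 1)]
  subst hα
  obtain ⟨z, hz⟩ := hd.deg_eq
  have hε : ε ^ 2 = 1 := by rcases hd.sign with h | h <;> simp [h]
  have hsum : ∑ φ ∈ S, a φ ^ 2 = 2 := by push_cast at hnorm; nlinarith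
  have h1 : ∀ φ ∈ S, 1 ≤ a φ ^ 2 := fun φ hφ =>
    one_le_sq_iff_one_le_abs _ |>.2 (Int.one_le_abs (hS φ hφ).2.2.2.2.2.1)
  have hcard : (S.card : ℤ) ≤ 2 := by
    have := Finset.sum_le_sum h1
    simpa [hsum] using this
  have hle : ∀ φ ∈ S, a φ ^ 2 ≤ 2 := fun φ hφ =>
    hsum ▸ Finset.single_le_sum (fun _ _ => sq_nonneg _) hφ
  have hpm : ∀ φ ∈ S, a φ = 1 ∨ a φ = -1 := fun φ hφ => by
    have h2 := h1 φ hφ
    have h3 := hle φ hφ
    have h4 : a φ ≤ 1 := by nlinarith
    have h5 : -1 ≤ a φ := by nlinarith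
    have := (hS φ hφ).2.2.2.2.2.1
    omega
  have hc2 : S.card = 2 := by
    have : ∑ φ ∈ S, a φ ^ 2 = ∑ φ ∈ S, (1 : ℤ) := Finset.sum_congr rfl fun φ hφ => by
      rcases hpm φ hφ with h | h <;> simp [h]
    rw [hsum, Finset.sum_const, nsmul_one] at this
    exact_mod_cast this.symm
  obtain ⟨φ₁, φ₂, hne, rfl⟩ := Finset.card_eq_two.1 hc2
  rw [Finset.sum_pair hne] at hdeg hsq
  obtain ⟨-, -, hG₁, -, -, -, -, hk₁⟩ := hS φ₁ (by simp)
  obtain ⟨-, -, hG₂, -, -, -, -, hk₂⟩ := hS φ₂ (by simp)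
  refine ⟨a φ₁, a φ₂, ε, D φ₁, D φ₂, d, hpm φ₁ (by simp), hpm φ₂ (by simp), hd.sign,
    by push_cast at hdeg; linarith, hG₁, hG₂, hdG, hd1, hk₁, hk₂, ⟨z, by simpa using hz⟩,
    by omega⟩

omit [IsSimpleGroup G] in
open scoped Classical in
theorem card_conj_filter (y z : G) :
    (Finset.univ.filter fun g : G => g * y * g⁻¹ = z).card =
      if IsConj y z then Nat.card (Subgroup.centralizer ({y} : Set G)) else 0 := by
  split_ifs with h
  · obtain ⟨c, hc⟩ := isConj_iff.1 h
    rw [Nat.card_eq_fintype_card, ← Finset.card_univ]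
    refine (Finset.card_bij (fun (k : Subgroup.centralizer ({y} : Set G)) _ => c * (k : G))
      (fun k _ => ?_) (fun a _ b _ hab => Subtype.ext (mul_left_cancel hab)) fun g hg => ?_).symm
    · refine Finset.mem_filter.2 ⟨Finset.mem_univ _, ?_⟩
      rw [← hc]
      have := Subgroup.mem_centralizer_singleton_iff.1 k.2
      calc c * k * y * (c * k)⁻¹ = c * ((k : G) * y) * (k : G)⁻¹ * c⁻¹ := by group
        _ = _ := by rw [this]; group
    · have hg' := (Finset.mem_filter.1 hg).2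
      refine ⟨⟨c⁻¹ * g, Subgroup.mem_centralizer_singleton_iff.2 ?_⟩, Finset.mem_univ _,
        mul_inv_cancel_left c g⟩
      calc c⁻¹ * g * y = c⁻¹ * (g * y * g⁻¹) * g := by group
        _ = c⁻¹ * (c * y * c⁻¹) * g := by rw [hg', hc]
        _ = y * (c⁻¹ * g) := by group
  · rw [Finset.card_eq_zero, Finset.filter_eq_empty_iff]
    exact fun g _ hg => h (isConj_iff.2 ⟨g, hg⟩)

omit [IsSimpleGroup G] in
theorem card_centralizer_conj (g y : G) :
    Nat.card (Subgroup.centralizer ({g * y * g⁻¹} : Set G)) =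
      Nat.card (Subgroup.centralizer ({y} : Set G)) := by
  have h1 := natCard_carrier_mul_centralizer (g * y * g⁻¹)
  have h2 := natCard_carrier_mul_centralizer y
  rw [show ConjClasses.mk (g * y * g⁻¹) = ConjClasses.mk y from
    ConjClasses.mk_eq_mk_iff_isConj.mpr (isConj_iff.2 ⟨g⁻¹, by group⟩)] at h1
  refine Nat.eq_of_mul_eq_mul_left ?_ (h1.trans h2.symm)
  have : Nonempty (ConjClasses.mk y).carrier := ⟨⟨y, ConjClasses.mem_carrier_mk⟩⟩
  exact Nat.card_pos

include hA in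
omit [IsSimpleGroup G] in
open scoped Classical in
/-- For `|N(A) : A| = 2`: the number of `s` with `t (s t s⁻¹)` conjugate to `x` is `|C(t)|²`. -/
theorem card_prod_conj (hodd : Odd (Nat.card A))
    (hcN : Nat.card (Subgroup.normalizer (A : Set G)) = 2 * Nat.card A) {t x : G}
    (ht : orderOf t = 2) (htN : t ∈ Subgroup.normalizer (A : Set G)) (hx : x ∈ A) (hx1 : x ≠ 1) :
    (Finset.univ.filter fun s : G => IsConj (t * (s * t * s⁻¹)) x).card =
      Nat.card (Subgroup.centralizer ({t} : Set G)) ^ 2 := by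
  set N := Subgroup.normalizer (A : Set G) with hN
  have hAN : A ≤ N := Subgroup.le_normalizer
  have hA2 : (A.subgroupOf N).index = 2 := by
    have := (A.subgroupOf N).index_mul_card
    rw [Nat.card_congr (Subgroup.subgroupOfEquivOfLe hAN).toEquiv, hcN] at this
    exact Nat.eq_of_mul_eq_mul_right Nat.card_pos this
  have htt : t * t = 1 := by rw [← pow_two]; exact ht ▸ pow_orderOf_eq_one t
  have hti : t⁻¹ = t := inv_eq_of_mul_eq_one_right htt
  have hnA : ∀ u : G, orderOf u = 2 → u ∉ A := fun u hu huA => by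
    have := orderOf_dvd_natCard (⟨u, huA⟩ : A)
    rw [Subgroup.orderOf_mk, hu] at this
    exact Nat.not_even_iff_odd.2 hodd (even_iff_two_dvd.2 this)
  have hcomm : ∀ a ∈ A, ∀ b ∈ A, a * b = b * a := fun a ha b hb =>
    comm_of_selfCentral hA ha hb
  have hinv : ∀ a ∈ A, t * a * t = a⁻¹ := by
    intro a ha
    have hc : t * a * t ∈ A := by
      have := (Subgroup.mem_normalizer_iff.1 htN a).1 ha
      rwa [hti] at this
    by_contra hne
    have hy : a * (t * a * t) ∈ A := mul_mem ha hc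
    have hy1 : a * (t * a * t) ≠ 1 := fun h => hne (eq_inv_of_mul_eq_one_right h)
    refine hnA t ht (hA _ hy hy1 ▸ Subgroup.mem_centralizer_singleton_iff.2 ?_)
    calc t * (a * (t * a * t)) = (t * a * t) * a * t * (t * t)⁻¹ * (t * t) := by group
      _ = (t * a * t) * a * t := by rw [htt]; group
      _ = a * (t * a * t) * t := by rw [hcomm _ hc a ha]
  have hinvol : ∀ a ∈ A, (a * t) * (a * t) = 1 := fun a ha => by
    calc a * t * (a * t) = a * (t * a * t) := by group
      _ = 1 := by rw [hinv a ha, mul_inv_cancel]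
  have hconjA : ∀ a ∈ A, IsConj t (a * t) := by
    intro a ha
    obtain ⟨b, hb⟩ := (powCoprime (G := A) (n := 2) (Nat.coprime_two_right.2 hodd)).surjective ⟨a, ha⟩
    refine isConj_iff.2 ⟨b, ?_⟩
    have hb' : (b : G) * b = a := by
      rw [← pow_two]; exact congrArg Subtype.val hb
    calc (b : G) * t * (b : G)⁻¹ = b * (t * (b : G)⁻¹ * t) * t⁻¹ := by group
      _ = a * t := by rw [hinv _ (inv_mem b.2), inv_inv, hb', hti]
  have hU : ∀ u : G, (IsConj t u ∧ IsConj t (u⁻¹ * x)) ↔ ∃ a ∈ A, u = a * t := by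
    intro u
    constructor
    · rintro ⟨h1, h2⟩
      obtain ⟨c, hc⟩ := isConj_iff.1 h1
      obtain ⟨c', hc'⟩ := isConj_iff.1 h2
      have huu : u * u = 1 := by
        calc u * u = c * (t * t) * c⁻¹ := by rw [← hc]; group
          _ = 1 := by rw [htt]; group
      have hui : u⁻¹ = u := inv_eq_of_mul_eq_one_right huu
      have hvv : (u * x) * (u * x) = 1 := by
        rw [hui] at hc'
        calc (u * x) * (u * x) = c' * (t * t) * c'⁻¹ := by rw [← hc']; group
          _ = 1 := by rw [htt]; group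
      have hux : u * x * u⁻¹ = x⁻¹ := by
        rw [hui]
        exact eq_inv_of_mul_eq_one_left (by simpa [mul_assoc] using hvv)
      have huN : u ∈ N := by
        rw [hN]
        refine Subgroup.mem_normalizer_fintype fun a ha => ?_
        refine hA _ (inv_mem hx) (inv_ne_one.2 hx1) ▸ Subgroup.mem_centralizer_singleton_iff.2 ?_
        rw [← hux]
        calc u * a * u⁻¹ * (u * x * u⁻¹) = u * (a * x) * u⁻¹ := by group
          _ = _ := by rw [hcomm a ha x hx]; group
      have hu2 : orderOf u = 2 := by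
        rw [← ht, ← hc]
        exact orderOf_injective (MulAut.conj c).toMonoidHom (MulAut.conj c).injective t
      have := (Subgroup.mul_mem_iff_of_index_two hA2 (a := ⟨u, huN⟩) (b := ⟨t, htN⟩))
      simp only [Subgroup.mem_subgroupOf, Subgroup.coe_mul] at this
      refine ⟨u * t, this.2 (iff_of_false (hnA u hu2) (hnA t ht)), ?_⟩
      rw [mul_assoc, htt, mul_one]
    · rintro ⟨a, ha, rfl⟩
      refine ⟨hconjA a ha, ?_⟩
      rw [inv_eq_of_mul_eq_one_right (hinvol a ha)]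
      have : a * t * x = (a * x⁻¹) * t := by
        rw [← hinv x hx, ← mul_assoc, ← mul_assoc, mul_assoc _ t t, htt, mul_one]
      rw [this]
      exact hconjA _ (mul_mem ha (inv_mem hx))
  -- count pairs in two ways
  set c := Nat.card (Subgroup.centralizer ({t} : Set G)) with hcdef
  set T := (Finset.univ : Finset (G × G)).filter fun q =>
    (q.1 * t * q.1⁻¹) * (q.2 * t * q.2⁻¹) = x with hT
  have hcx : Nat.card (Subgroup.centralizer ({x} : Set G)) = Nat.card A := by rw [hA x hx hx1]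
  have h1 : T.card = (Finset.univ.filter fun s : G => IsConj (t * (s * t * s⁻¹)) x).card * Nat.card A := by
    have e1 : T.card = ∑ s : G, (Finset.univ.filter fun g : G => g * (t * (s * t * s⁻¹)) * g⁻¹ = x).card := by
      rw [← Finset.card_sigma]
      refine Finset.card_bij' (fun q _ => ⟨q.1⁻¹ * q.2, q.1⟩) (fun q _ => (q.2, q.2 * q.1))
        (fun q hq => ?_) (fun q hq => ?_) (fun q _ => by simp) (fun q _ => by simp)
      · refine Finset.mem_sigma.2 ⟨Finset.mem_univ _, Finset.mem_filter.2 ⟨Finset.mem_univ _, ?_⟩⟩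
        rw [← (Finset.mem_filter.1 hq).2]; group
      · refine Finset.mem_filter.2 ⟨Finset.mem_univ _, ?_⟩
        rw [← (Finset.mem_filter.1 (Finset.mem_sigma.1 hq).2).2]; group
    rw [e1, Finset.sum_congr rfl fun s _ => card_conj_filter _ _, ← Finset.sum_filter,
      Finset.card_eq_sum_ones, Finset.sum_mul]
    refine Finset.sum_congr rfl fun s hs => ?_
    rw [one_mul, ← hcx]
    obtain ⟨g, hg⟩ := isConj_iff.1 (Finset.mem_filter.1 hs).2
    rw [← hg]
    exact (card_centralizer_conj g _).symm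
  have h2 : T.card = c ^ 2 * Nat.card A := by
    have e2 : T.card = ∑ g : G, (Finset.univ.filter fun h : G => h * t * h⁻¹ = (g * t * g⁻¹)⁻¹ * x).card := by
      rw [← Finset.card_sigma]
      refine Finset.card_bij' (fun q _ => ⟨q.1, q.2⟩) (fun q _ => (q.1, q.2))
        (fun q hq => ?_) (fun q hq => ?_) (fun q _ => rfl) (fun q _ => rfl)
      · refine Finset.mem_sigma.2 ⟨Finset.mem_univ _, Finset.mem_filter.2 ⟨Finset.mem_univ _, ?_⟩⟩
        exact eq_inv_mul_of_mul_eq (Finset.mem_filter.1 hq).2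
      · refine Finset.mem_filter.2 ⟨Finset.mem_univ _, ?_⟩
        exact mul_eq_of_eq_inv_mul (Finset.mem_filter.1 (Finset.mem_sigma.1 hq).2).2
    rw [e2, Finset.sum_congr rfl fun g _ => card_conj_filter _ _, ← Finset.sum_filter,
      Finset.sum_const, ← hcdef, smul_eq_mul]
    have hfil : (Finset.univ.filter fun g : G => IsConj t ((g * t * g⁻¹)⁻¹ * x)) =
        Finset.univ.filter fun g : G => g * t * g⁻¹ ∈
          (Finset.univ.filter fun u : G => ∃ a ∈ A, u = a * t) := by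
      refine Finset.filter_congr fun g _ => ?_
      simp only [Finset.mem_filter, Finset.mem_univ, true_and, ← hU]
      exact ⟨fun h => ⟨isConj_iff.2 ⟨g, rfl⟩, h⟩, And.right⟩
    rw [hfil]
    rw [Finset.card_eq_sum_card_fiberwise
      (s := Finset.univ.filter fun g : G => g * t * g⁻¹ ∈
          (Finset.univ.filter fun u : G => ∃ a ∈ A, u = a * t))
      (f := fun g : G => g * t * g⁻¹) (t := Finset.univ.filter fun u : G => ∃ a ∈ A, u = a * t)
      (fun g hg => (Finset.mem_filter.1 hg).2), Finset.sum_congr rfl fun u hu => ?_,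
      Finset.sum_const, smul_eq_mul (a := (Finset.univ.filter fun u : G => ∃ a ∈ A, u = a * t).card)
      (b := c)]
    · have hcardU : (Finset.univ.filter fun u : G => ∃ a ∈ A, u = a * t).card = Nat.card A := by
        rw [Nat.card_eq_fintype_card, ← Finset.card_univ]
        exact (Finset.card_bij (fun (a : A) _ => (a : G) * t)
          (fun a _ => Finset.mem_filter.2 ⟨Finset.mem_univ _, a, a.2, rfl⟩)
          (fun a _ b _ h => Subtype.ext (mul_right_cancel h))
          (fun u hu => by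
            obtain ⟨a, ha, rfl⟩ := (Finset.mem_filter.1 hu).2
            exact ⟨⟨a, ha⟩, Finset.mem_univ _, rfl⟩)).symm
      rw [hcardU]; ring
    · rw [Finset.filter_filter, Finset.filter_congr (q := fun g : G => g * t * g⁻¹ = u) fun g _ =>
        and_iff_right_of_imp fun h => h ▸ hu, card_conj_filter,
        if_pos ((hU u).2 (Finset.mem_filter.1 hu).2).1]
  exact Nat.eq_of_mul_eq_mul_right Nat.card_pos (h1.symm.trans h2)

set_option maxHeartbeats 1000000 in
include hA in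
/-- Degree data and the class-multiplication identity for `|N(A) : A| = 2`. -/
theorem exc_two_numeric (hG : ¬ IsMulCommutative G) {w : ℕ}
    (hcN : Nat.card (Subgroup.normalizer (A : Set G)) = 2 * Nat.card A)
    (hwe : w * 2 + 1 = Nat.card A) (hw : 2 ≤ w) :
    ∃ (s : ℤ) (D d c : ℕ) (q : ℤ), (s = 1 ∨ s = -1) ∧ D ∣ Nat.card G ∧ d ∣ Nat.card G ∧ 1 < d ∧
      (∃ k : ℕ, 0 < k ∧ (D : ℤ) = s + Nat.card A * k) ∧ (d : ℤ) = D + s ∧
      1 + D ^ 2 + w * d ^ 2 ≤ Nat.card G ∧ 0 < c ∧ c ∣ Nat.card G ∧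
      (Nat.card A * c ^ 2 * (D * d) : ℤ) = Nat.card G * q ^ 2 := by
  classical
  have := Fintype.ofFinite (Cfsg.IrrCharacter G)
  obtain ⟨ε, α, d, θ, S, a, D, hd, hd1, hdG, hS, hout, hnorm, hdeg, hsq⟩ :=
    exists_excData_simple A hA hG hcN hwe hw
  set cc : ℤ := w * α - ε with hcc
  have hε : ε = 1 ∨ ε = -1 := hd.sign
  have hε2 : ε ^ 2 = 1 := by rcases hε with h | h <;> simp [h]
  have h1 : ∀ φ ∈ S, 1 ≤ a φ ^ 2 := fun φ hφ =>
    one_le_sq_iff_one_le_abs _ |>.2 (Int.one_le_abs (hS φ hφ).2.2.2.2.2.1)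
  have hS0 : 0 ≤ ∑ φ ∈ S, a φ ^ 2 := Finset.sum_nonneg fun _ _ => sq_nonneg _
  -- the exceptional coefficient is a sign and there is exactly one other constituent
  obtain ⟨hc1, hsum⟩ : (cc = 1 ∨ cc = -1) ∧ ∑ φ ∈ S, a φ ^ 2 = 1 := by
    by_cases hα : α = 0
    · subst hα
      refine ⟨by rcases hε with h | h <;> simp [hcc, h], ?_⟩
      push_cast at hnorm; nlinarith
    have hαsq : 1 ≤ α ^ 2 := one_le_sq_iff_one_le_abs _ |>.2 (Int.one_le_abs hα)
    have hw' : (2 : ℤ) ≤ w := by exact_mod_cast hw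
    push_cast at hnorm
    have hw3 : (w : ℤ) ≤ 3 := by nlinarith [sq_nonneg (α - ε)]
    have hαε : α = ε := by
      rcases hε with h | h <;> rw [h] at hnorm ⊢ <;>
      · have : α ≤ 2 := by nlinarith
        have : -2 ≤ α := by nlinarith
        interval_cases α <;> nlinarith
    have hw2 : (w : ℤ) = 2 := by
      by_contra hne
      have hw3' : (w : ℤ) = 3 := by omega
      rw [hαε, hw3', hε2, sub_self] at hnorm
      have hSe : S = ∅ := by
        by_contra hne'
        obtain ⟨φ, hφ⟩ := Finset.nonempty_iff_ne_empty.2 hne'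
        have := Finset.single_le_sum (fun φ _ => sq_nonneg (a φ)) hφ
        have := h1 φ hφ
        linarith
      have hcc3 : cc = 2 * ε := by rw [hcc, hw3', hαε]; ring
      rw [hSe, Finset.sum_empty, hcc3] at hdeg
      rcases hε with h | h <;> rw [h] at hdeg <;> omega
    refine ⟨by rw [hcc, hw2, hαε]; rcases hε with h | h <;> simp [h], ?_⟩
    rw [hw2, hαε, sub_self, hε2] at hnorm
    linarith
  have hcard : S.card = 1 := by
    have hne : S.Nonempty := by
      rw [Finset.nonempty_iff_ne_empty]; rintro rfl; simp at hsum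
    have : (S.card : ℤ) ≤ 1 := by simpa [hsum] using Finset.sum_le_sum h1
    have := hne.card_pos
    omega
  obtain ⟨φ, rfl⟩ := Finset.card_eq_one.1 hcard
  rw [Finset.sum_singleton] at hsum hdeg hsq
  obtain ⟨hφ1, hD1, hDG, hφθ, hφone, hφa, hφx, k, hk0, hk⟩ := hS φ (Finset.mem_singleton_self φ)
  set s := a φ
  have hs : s = 1 ∨ s = -1 := Int.eq_one_or_neg_one_of_mul_eq_one (by rw [← pow_two]; exact hsum)
  have hm5 : 5 ≤ Nat.card A := by omega
  have hDbig : 4 ≤ D φ := by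
    have : (Nat.card A : ℤ) ≤ Nat.card A * k := le_mul_of_one_le_right (by positivity) (by exact_mod_cast hk0)
    omega
  have hdD : (d : ℤ) = D φ + s := by
    rcases hs with h | h <;> rcases hc1 with h' | h' <;> rw [h, h'] at hdeg <;> rw [h] <;> omega
  -- an involution inverting `A`
  have hAodd : Odd (Nat.card A) := ⟨w, by omega⟩
  obtain ⟨t', ht'⟩ := exists_prime_orderOf_dvd_card' (G := Subgroup.normalizer (A : Set G)) 2
    (by rw [hcN]; exact dvd_mul_right 2 _)
  have ht : orderOf (t' : G) = 2 := by rw [Subgroup.orderOf_coe]; exact ht'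
  set t : G := (t' : G)
  obtain ⟨x, hx, hx1⟩ : ∃ x ∈ A, x ≠ 1 := by
    have : Nontrivial A := Finite.one_lt_card_iff_nontrivial.1 (by omega)
    obtain ⟨y, hy⟩ := exists_ne (1 : A)
    exact ⟨y, y.2, fun h => hy (Subtype.ext h)⟩
  have hcount := card_prod_conj A hA hAodd hcN ht t'.2 hx hx1
  set c := Nat.card (Subgroup.centralizer ({t} : Set G))
  have htt : t * t = 1 := by rw [← pow_two]; exact ht ▸ pow_orderOf_eq_one t
  obtain ⟨at', hat⟩ := exists_int_char_involution (irr_isCharacter φ.2) htt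
  let j0 : Fin w := ⟨0, by omega⟩
  have hb : ∀ j, (θ j : G → ℂ) t = (θ j0 : G → ℂ) t := fun j => hd.off j j0 t fun y hy => by
    have h2 := orderOf_dvd_natCard (⟨y⁻¹ * t * y, hy⟩ : A)
    rw [Subgroup.orderOf_mk, show orderOf (y⁻¹ * t * y) = 2 by
      rw [← ht]; simpa using orderOf_injective (MulAut.conj y⁻¹).toMonoidHom
        (MulAut.conj y⁻¹).injective t] at h2
    exact absurd (even_iff_two_dvd.2 h2) (Nat.not_even_iff_odd.2 hAodd)
  set b := (θ j0 : G → ℂ) t
  -- split sums over the irreducible characters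
  let one : Cfsg.IrrCharacter G := ⟨fun _ => 1, isIrrCharacter_one⟩
  have hexpand : ∀ f : Cfsg.IrrCharacter G → ℂ,
      ∑ χ, f χ * conj ((χ : G → ℂ) x) = f one + f φ * s + ∑ j, f (θ j) * conj ((θ j : G → ℂ) x) := by
    intro f
    have hnot : one ∉ insert φ (Finset.univ.image θ) := by
      rw [Finset.mem_insert]
      rintro (h | h)
      · exact hφone (congrArg Subtype.val h).symm
      · obtain ⟨j, -, hj⟩ := Finset.mem_image.1 h
        exact hd.ne_one j (congrArg Subtype.val hj)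
    have hnot' : φ ∉ Finset.univ.image θ := fun h => by
      obtain ⟨j, -, hj⟩ := Finset.mem_image.1 h
      exact hφθ j hj.symm
    rw [← Finset.sum_subset (Finset.subset_univ (insert one (insert φ (Finset.univ.image θ))))
      fun χ _ hχ => ?_, Finset.sum_insert hnot, Finset.sum_insert hnot',
      Finset.sum_image fun i _ j _ h => hd.inj h, hφx x hx hx1]
    · simp [one, add_assoc, s]
    · simp only [Finset.mem_insert, Finset.mem_image, Finset.mem_univ, true_and, not_or,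
        not_exists] at hχ
      rw [hout χ (by simpa using hχ.2.1) (fun j h => hχ.2.2 j h.symm)
        (fun h => hχ.1 (Subtype.ext h)) x hx hx1, map_zero, mul_zero]
  have hθx : ∑ j, conj ((θ j : G → ℂ) x) = (cc : ℂ) := by
    rw [← map_sum, hd.val_sum x hx hx1, map_intCast]
  have hrel : 1 + (at' : ℂ) * s + b * cc = 0 := by
    have h := column_orthogonality t x
    rw [if_neg (fun hc => by
      have h2 := orderOf_dvd_natCard (⟨x, hx⟩ : A)
      rw [Subgroup.orderOf_mk] at h2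
      have hox : orderOf x = 2 := by
        obtain ⟨g, hg⟩ := isConj_iff.1 hc
        rw [← hg, ← ht]
        exact orderOf_injective (MulAut.conj g).toMonoidHom (MulAut.conj g).injective t
      rw [hox] at h2
      exact absurd (even_iff_two_dvd.2 h2) (Nat.not_even_iff_odd.2 hAodd))] at h
    rw [hexpand fun χ => (χ : G → ℂ) t, hat, Finset.sum_congr rfl fun j _ => by rw [hb j],
      ← Finset.mul_sum, hθx] at h
    exact h
  have hclass : (Nat.card A : ℂ) * ((c : ℂ) ^ 2) =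
      (Nat.card G : ℂ) * (1 + (at' : ℂ) ^ 2 / (D φ) * s + b ^ 2 / d * cc) := by
    have hsumS : ∑ u : G, ∑ χ : Cfsg.IrrCharacter G,
        (χ : G → ℂ) (t * (u * t * u⁻¹)) * conj ((χ : G → ℂ) x) = (Nat.card A : ℂ) * (c : ℂ) ^ 2 := by
      rw [Finset.sum_congr rfl fun u _ => column_orthogonality _ _, ← Finset.sum_filter]
      rw [show (Nat.card A : ℂ) * (c : ℂ) ^ 2 = ((c ^ 2 * Nat.card A : ℕ) : ℂ) by push_cast; ring,
        ← hcount, Finset.card_eq_sum_ones, Finset.sum_mul, Nat.cast_sum]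
      refine Finset.sum_congr rfl fun u hu => ?_
      obtain ⟨g, hg⟩ := isConj_iff.1 (Finset.mem_filter.1 hu).2
      rw [one_mul, ← hA x hx hx1, ← hg, card_centralizer_conj]
    rw [← hsumS, Finset.sum_comm]
    rw [Finset.sum_congr rfl fun χ _ => by
      rw [← Finset.sum_mul, BlockB.sum_irr_mul_conj χ t t]]
    rw [hexpand fun χ => (Nat.card G : ℂ) * (χ : G → ℂ) t * (χ : G → ℂ) t / (χ : G → ℂ) 1]
    simp only [hat, hφ1, hd.deg, hb, ← Finset.mul_sum, hθx, one]
    ring
  refine ⟨s, D φ, d, c, (D φ : ℤ) - at', hs, hDG, hdG, hd1, ⟨k, hk0, hk⟩, hdD, by omega,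
    Nat.card_pos, Subgroup.card_subgroup_dvd_card _, ?_⟩
  have hDne : (D φ : ℂ) ≠ 0 := Nat.cast_ne_zero.2 (by omega)
  have hdne : (d : ℂ) ≠ 0 := Nat.cast_ne_zero.2 (by omega)
  have hdd : (1 : ℂ) + s * D φ + cc * d = 0 := by
    have : (1 : ℤ) + s * D φ + cc * d = 0 := hdeg
    exact_mod_cast this
  have hs2 : (s : ℂ) * s = 1 := by rcases hs with h | h <;> simp [h]
  have hc2 : (cc : ℂ) * cc = 1 := by rcases hc1 with h | h <;> simp [h]
  have hkey : (Nat.card A : ℂ) * (c : ℂ) ^ 2 * ((D φ : ℂ) * d) * (-cc) =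
      (Nat.card G : ℂ) * ((D φ : ℂ) - at') ^ 2 * s := by
    have e : (Nat.card A : ℂ) * (c : ℂ) ^ 2 * ((D φ : ℂ) * d) = (Nat.card G : ℂ) *
        ((D φ : ℂ) * d + (at' : ℂ) ^ 2 * s * d + b ^ 2 * cc * D φ) := by
      rw [hclass]; field_simp
    linear_combination (-(cc : ℂ)) * e
      - (Nat.card G : ℂ) * ((D φ : ℂ) + (at' : ℂ) ^ 2 * s) * hdd
      - (Nat.card G : ℂ) * (D φ : ℂ) * ((cc : ℂ) * b - 1 - (at' : ℂ) * s) * hrel
      + (Nat.card G : ℂ) * (D φ : ℂ) * (at' : ℂ) ^ 2 * 0 * hs2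
  have hsc : (-cc : ℤ) * s = 1 := by
    rcases hs with h | h <;> rcases hc1 with h' | h' <;> rw [h, h'] at hdeg ⊢ <;> omega
  have hkey' : (Nat.card A * c ^ 2 * (D φ * d) : ℤ) * (-cc) =
      (Nat.card G * ((D φ : ℤ) - at') ^ 2) * s := by exact_mod_cast hkey
  have hcz : cc * cc = 1 := by rcases hc1 with h | h <;> simp [h]
  linear_combination (-cc) * hkey' + (-(Nat.card A : ℤ) * c ^ 2 * (D φ * d)) * hcz +
    ((Nat.card G : ℤ) * ((D φ : ℤ) - at') ^ 2) * hsc

end Simple

end CfsgLib.Transfer
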