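import Mathlib.GroupTheory.SpecificGroups.Quaternion
import Mathlib.LinearAlgebra.Matrix.SpecialLinearGroup
import Mathlib.LinearAlgebra.Matrix.Notation
import Mathlib.Data.ZMod.Basic
import Mathlib.Data.Fintype.Pi

/-!
# Automorphisms of odd order of `Q8` inside `SL(2,3)`
-/

namespace CfsgLib.Transfer.QSL

open QuaternionGroup

local notation "Q8" => QuaternionGroup 2
/-- The map on `Q8` determined by the images of `a 1` and `xa 0`. -/
def qM (u v : Q8) : Q8 → Q8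
  | .a i => u ^ i.val
  | .xa i => v * u ^ i.val
set_option maxRecDepth 4000 in
theorem qM_aut : ∀ u v : Q8, (∀ x y : Q8, qM u v (x * y) = qM u v x * qM u v y) → Function.Injective (qM u v) →
    qM u v ∘ qM u v ∘ qM u v ∘ qM u v = id ∨
    (qM u v ∘ qM u v ∘ qM u v = id ∧ Function.Injective (qM (a 1) u) ∧
      (∀ x y : Q8, qM (a 1) u (x * y) = qM (a 1) u x * qM (a 1) u y) ∧
      (qM u v u = a 1 * u ∨ qM u v u = u * a 1)) := by decide
abbrev SL23 := Matrix.SpecialLinearGroup (Fin 2) (ZMod 3)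
def sX : SL23 := ⟨!![0, 1; 2, 0], by decide⟩
def sY1 : SL23 := ⟨!![1, 1; 1, 2], by decide⟩
def sY2 : SL23 := ⟨!![2, 1; 1, 1], by decide⟩
def sG1 : SL23 := ⟨!![0, 1; 2, 2], by decide⟩
def sG2 : SL23 := ⟨!![0, 2; 1, 2], by decide⟩
def qI (X Y : SL23) : Q8 → SL23
  | .a i => X ^ i.val
  | .xa i => Y * X ^ i.val
theorem qI_mul1 : ∀ x y : Q8, qI sX sY1 (x * y) = qI sX sY1 x * qI sX sY1 y := by decide
theorem qI_inj1 : Function.Injective (qI sX sY1) := by decide
theorem qI_mul2 : ∀ x y : Q8, qI sX sY2 (x * y) = qI sX sY2 x * qI sX sY2 y := by decide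
theorem qI_inj2 : Function.Injective (qI sX sY2) := by decide
theorem qI_g1 : orderOf sG1 = 3 ∧ sG1 * sX * sG1⁻¹ = sY1 ∧ sG1 * sY1 * sG1⁻¹ = sX * sY1 := by
  refine ⟨orderOf_eq_prime (by decide) (by decide), by decide, by decide⟩
theorem qI_g2 : orderOf sG2 = 3 ∧ sG2 * sX * sG2⁻¹ = sY2 ∧ sG2 * sY2 * sG2⁻¹ = sY2 * sX := by
  refine ⟨orderOf_eq_prime (by decide) (by decide), by decide, by decide⟩

theorem qM_eq_of_hom {M : Type*} [Monoid M] (f : Q8 →* M) (x : Q8) :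
    f x = match x with
      | .a i => f (a 1) ^ i.val
      | .xa i => f (xa 0) * f (a 1) ^ i.val := by
  rcases x with i | i
  · show f (a i) = f (a 1) ^ i.val
    rw [← map_pow, a_one_pow]; congr 2; exact (ZMod.natCast_zmod_val i).symm
  · show f (xa i) = f (xa 0) * f (a 1) ^ i.val
    rw [← map_pow, ← map_mul, a_one_pow, xa_mul_a, zero_add]
    congr 2; exact (ZMod.natCast_zmod_val i).symm

/-- An automorphism of odd order of `Q8` is realized inside `SL(2,3)` by conjugation. -/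
theorem exists_sl23_realization (φ : MulAut Q8) (hne : φ ≠ 1) {r : ℕ} (hr : Odd r) (hφ : φ ^ r = 1) :
    ∃ (ι : Q8 →* SL23) (s : SL23), Function.Injective ι ∧ orderOf s = 3 ∧ orderOf φ = 3 ∧
      ∀ x, ι (φ x) = s * ι x * s⁻¹ := by
  have hq : ∀ ψ : MulAut Q8, qM (ψ (a 1)) (ψ (xa 0)) = ψ := fun ψ => by
    funext x
    rw [show (ψ x) = (ψ.toMonoidHom : Q8 →* Q8) x from rfl, qM_eq_of_hom]
    rcases x with i | i <;> rfl
  obtain ⟨u, v, hu, hv⟩ : ∃ u v, u = φ (a 1) ∧ v = φ (xa 0) := ⟨_, _, rfl, rfl⟩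
  have hm : qM u v = φ := by rw [hu, hv]; exact hq φ
  have hφo : orderOf φ ∣ r := orderOf_dvd_of_pow_eq_one hφ
  rcases qM_aut u v (by rw [hm]; exact fun x y => map_mul φ x y) (by rw [hm]; exact φ.injective) with
    h | ⟨h, hinj, hmul, hcase⟩
  · exfalso
    refine hne (orderOf_eq_one_iff.1 (Nat.eq_one_of_dvd_coprimes (?_ : Nat.Coprime r 4) hφo ?_))
    · rw [show (4 : ℕ) = 2 ^ 2 from rfl]
      exact (Nat.coprime_two_right.2 hr).pow_right 2
    · refine orderOf_dvd_of_pow_eq_one (MulEquiv.ext fun x => ?_)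
      rw [hm] at h
      exact congrFun h x
  have h3 : orderOf φ = 3 := by
    refine orderOf_eq_prime (MulEquiv.ext fun x => ?_) hne
    rw [hm] at h
    exact congrFun h x
  have hbij : Function.Bijective (qM (a 1) u) := hinj.bijective_of_finite
  let N : MulAut Q8 := MulEquiv.ofBijective (MonoidHom.mk' (qM (a 1) u) hmul) hbij
  have hN1 : N (a 1) = a 1 := show qM (a 1) u (a 1) = a 1 from pow_one (a 1)
  have hN2 : N (xa 0) = u := show qM (a 1) u (xa 0) = u from by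
    show u * a 1 ^ (0 : ZMod 4).val = u
    simp
  rw [hm] at hcase
  obtain ⟨Y, w, s, hmulI, hinjI, ⟨hs3, hsX, hsY⟩, hw⟩ : ∃ (Y w : SL23) (s : SL23),
      (∀ x y : Q8, qI sX Y (x * y) = qI sX Y x * qI sX Y y) ∧ Function.Injective (qI sX Y) ∧
      (orderOf s = 3 ∧ s * sX * s⁻¹ = Y ∧ s * Y * s⁻¹ = w) ∧
      ((φ u = a 1 * u ∧ w = sX * Y) ∨ (φ u = u * a 1 ∧ w = Y * sX)) := by
    rcases hcase with h1 | h1
    · exact ⟨_, _, _, qI_mul1, qI_inj1, qI_g1, Or.inl ⟨h1, rfl⟩⟩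
    · exact ⟨_, _, _, qI_mul2, qI_inj2, qI_g2, Or.inr ⟨h1, rfl⟩⟩
  let I : Q8 →* SL23 := MonoidHom.mk' (qI sX Y) hmulI
  have hI1 : I (a 1) = sX := show qI sX Y (a 1) = sX from pow_one sX
  have hI2 : I (xa 0) = Y := show Y * sX ^ (0 : ZMod 4).val = Y from by simp
  refine ⟨I.comp N.symm.toMonoidHom, s, hinjI.comp N.symm.injective, hs3, h3, ?_⟩
  have ev : ∀ x, I (N.symm (φ (N x))) = s * I x * s⁻¹ := by
    intro x
    have e : (I.comp (N.symm.toMonoidHom.comp (φ.toMonoidHom.comp N.toMonoidHom))) =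
        ((MulAut.conj s).toMonoidHom.comp I) := by
      have ga : (I.comp (N.symm.toMonoidHom.comp (φ.toMonoidHom.comp N.toMonoidHom))) (a 1) =
          ((MulAut.conj s).toMonoidHom.comp I) (a 1) := by
        show I (N.symm (φ (N (a 1)))) = s * I (a 1) * s⁻¹
        rw [hN1, ← hu, ← hN2, N.symm_apply_apply, hI1, hI2, hsX]
      have gx : (I.comp (N.symm.toMonoidHom.comp (φ.toMonoidHom.comp N.toMonoidHom))) (xa 0) =
          ((MulAut.conj s).toMonoidHom.comp I) (xa 0) := by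
        show I (N.symm (φ (N (xa 0)))) = s * I (xa 0) * s⁻¹
        rw [hN2, hI2, hsY]
        rcases hw with ⟨h1, rfl⟩ | ⟨h1, rfl⟩ <;>
          rw [h1, map_mul, ← hN2, N.symm_apply_apply, ← hN1, N.symm_apply_apply, map_mul, hI1, hI2]
      refine MonoidHom.ext fun x => ?_
      rw [qM_eq_of_hom _ x, qM_eq_of_hom ((MulAut.conj s).toMonoidHom.comp I) x]
      rcases x with i | i <;> simp only [ga, gx]
    exact DFunLike.congr_fun e x
  intro x
  have := ev (N.symm x)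
  rwa [N.apply_symm_apply] at this

end CfsgLib.Transfer.QSL
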