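import Cfsg.Agent.Lib.Transfer.SimpleCount
import Mathlib.GroupTheory.SpecificGroups.Cyclic

/-!
# Sylow subgroups of prime order
-/

namespace CfsgLib.Transfer

open Subgroup

variable {G : Type*} [Group G] [Finite G] {p : ℕ} [Fact p.Prime]

/-- A Sylow subgroup for a prime dividing the order exactly once has order `p`. -/
theorem card_sylow_eq_prime (P : Sylow p G) (h1 : p ∣ Nat.card G) (h2 : ¬ p ^ 2 ∣ Nat.card G) :
    Nat.card (P : Subgroup G) = p := by
  have hp := (Fact.out : p.Prime)
  rw [P.card_eq_multiplicity]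
  have a := (hp.dvd_iff_one_le_factorization Nat.card_pos.ne').1 h1
  have b : ¬ 2 ≤ (Nat.card G).factorization p := fun h =>
    h2 ((hp.pow_dvd_iff_le_factorization Nat.card_pos.ne').2 h)
  rw [show (Nat.card G).factorization p = 1 by omega, pow_one]

/-- `|N(P)| = e |C(P)|` with `e ∣ p - 1` for `P` of order `p`. -/
theorem normalizer_centralizer_index (P : Subgroup G) (hP : Nat.card P = p) :
    ∃ e : ℕ, e ∣ p - 1 ∧ p ∣ Nat.card (centralizer (P : Set G)) ∧
      Nat.card (normalizer (P : Set G)) = e * Nat.card (centralizer (P : Set G)) := by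
  have hp := (Fact.out : p.Prime)
  have := isCyclic_of_prime_card hP
  refine ⟨P.normalizerMonoidHom.ker.index, ?_, ?_, ?_⟩
  · rw [index_ker]
    have h := card_subgroup_dvd_card P.normalizerMonoidHom.range
    rwa [IsCyclic.card_mulAut, hP, Nat.totient_prime hp] at h
  · conv_lhs => rw [← hP]
    refine card_dvd_of_le fun x hx => mem_centralizer_iff.2 fun y hy => ?_
    exact congrArg Subtype.val ((IsCyclic.commGroup (α := P)).mul_comm ⟨y, hy⟩ ⟨x, hx⟩)
  · have hc : Nat.card P.normalizerMonoidHom.ker = Nat.card (centralizer (P : Set G)) := by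
      rw [normalizerMonoidHom_ker]
      refine Nat.card_congr (subgroupOfEquivOfLe fun x hx => ?_).toEquiv
      refine mem_normalizer_fintype fun y hy => ?_
      rw [← mem_centralizer_iff.1 hx y hy, mul_inv_cancel_right]
      exact hy
    rw [← hc, index_mul_card]

/-- A subgroup of prime order equal to its centralizer is the centralizer of each nontrivial
element. -/
theorem centralizer_singleton_eq (P : Subgroup G) (hP : Nat.card P = p)
    (hC : Nat.card (centralizer (P : Set G)) = p) :
    ∀ x ∈ P, x ≠ 1 → centralizer ({x} : Set G) = P := by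
  have hp := (Fact.out : p.Prime)
  have := isCyclic_of_prime_card hP
  have hPC : P = centralizer (P : Set G) := eq_of_le_of_card_ge
    (fun x hx => mem_centralizer_iff.2 fun y hy =>
      congrArg Subtype.val ((IsCyclic.commGroup (α := P)).mul_comm ⟨y, hy⟩ ⟨x, hx⟩))
    (le_of_eq (hC.trans hP.symm))
  intro x hx hx1
  have hz : zpowers x = P := by
    refine eq_of_le_of_card_ge (zpowers_le.2 hx) ?_
    rw [hP, Nat.card_zpowers]
    rcases (Nat.dvd_prime hp).1 ((Subgroup.orderOf_dvd_natCard _ hx).trans hP.dvd) with h | h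
    · exact absurd (orderOf_eq_one_iff.1 h) hx1
    · exact h.ge
  conv_rhs => rw [hPC, ← hz, zpowers_eq_closure, centralizer_closure]

/-- Sylow data for a prime dividing the order of a simple group exactly once. -/
theorem prime_sylow_data [IsSimpleGroup G] (hG : ¬ IsMulCommutative G) (h1 : p ∣ Nat.card G)
    (h2 : ¬ p ^ 2 ∣ Nat.card G) :
    ∃ (P : Sylow p G) (n e C : ℕ), Nat.card (P : Subgroup G) = p ∧ n = Nat.card (Sylow p G) ∧
      1 < n ∧ n % p = 1 ∧ 2 * Nat.card G ∣ n.factorial ∧
      C = Nat.card (centralizer ((P : Subgroup G) : Set G)) ∧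
      Nat.card (normalizer ((P : Subgroup G) : Set G)) = e * C ∧
      p ∣ C ∧ e ∣ p - 1 ∧ 1 < e ∧ n * (e * C) = Nat.card G ∧ n * C ∣ Nat.card G ∧
      (n = p + 1 → 2 * (e * C) ∣ p * (p - 1) ∨ p = 2) := by
  obtain ⟨P⟩ := (inferInstance : Nonempty (Sylow p G))
  have hP := card_sylow_eq_prime P h1 h2
  obtain ⟨e, he, hpC, hN⟩ := normalizer_centralizer_index (P : Subgroup G) hP
  obtain ⟨hn1, hn2, -, hn4⟩ := sylow_count_of_simple (p := p) hG h1
  have hcard : Nat.card (Sylow p G) * (e * Nat.card (centralizer ((P : Subgroup G) : Set G))) =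
      Nat.card G := by
    rw [← hN, P.card_eq_index_normalizer]; exact index_mul_card _
  refine ⟨P, _, e, _, hP, rfl, hn1, hn2, hn4, rfl, hN, hpC, he, ?_, hcard,
    ⟨e, by rw [← hcard]; ring⟩, fun hn => ?_⟩
  · by_contra hle
    push Not at hle
    refine not_normalizer_le_centralizer hG h1 P (le_of_eq ?_)
    have hCN : centralizer ((P : Subgroup G) : Set G) ≤ normalizer ((P : Subgroup G) : Set G) :=
      fun x hx => mem_normalizer_fintype fun y hy => by
        rw [← mem_centralizer_iff.1 hx y hy, mul_inv_cancel_right]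
        exact hy
    refine (eq_of_le_of_card_ge hCN ?_).symm
    rw [hN]
    exact mul_le_of_le_one_left (Nat.zero_le _) hle
  · by_cases hp2 : p = 2
    · exact Or.inr hp2
    · exact Or.inl (hN ▸ two_mul_card_normalizer_dvd hG hp2 P hP hn)

end CfsgLib.Transfer
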