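import Cfsg.Agent.Lib.Transfer.SimpleCount
import Cfsg.Agent.Lib.Transfer.PrimeSylow
import Cfsg.Agent.Lib.Solvable.Nilpotent
import Mathlib.GroupTheory.Perm.Centralizer

/-!
# Elements centralizing two Sylow subgroups of prime order
-/

namespace CfsgLib.Transfer

open Subgroup
open scoped Nat Pointwise

variable {G : Type*} [Group G] [Finite G] {p : ℕ} [Fact p.Prime]

/-- In a non-abelian simple group with a proper subgroup of index less than `2 p`, the
centralizer of an element of order `p` is small. -/
theorem card_centralizer_dvd_of_small_index [IsSimpleGroup G] (hG : ¬ IsMulCommutative G)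
    {H : Subgroup G} (hH : H ≠ ⊤) (hlt : H.index < 2 * p) {x : G} (hx : orderOf x = p) :
    Nat.card (centralizer ({x} : Set G)) ∣ p * (H.index - p)! := by
  classical
  obtain ⟨f, hf⟩ := exists_embedding_alternating hG hH
  set F := (alternatingGroup (Fin H.index)).subtype.comp f
  have hF : Function.Injective F := (Subtype.val_injective).comp hf
  have ho : orderOf (F x) = p := by rw [orderOf_injective F hF, hx]
  have hcyc : (F x).IsCycle := Equiv.Perm.isCycle_of_prime_order'
    (by rw [ho]; exact Fact.out) (by rw [ho, Fintype.card_fin]; exact hlt)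
  have hct : (F x).cycleType = {p} := by rw [hcyc.cycleType, ← hcyc.orderOf, ho]
  have hle : (centralizer ({x} : Set G)).map F ≤ centralizer ({F x} : Set _) := by
    rintro _ ⟨c, hc, rfl⟩
    rw [mem_centralizer_singleton_iff, ← map_mul, ← map_mul, mem_centralizer_singleton_iff.1 hc]
  have h := card_dvd_of_le hle
  rw [card_map_of_injective hF, Equiv.Perm.nat_card_centralizer, hct, Fintype.card_fin] at h
  simpa [mul_comm] using h

omit [Fact p.Prime] in
/-- Sylow count inside a subgroup containing two Sylow subgroups and `C(P)`. -/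
theorem exists_count_in_subgroup [Fact p.Prime] (H : Subgroup G) {P Q : Sylow p G} (hne : Q ≠ P)
    (hP : (P : Subgroup G) ≤ H) (hQ : (Q : Subgroup G) ≤ H)
    (hC : centralizer ((P : Subgroup G) : Set G) ≤ H) :
    ∃ n : ℕ, 1 < n ∧ n % p = 1 ∧
      n * Nat.card (centralizer ((P : Subgroup G) : Set G)) ∣ Nat.card H ∧
      n = Nat.card (Sylow p H) := by
  refine ⟨Nat.card (Sylow p H), ?_, ?_, ?_, rfl⟩
  · have : Nontrivial (Sylow p H) := ⟨⟨Q.subtype hQ, P.subtype hP,
      fun h => hne (Sylow.subtype_injective h)⟩⟩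
    exact Finite.one_lt_card
  · have h := card_sylow_modEq_one p H
    rwa [Nat.ModEq, Nat.mod_eq_of_lt (Fact.out : p.Prime).one_lt] at h
  · rw [(P.subtype hP).card_eq_index_normalizer]
    have h := (normalizer (((P.subtype hP : Sylow p H) : Subgroup H) : Set H)).index_mul_card
    conv_rhs => rw [← h]
    refine Nat.mul_dvd_mul_left _ ?_
    rw [← Nat.card_congr (subgroupOfEquivOfLe hC).toEquiv]
    refine card_dvd_of_le fun c hc => mem_normalizer_fintype fun y hy => ?_
    change (c : G) * (y : G) * (c : G)⁻¹ ∈ (P : Subgroup G)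
    rw [← mem_centralizer_iff.1 (mem_subgroupOf.1 hc) (y : G) hy, mul_inv_cancel_right]
    exact hy

omit [Fact p.Prime] in
/-- `|N(Q)| = |Aut_G(Q)| |C(Q)|`. -/
theorem card_range_normalizerMonoidHom (Q : Subgroup G) :
    Nat.card Q.normalizerMonoidHom.range * Nat.card (centralizer (Q : Set G)) =
      Nat.card (normalizer (Q : Set G)) := by
  have hc : Nat.card Q.normalizerMonoidHom.ker = Nat.card (centralizer (Q : Set G)) := by
    rw [normalizerMonoidHom_ker]
    refine Nat.card_congr (subgroupOfEquivOfLe fun x hx => ?_).toEquiv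
    refine mem_normalizer_fintype fun y hy => ?_
    rw [← mem_centralizer_iff.1 hx y hy, mul_inv_cancel_right]
    exact hy
  rw [← hc, ← index_ker, index_mul_card]

/-- All Sylow subgroups have conjugate centralizers. -/
theorem card_centralizer_sylow (P Q : Sylow p G) :
    Nat.card (centralizer ((Q : Subgroup G) : Set G)) =
      Nat.card (centralizer ((P : Subgroup G) : Set G)) := by
  obtain ⟨g, rfl⟩ := MulAction.exists_smul_eq G P Q
  rw [← card_map_of_injective (K := centralizer ((P : Subgroup G) : Set G))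
    (f := (MulAut.conj g).toMonoidHom) (MulAut.conj g).injective]
  have he : centralizer (((g • P : Sylow p G) : Subgroup G) : Set G) =
      (centralizer ((P : Subgroup G) : Set G)).map (MulAut.conj g).toMonoidHom := by
    ext x
    simp only [mem_map_equiv, MulAut.conj_symm_apply, mem_centralizer_iff, SetLike.mem_coe,
      Sylow.coe_subgroup_smul, Subgroup.mem_pointwise_smul_iff_inv_smul_mem, ← map_inv,
      MulAut.smul_def, MulAut.conj_apply, inv_inv]
    constructor
    · intro h y hy
      have := h (g * y * g⁻¹) (by simpa [mul_assoc] using hy)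
      calc y * (g⁻¹ * x * g) = g⁻¹ * (g * y * g⁻¹ * x) * g := by group
        _ = _ := by rw [this]; group
    · intro h y hy
      have := h _ hy
      calc y * x = g * (g⁻¹ * y * g * (g⁻¹ * x * g)) * g⁻¹ := by group
        _ = _ := by rw [this]; group
  rw [he]

/-- A 2-subgroup of `C(P)` whose order does not divide `e` contains a non-identity element,
central in it, centralizing a second Sylow subgroup, when there is an even number of them. -/
theorem exists_common_centralizer (P : Sylow p G) (hP : Nat.card (P : Subgroup G) = p)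
    (hn : Even (Nat.card (Sylow p G))) (K : Subgroup G) (hK : IsPGroup 2 K)
    (hKC : K ≤ centralizer ((P : Subgroup G) : Set G)) {e : ℕ}
    (hN : Nat.card (normalizer ((P : Subgroup G) : Set G)) =
      e * Nat.card (centralizer ((P : Subgroup G) : Set G)))
    (hcard : ¬ Nat.card K ∣ e) :
    ∃ k ∈ K, k ≠ 1 ∧ (∀ c ∈ K, k * c = c * k) ∧
      ∃ Q : Sylow p G, Q ≠ P ∧ (Q : Subgroup G) ≤ centralizer ({k} : Set G) := by
  classical
  have : Fact (Nat.Prime 2) := ⟨Nat.prime_two⟩
  have hfixP : P ∈ MulAction.fixedPoints K (Sylow p G) := fun k => by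
    rw [Subgroup.smul_def, Sylow.smul_eq_iff_mem_normalizer]
    refine mem_normalizer_fintype fun y hy => ?_
    rw [← mem_centralizer_iff.1 (hKC k.2) y hy, mul_inv_cancel_right]
    exact hy
  obtain ⟨Q, hQ, hQP⟩ := hK.exists_fixed_point_of_prime_dvd_card_of_fixed_point (Sylow p G)
    (even_iff_two_dvd.1 hn) hfixP
  have hQn : ∀ k : K, (k : G) ∈ normalizer ((Q : Subgroup G) : Set G) := fun k => by
    exact Sylow.smul_eq_iff_mem_normalizer.1 (hQ k)
  let f : K →* MulAut (Q : Subgroup G) :=
    (Q : Subgroup G).normalizerMonoidHom.comp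
      (Subgroup.inclusion (fun k hk => hQn ⟨k, hk⟩ : K ≤ normalizer ((Q : Subgroup G) : Set G)))
  have hQc : Nat.card (Q : Subgroup G) = p := (Nat.card_congr (Q.equiv P).toEquiv).trans hP
  have hker : f.ker ≠ ⊥ := by
    intro h
    apply hcard
    have hr : Nat.card (Q : Subgroup G).normalizerMonoidHom.range = e := by
      have h1 := card_range_normalizerMonoidHom (Q : Subgroup G)
      have h2 : Nat.card (normalizer ((Q : Subgroup G) : Set G)) =
          Nat.card (normalizer ((P : Subgroup G) : Set G)) := by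
        refine Nat.eq_of_mul_eq_mul_left (Nat.card_pos (α := Sylow p G)) ?_
        conv_lhs => rw [Q.card_eq_index_normalizer]
        conv_rhs => rw [P.card_eq_index_normalizer]
        exact (index_mul_card _).trans (index_mul_card _).symm
      rw [h2, hN, card_centralizer_sylow P Q] at h1
      exact Nat.eq_of_mul_eq_mul_right Nat.card_pos h1
    rw [← hr]
    have h1 : Nat.card f.range = Nat.card K :=
      (Nat.card_congr (MonoidHom.ofInjective ((MonoidHom.ker_eq_bot_iff f).1 h)).toEquiv).symm
    rw [← h1]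
    exact card_dvd_of_le (fun x ⟨y, hy⟩ => ⟨_, hy⟩)
  have := hK.isNilpotent
  obtain ⟨k, hk⟩ := ne_bot_iff_exists_ne_one.1
    (CfsgLib.Solvable.normal_inf_center_ne_bot f.ker hker)
  refine ⟨((k : K) : G), (k : K).2, fun h => hk (Subtype.ext (Subtype.ext h)), fun c hc => ?_,
    Q, fun h => hQP h.symm, ?_⟩
  · exact (congrArg Subtype.val (mem_center_iff.1 k.2.2 ⟨c, hc⟩)).symm
  · intro y hy
    have hkk : (Subgroup.inclusion (fun k hk => hQn ⟨k, hk⟩ : K ≤ normalizer ((Q : Subgroup G) : Set G))
        (k : K)) ∈ (Q : Subgroup G).normalizerMonoidHom.ker := k.2.1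
    rw [normalizerMonoidHom_ker, mem_subgroupOf, mem_centralizer_iff] at hkk
    rw [mem_centralizer_singleton_iff]
    exact hkk y hy

end CfsgLib.Transfer

namespace CfsgLib.Transfer

open Subgroup

variable {G : Type*} [Group G] [Finite G] [IsSimpleGroup G]

omit [Finite G] in
/-- Centralizers of nontrivial elements of a non-abelian simple group are proper. -/
theorem centralizer_singleton_ne_top (hG : ¬ IsMulCommutative G) {k : G} (hk : k ≠ 1) :
    centralizer ({k} : Set G) ≠ ⊤ := by
  intro h
  have hkc : k ∈ center G := mem_center_iff.2 fun g =>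
    mem_centralizer_singleton_iff.1 (h.ge (mem_top g))
  rcases IsSimpleGroup.eq_bot_or_eq_top_of_normal (center G) inferInstance with hc | hc
  · rw [hc, mem_bot] at hkc; exact hk hkc
  · exact hG ⟨⟨fun a b => (mem_center_iff.1 (hc.ge (mem_top b))) a⟩⟩

/-- If `n_p - 1` is odd and `C(P)` has a 2-part not dividing `p - 1`, some centralizer holds
`C(P)` and at least two Sylow subgroups of order `p`. -/
theorem exists_centralizer_two_sylow' {p : ℕ} [Fact p.Prime] (hp2 : p ≠ 2) (hG : ¬ IsMulCommutative G)
    (P : Sylow p G) (hP : Nat.card (P : Subgroup G) = p) (hn : Even (Nat.card (Sylow p G))) (a : ℕ)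
    (hC : Nat.card (centralizer ((P : Subgroup G) : Set G)) = p * 2 ^ a) {e : ℕ}
    (hN : Nat.card (Subgroup.normalizer ((P : Subgroup G) : Set G)) =
      e * Nat.card (centralizer ((P : Subgroup G) : Set G))) (ha : ¬ 2 ^ a ∣ e) :
    ∃ (H : Subgroup G) (n : ℕ), H ≠ ⊤ ∧ 1 < n ∧ n % p = 1 ∧ n * (p * 2 ^ a) ∣ Nat.card H ∧
      centralizer ((P : Subgroup G) : Set G) ≤ H ∧ (P : Subgroup G) ≤ H ∧
      n = Nat.card (Sylow p H) := by
  have hp := (Fact.out : p.Prime)
  have : Fact (Nat.Prime 2) := ⟨Nat.prime_two⟩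
  set C := centralizer ((P : Subgroup G) : Set G)
  obtain ⟨K₀, hK₀⟩ := Sylow.exists_subgroup_card_pow_prime (G := C) 2
    (show 2 ^ a ∣ Nat.card C from hC ▸ dvd_mul_left _ p)
  have hKc : Nat.card (K₀.map C.subtype) = 2 ^ a := by
    rw [card_map_of_injective C.subtype_injective, hK₀]
  obtain ⟨k, hk, hk1, hkc, Q, hQP, hQ⟩ := exists_common_centralizer P hP hn (K₀.map C.subtype)
    (IsPGroup.of_card hKc) (map_subtype_le K₀) hN (by rwa [hKc])
  have hkC : k ∈ C := map_subtype_le K₀ hk
  have hPk : (P : Subgroup G) ≤ centralizer ({k} : Set G) := fun y hy =>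
    mem_centralizer_singleton_iff.2 (mem_centralizer_iff.1 hkC y hy)
  have hCk : C ≤ centralizer ({k} : Set G) := by
    have hle : (centralizer ({k} : Set G) ⊓ C : Subgroup G) = C := by
      refine eq_of_le_of_card_ge inf_le_right ?_
      rw [hC]
      refine Nat.le_of_dvd Nat.card_pos (Nat.Coprime.mul_dvd_of_dvd_of_dvd ?_ ?_ ?_)
      · exact Nat.Coprime.pow_right a ((Nat.coprime_primes hp Nat.prime_two).2 hp2)
      · conv_lhs => rw [← hP]
        refine card_dvd_of_le (le_inf hPk fun x hx => ?_)
        have := isCyclic_of_prime_card hP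
        exact mem_centralizer_iff.2 fun y hy => congrArg Subtype.val
          ((IsCyclic.commGroup (α := (P : Subgroup G))).mul_comm ⟨y, hy⟩ ⟨x, hx⟩)
      · rw [← hKc]
        exact card_dvd_of_le (le_inf (fun c hc => mem_centralizer_singleton_iff.2 (hkc c hc).symm)
          (map_subtype_le K₀))
    exact inf_eq_right.1 hle
  obtain ⟨n, hn1, hnp, hdvd, hnn⟩ :=
    exists_count_in_subgroup (centralizer ({k} : Set G)) hQP hPk hQ hCk
  exact ⟨_, n, centralizer_singleton_ne_top hG hk1, hn1, hnp, hC ▸ hdvd, hCk, hPk, hnn⟩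


/-- `exists_centralizer_two_sylow'` with `p - 1` in place of `e`. -/
theorem exists_centralizer_two_sylow {p : ℕ} [Fact p.Prime] (hp2 : p ≠ 2) (hG : ¬ IsMulCommutative G)
    (P : Sylow p G) (hP : Nat.card (P : Subgroup G) = p) (hn : Even (Nat.card (Sylow p G))) (a : ℕ)
    (hC : Nat.card (centralizer ((P : Subgroup G) : Set G)) = p * 2 ^ a) (ha : ¬ 2 ^ a ∣ p - 1) :
    ∃ (H : Subgroup G) (n : ℕ), H ≠ ⊤ ∧ 1 < n ∧ n % p = 1 ∧ n * (p * 2 ^ a) ∣ Nat.card H := by
  obtain ⟨e, he, -, hN⟩ := normalizer_centralizer_index (P : Subgroup G) hP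
  obtain ⟨H, n, h1, h2, h3, h4, -⟩ :=
    exists_centralizer_two_sylow' hp2 hG P hP hn a hC hN fun h => ha (h.trans he)
  exact ⟨H, n, h1, h2, h3, h4⟩

end CfsgLib.Transfer
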