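import Cfsg.Agent.Lib.Transfer.PrimeSylow
import Cfsg.Agent.Lib.Transfer.CentralizerTwoSylow

/-!
# The case of 64 Sylow 7-subgroups for a putative simple group of order 4032
-/

namespace CfsgLib.Transfer

open Subgroup
open scoped Pointwise

variable {G : Type*} [Group G] [Finite G] [IsSimpleGroup G]

set_option maxHeartbeats 1000000 in
theorem false_of_card_4032_sylow_64 (hG : ¬ IsMulCommutative G) (hcard : Nat.card G = 4032)
    [hp : Fact (Nat.Prime 7)] (P : Sylow 7 G) (hP : Nat.card (P : Subgroup G) = 7)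
    (hN : Nat.card (normalizer ((P : Subgroup G) : Set G)) = 63)
    (hC : Nat.card (centralizer ((P : Subgroup G) : Set G)) = 21) : False := by
  classical
  have : Fact (Nat.Prime 3) := ⟨Nat.prime_three⟩
  have : Fact (Nat.Prime 2) := ⟨Nat.prime_two⟩
  set N := normalizer ((P : Subgroup G) : Set G) with hNdef
  -- a Sylow 3-subgroup inside `N(P)` and an element of it centralizing `P`
  obtain ⟨R₀, hR₀⟩ := Sylow.exists_subgroup_card_pow_prime (G := N) 3 (n := 2)
    (by rw [hN]; norm_num)
  set R : Subgroup G := R₀.map N.subtype with hRdef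
  have hR : Nat.card R = 3 ^ 2 := by rw [hRdef, card_map_of_injective N.subtype_injective, hR₀]
  have hRN : R ≤ N := map_subtype_le R₀
  have hRcomm : ∀ a ∈ R, ∀ b ∈ R, a * b = b * a := fun a ha b hb =>
    congrArg Subtype.val ((IsPGroup.commGroupOfCardEqPrimeSq hR).mul_comm ⟨a, ha⟩ ⟨b, hb⟩)
  let f : R →* MulAut (P : Subgroup G) :=
    (P : Subgroup G).normalizerMonoidHom.comp (Subgroup.inclusion hRN)
  have hfk : f.ker ≠ ⊥ := by
    intro h
    have := isCyclic_of_prime_card hP
    have h1 := card_dvd_of_injective f ((MonoidHom.ker_eq_bot_iff f).1 h)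
    rw [IsCyclic.card_mulAut, hP, hR, Nat.totient_prime hp.out] at h1
    norm_num at h1
  obtain ⟨k', hk'⟩ := ne_bot_iff_exists_ne_one.1 hfk
  set k : G := ((k' : R) : G) with hkdef
  have hkR : k ∈ R := (k' : R).2
  have hk1 : k ≠ 1 := fun h => hk' (Subtype.ext (Subtype.ext h))
  have hkC : k ∈ centralizer ((P : Subgroup G) : Set G) := by
    have h := k'.2
    rw [MonoidHom.mem_ker, MonoidHom.comp_apply, ← MonoidHom.mem_ker, normalizerMonoidHom_ker,
      mem_subgroupOf] at h
    exact h
  have hkk : k⁻¹ ≠ k := fun h => by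
    have h2 : orderOf (k' : R) ∣ 2 := by
      refine orderOf_dvd_of_pow_eq_one (Subtype.ext ?_)
      rw [pow_two, Subgroup.coe_mul, OneMemClass.coe_one]
      nth_rewrite 1 [← hkdef]
      rw [← hkdef]
      calc k * k = k⁻¹ * k := by rw [h]
        _ = 1 := inv_mul_cancel k
    have h9 : orderOf (k' : R) ∣ 9 := by have := orderOf_dvd_natCard (k' : R); rwa [hR] at this
    have h1 := Nat.eq_one_of_dvd_coprimes (show Nat.Coprime 2 9 by norm_num) h2 h9
    exact hk1 (congrArg Subtype.val (orderOf_eq_one_iff.1 h1))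
  have hPk : (P : Subgroup G) ≤ centralizer ({k} : Set G) := fun y hy =>
    mem_centralizer_singleton_iff.2 (mem_centralizer_iff.1 hkC y hy)
  have hRk : R ≤ centralizer ({k} : Set G) := fun r hr =>
    mem_centralizer_singleton_iff.2 (hRcomm r hr k hkR)
  have h63 : 63 ∣ Nat.card (centralizer ({k} : Set G)) := by
    refine Nat.Coprime.mul_dvd_of_dvd_of_dvd (show Nat.Coprime 7 9 by norm_num) ?_ ?_
    · exact hP ▸ card_dvd_of_le hPk
    · have := card_dvd_of_le hRk
      rwa [hR] at this
  have hCk : centralizer ((P : Subgroup G) : Set G) ≤ centralizer ({k} : Set G) := by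
    refine inf_eq_right.1 (eq_of_le_of_card_ge inf_le_right ?_)
    rw [hC]
    refine Nat.le_of_dvd Nat.card_pos
      (Nat.Coprime.mul_dvd_of_dvd_of_dvd (show Nat.Coprime 7 3 by norm_num) ?_ ?_)
    · conv_lhs => rw [← hP]
      refine card_dvd_of_le (le_inf hPk fun x hx => ?_)
      have := isCyclic_of_prime_card hP
      exact mem_centralizer_iff.2 fun y hy => congrArg Subtype.val
        ((IsCyclic.commGroup (α := (P : Subgroup G))).mul_comm ⟨y, hy⟩ ⟨x, hx⟩)
    · have hmem : k ∈ centralizer ({k} : Set G) ⊓ centralizer ((P : Subgroup G) : Set G) :=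
        mem_inf.2 ⟨hRk hkR, hkC⟩
      have h := orderOf_dvd_natCard (⟨k, hmem⟩ :
        (centralizer ({k} : Set G) ⊓ centralizer ((P : Subgroup G) : Set G) : Subgroup G))
      rw [Subgroup.orderOf_mk] at h
      refine dvd_trans ?_ h
      have h9 : orderOf (k' : R) ∣ 3 ^ 2 := hR ▸ orderOf_dvd_natCard _
      obtain ⟨i, -, hi⟩ := (Nat.dvd_prime_pow Nat.prime_three).1 h9
      have e : orderOf k = 3 ^ i := by rw [hkdef, Subgroup.orderOf_coe, hi]
      rw [e]
      refine dvd_pow_self 3 fun h0 => hk1 (orderOf_eq_one_iff.1 ?_)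
      rw [e, h0, pow_zero]
  have hCne := centralizer_singleton_ne_top hG hk1
  -- `P` is the only Sylow 7-subgroup centralizing `k`
  have huniq : ∀ Q : Sylow 7 G, (Q : Subgroup G) ≤ centralizer ({k} : Set G) → Q = P := by
    intro Q hQ
    by_contra hne
    obtain ⟨m, hm1, hmp, hmd, -⟩ := exists_count_in_subgroup _ hne hPk hQ hCk
    rw [hC] at hmd
    have hi := two_mul_card_dvd_factorial hG hCne
    have hHc := (centralizer ({k} : Set G)).index_mul_card
    rw [hcard] at hi hHc
    have hi8 : 8 ≤ (centralizer ({k} : Set G)).index := by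
      by_contra hlt
      revert hi
      generalize (centralizer ({k} : Set G)).index = i at hlt
      push Not at hlt
      interval_cases i <;> decide
    obtain ⟨l, hl⟩ := hmd
    have hl1 : 1 ≤ l := Nat.pos_of_ne_zero fun h => by
      rw [h, mul_zero] at hl; exact Nat.card_pos.ne' hl
    have h1 : (centralizer ({k} : Set G)).index * (m * l) = 192 := by rw [hl] at hHc; nlinarith
    have hm24 : m ≤ 24 := by
      have := Nat.mul_le_mul_left m hl1
      nlinarith
    have hm8 : m = 8 := by
      have hd : m ∣ 192 := ⟨(centralizer ({k} : Set G)).index * l, by rw [← h1]; ring⟩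
      interval_cases m <;> omega
    subst hm8
    have hl3 : 3 ∣ l := by
      rw [hl] at h63
      omega
    obtain ⟨l', rfl⟩ := hl3
    have hidx : (centralizer ({k} : Set G)).index = 8 := by
      have h2 : (centralizer ({k} : Set G)).index * l' = 8 := by nlinarith
      have := Nat.le_of_dvd (by norm_num : 0 < 8) ⟨l', h2.symm⟩
      omega
    obtain ⟨x, hx⟩ := exists_prime_orderOf_dvd_card' (G := (P : Subgroup G)) 7 (by rw [hP])
    have hxo : orderOf (x : G) = 7 := by rw [Subgroup.orderOf_coe, hx]
    have hd := card_centralizer_dvd_of_small_index hG hCne (p := 7) (x := (x : G))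
      (by omega) hxo
    have := (card_dvd_of_le (show centralizer ((P : Subgroup G) : Set G) ≤
      centralizer ({(x : G)} : Set G) from centralizer_le (by simp))).trans hd
    rw [hC, hidx] at this
    exact absurd this (by decide)
  have hCeq : centralizer ({k} : Set G) = N := by
    refine eq_of_le_of_card_ge (fun c hc => ?_) ?_
    · refine Sylow.smul_eq_iff_mem_normalizer.1 (huniq _ fun y hy => ?_)
      rw [Sylow.coe_subgroup_smul, mem_pointwise_smul_iff_inv_smul_mem, ← map_inv,
        MulAut.smul_def, MulAut.conj_apply, inv_inv] at hy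
      have := mul_mem (mul_mem hc (hPk hy)) (inv_mem hc)
      simpa [mul_assoc] using this
    · rw [hN]; exact Nat.le_of_dvd Nat.card_pos h63
  have hoddC : Nat.card (centralizer ({k} : Set G)) = 63 := by rw [hCeq, hN]
  -- `k` is not conjugate to its inverse
  have hnreal : ∀ g : G, g * k * g⁻¹ ≠ k⁻¹ := by
    intro g hg
    have hgN : g ∈ N := by
      refine Sylow.smul_eq_iff_mem_normalizer.1 (huniq _ fun y hy => ?_)
      rw [Sylow.coe_subgroup_smul, mem_pointwise_smul_iff_inv_smul_mem, ← map_inv,
        MulAut.smul_def, MulAut.conj_apply, inv_inv] at hy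
      have h1 := mem_centralizer_singleton_iff.1 (hPk hy)
      rw [mem_centralizer_singleton_iff]
      have h2 : y * k⁻¹ = k⁻¹ * y := by
        rw [← hg]
        calc y * (g * k * g⁻¹) = g * (g⁻¹ * y * g * k) * g⁻¹ := by group
          _ = g * (k * (g⁻¹ * y * g)) * g⁻¹ := by rw [h1]
          _ = _ := by group
      exact (Commute.inv_right_iff.1 h2).eq
    rw [← hCeq, mem_centralizer_singleton_iff] at hgN
    rw [hgN, mul_inv_cancel_right] at hg
    exact hkk hg.symm
  -- the normalizer of `R`
  have hfac : (Nat.card G).factorization 3 = 2 := by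
    rw [hcard, show (4032 : ℕ) = 3 ^ 2 * 448 from rfl, Nat.factorization_mul (by norm_num)
      (by norm_num), Finsupp.add_apply, Nat.Prime.factorization_pow Nat.prime_three,
      Finsupp.single_eq_same, Nat.factorization_eq_zero_of_not_dvd (by norm_num)]
  let RS : Sylow 3 G := Sylow.ofCard R (by rw [hR, hfac])
  set M := normalizer (R : Set G) with hMdef
  have hRM : R ≤ M := le_normalizer
  have hMidx : M.index % 3 = 1 := by
    have h := card_sylow_modEq_one 3 G
    rw [RS.card_eq_index_normalizer] at h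
    exact h
  have h7 : ¬ 7 ∣ Nat.card M := by
    intro h7
    obtain ⟨u', hu'⟩ := exists_prime_orderOf_dvd_card' (G := M) 7 h7
    have hU : IsPGroup 7 (zpowers u') := IsPGroup.of_card (n := 1) (by rw [Nat.card_zpowers, hu', pow_one])
    let φ : zpowers u' →* MulAut R := R.normalizerMonoidHom.comp (zpowers u').subtype
    let _ : MulAction (zpowers u') R := MulAction.compHom R φ
    let F : Subgroup R := { carrier := {r | ∀ v, φ v r = r}
                            one_mem' := fun v => map_one _
                            mul_mem' := fun {a b} ha hb v => by rw [map_mul, ha v, hb v]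
                            inv_mem' := fun {a} ha v => by rw [map_inv, ha v] }
    have hFfix : Nat.card F = Nat.card (MulAction.fixedPoints (zpowers u') R) := rfl
    have hmod := hU.card_modEq_card_fixedPoints R
    rw [← hFfix, hR] at hmod
    have hFd : Nat.card F ∣ 3 ^ 2 := hR ▸ card_subgroup_dvd_card F
    obtain ⟨i, hi, hi'⟩ := (Nat.dvd_prime_pow Nat.prime_three).1 hFd
    have hF : F = ⊤ := eq_top_of_card_eq F (by
      rw [hi', hR]; rw [hi'] at hmod
      interval_cases i <;> first | rfl | (exfalso; revert hmod; decide))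
    have huR : ∀ r ∈ R, (u' : G) * r * (u' : G)⁻¹ = r := fun r hr =>
      congrArg Subtype.val ((hF ▸ mem_top (⟨r, hr⟩ : R) : (⟨r, hr⟩ : R) ∈ F) ⟨u', mem_zpowers u'⟩)
    have huN : (u' : G) ∈ N := by
      rw [← hCeq, mem_centralizer_singleton_iff]
      exact mul_inv_eq_iff_eq_mul.1 (huR k hkR)
    have huP : zpowers (u' : G) = (P : Subgroup G) := by
      refine eq_of_le_of_card_ge ?_ (by rw [hP, Nat.card_zpowers, Subgroup.orderOf_coe, hu'])
      have hz : IsPGroup 7 (zpowers (u' : G)) :=
        IsPGroup.of_card (n := 1) (by rw [Nat.card_zpowers, Subgroup.orderOf_coe, hu', pow_one])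
      have h := hz.inf_normalizer_sylow P
      intro y hy
      exact (h.le (mem_inf.2 ⟨hy, zpowers_le.2 huN hy⟩)).2
    have : R ≤ centralizer ((P : Subgroup G) : Set G) := fun r hr => by
      rw [← huP, zpowers_eq_closure, centralizer_closure, mem_centralizer_singleton_iff]
      exact (mul_inv_eq_iff_eq_mul.1 (huR r hr)).symm
    have := card_dvd_of_le this
    rw [hR, hC] at this
    norm_num at this
  -- the orbit of `k`
  have hinf : M ⊓ centralizer ({k} : Set G) = R := by
    refine (eq_of_le_of_card_ge (le_inf hRM hRk) ?_).symm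
    have h1 : Nat.card (M ⊓ centralizer ({k} : Set G) : Subgroup G) ∣ 63 :=
      hoddC ▸ card_dvd_of_le inf_le_right
    have h2 : ¬ 7 ∣ Nat.card (M ⊓ centralizer ({k} : Set G) : Subgroup G) := fun h =>
      h7 (h.trans (card_dvd_of_le inf_le_left))
    rw [hR]
    exact Nat.le_of_dvd (by norm_num) ((Nat.Coprime.dvd_of_dvd_mul_left
      ((Nat.Prime.coprime_iff_not_dvd (by norm_num)).2 h2).symm) (show _ ∣ 7 * 3 ^ 2 from h1))
  obtain ⟨m, hm⟩ : 9 ∣ Nat.card M := by have := card_dvd_of_le hRM; rwa [hR] at this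
  have hm448 : M.index * m = 448 := by
    have := M.index_mul_card
    rw [hm, hcard] at this
    nlinarith
  have hFin : Fintype M := Fintype.ofFinite M
  let O : Finset G := (Finset.univ.image fun h : M => (h : G) * k * (h : G)⁻¹)
  have hOR : ∀ r ∈ O, r ∈ R ∧ r ≠ 1 := by
    intro r hr
    obtain ⟨h, -, rfl⟩ := Finset.mem_image.1 hr
    exact ⟨(mem_normalizer_iff.1 h.2 k).1 hkR, fun e => hk1 (conj_eq_one_iff.1 e)⟩
  have hFinR : Fintype R := Fintype.ofFinite R
  have hOcard : O.card = m := by
    have h1 : Nat.card M = O.card * Nat.card R := by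
      rw [Nat.card_eq_fintype_card, ← Finset.card_univ,
        Finset.card_eq_sum_card_image fun h : M => (h : G) * k * (h : G)⁻¹,
        Finset.sum_congr rfl fun r hr => ?_, Finset.sum_const, smul_eq_mul]
      obtain ⟨h₀, -, rfl⟩ := Finset.mem_image.1 hr
      rw [Nat.card_eq_fintype_card, ← Finset.card_univ]
      refine Finset.card_bij' (fun h hh => ⟨(h₀ : G)⁻¹ * h, hinf.le (mem_inf.2 ⟨mul_mem (inv_mem h₀.2) h.2, ?_⟩)⟩)
        (fun r _ => h₀ * ⟨r, hRM r.2⟩) (fun _ _ => Finset.mem_univ _) (fun r _ => ?_)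
        (fun h _ => Subtype.ext (mul_inv_cancel_left (h₀ : G) h))
        (fun r _ => Subtype.ext (inv_mul_cancel_left (h₀ : G) r))
      · rw [mem_centralizer_singleton_iff]
        have e := (Finset.mem_filter.1 hh).2
        calc (h₀ : G)⁻¹ * h * k = (h₀ : G)⁻¹ * ((h : G) * k * (h : G)⁻¹) * h := by group
          _ = (h₀ : G)⁻¹ * ((h₀ : G) * k * (h₀ : G)⁻¹) * h := by rw [e]
          _ = _ := by group
      · refine Finset.mem_filter.2 ⟨Finset.mem_univ _, ?_⟩
        show (h₀ : G) * r * k * ((h₀ : G) * r)⁻¹ = _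
        rw [mul_assoc (h₀ : G) r k, hRcomm r r.2 k hkR]
        group
    rw [hm, hR] at h1
    omega
  have hOinv : Disjoint O (O.image (·⁻¹)) := by
    rw [Finset.disjoint_left]
    intro r hr hr'
    obtain ⟨s, hs, rfl⟩ := Finset.mem_image.1 hr'
    obtain ⟨a, -, ha⟩ := Finset.mem_image.1 hr
    obtain ⟨b, -, rfl⟩ := Finset.mem_image.1 hs
    refine hnreal ((b : G)⁻¹ * a) ?_
    calc (b : G)⁻¹ * a * k * ((b : G)⁻¹ * a)⁻¹ = (b : G)⁻¹ * ((a : G) * k * (a : G)⁻¹) * b := by group
      _ = k⁻¹ := by rw [ha]; group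
  let Rnon : Finset G := (Finset.univ.image fun r : R => (r : G)).erase 1
  have hRnon : Rnon.card = 8 := by
    have h1 : (1 : G) ∈ Finset.univ.image fun r : R => (r : G) :=
      Finset.mem_image.2 ⟨1, Finset.mem_univ _, rfl⟩
    show ((Finset.univ.image fun r : R => (r : G)).erase 1).card = 8
    rw [Finset.card_erase_of_mem h1,
      Finset.card_image_of_injective _ Subtype.val_injective, Finset.card_univ,
      ← Nat.card_eq_fintype_card, hR]
    norm_num
  have hsub : O ∪ O.image (·⁻¹) ⊆ Rnon := by
    intro r hr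
    rcases Finset.mem_union.1 hr with h | h
    · exact Finset.mem_erase.2 ⟨(hOR r h).2,
        Finset.mem_image.2 ⟨⟨r, (hOR r h).1⟩, Finset.mem_univ _, rfl⟩⟩
    · obtain ⟨s, hs, rfl⟩ := Finset.mem_image.1 h
      exact Finset.mem_erase.2 ⟨inv_ne_one.2 (hOR s hs).2,
        Finset.mem_image.2 ⟨⟨s⁻¹, inv_mem (hOR s hs).1⟩, Finset.mem_univ _, rfl⟩⟩
  have h2m : (O ∪ O.image (·⁻¹)).card = 2 * m := by
    rw [Finset.card_union_of_disjoint hOinv, Finset.card_image_of_injective _ inv_injective, hOcard]
    ring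
  have hm4 : m ≤ 4 := by have := Finset.card_le_card hsub; omega
  have hm' : m = 1 ∨ m = 4 := by
    interval_cases m <;> omega
  rcases hm' with rfl | rfl
  · refine not_normalizer_le_centralizer hG (p := 3) (by rw [hcard]; norm_num) RS fun x hx => ?_
    have : M = R := (eq_of_le_of_card_ge hRM (by rw [hm, hR]; norm_num)).symm
    have hxR : x ∈ R := this.le hx
    exact mem_centralizer_iff.2 fun y hy => hRcomm y hy x hxR
  -- an involution in `N(R)` inverts `R`
  have hall : ∀ r ∈ R, r ≠ 1 → ¬ 2 ∣ Nat.card (centralizer ({r} : Set G)) := by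
    intro r hr hr1
    have heq : O ∪ O.image (·⁻¹) = Rnon := Finset.eq_of_subset_of_card_le hsub (by omega)
    have hmem : r ∈ O ∪ O.image (·⁻¹) := heq ▸ Finset.mem_erase.2
      ⟨hr1, Finset.mem_image.2 ⟨⟨r, hr⟩, Finset.mem_univ _, rfl⟩⟩
    have key : ∀ s : G, s ∈ O → Nat.card (centralizer ({s} : Set G)) = 63 := fun s hs => by
      obtain ⟨a, -, rfl⟩ := Finset.mem_image.1 hs
      rw [← hoddC]
      refine Nat.card_congr ((Subgroup.equivMapOfInjective (centralizer ({k} : Set G))
        (MulAut.conj (a : G)).toMonoidHom (MulAut.conj (a : G)).injective).toEquiv.trans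
        (Equiv.setCongr ?_)).symm
      ext y
      simp only [SetLike.mem_coe, mem_map, MulEquiv.coe_toMonoidHom, MulAut.conj_apply,
        mem_centralizer_singleton_iff]
      constructor
      · rintro ⟨z, hz, rfl⟩
        calc (a : G) * z * (a : G)⁻¹ * ((a : G) * k * (a : G)⁻¹) = a * (z * k) * (a : G)⁻¹ := by group
          _ = _ := by rw [hz]; group
      · intro hy
        refine ⟨(a : G)⁻¹ * y * a, ?_, by group⟩
        calc (a : G)⁻¹ * y * a * k = (a : G)⁻¹ * (y * ((a : G) * k * (a : G)⁻¹)) * a := by group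
          _ = _ := by rw [hy]; group
    rcases Finset.mem_union.1 hmem with h | h
    · rw [key r h]; norm_num
    · obtain ⟨s, hs, rfl⟩ := Finset.mem_image.1 h
      have : centralizer ({s⁻¹} : Set G) = centralizer ({s} : Set G) := by
        ext y; simp only [mem_centralizer_singleton_iff]
        exact ⟨fun e => (Commute.inv_right_iff.1 e).eq, fun e => (Commute.inv_right e).eq⟩
      rw [this, key s hs]; norm_num
  obtain ⟨g', hg'⟩ := exists_prime_orderOf_dvd_card' (G := M) 2 (by rw [hm]; norm_num)
  have hg2 : (g' : G) * g' = 1 := by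
    rw [← pow_two, ← hg', ← Subgroup.orderOf_coe]; exact pow_orderOf_eq_one _
  have hgi : (g' : G)⁻¹ = g' := inv_eq_of_mul_eq_one_right hg2
  have hgk : (g' : G) * k * g' ∈ R := by
    have := (mem_normalizer_iff.1 g'.2 k).1 hkR
    rwa [hgi] at this
  by_cases hfix : k * ((g' : G) * k * g') = 1
  · refine hnreal g' ?_
    rw [hgi]
    exact eq_inv_of_mul_eq_one_right hfix
  · refine hall _ (mul_mem hkR hgk) hfix ?_
    have hc : (g' : G) ∈ centralizer ({k * ((g' : G) * k * g')} : Set G) := by
      rw [mem_centralizer_singleton_iff]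
      calc (g' : G) * (k * (g' * k * g')) = (g' * k * g') * k * g' * ((g' : G) * g')⁻¹ * (g' * g') := by group
        _ = (g' * k * g') * k * g' := by rw [hg2]; group
        _ = k * (g' * k * g') * g' := by rw [hRcomm _ hgk k hkR]
    have h := orderOf_dvd_natCard (⟨(g' : G), hc⟩ : centralizer ({k * ((g' : G) * k * g')} : Set G))
    rwa [Subgroup.orderOf_mk, Subgroup.orderOf_coe, hg'] at h

end CfsgLib.Transfer
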