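import Cfsg.Agent.Lib.Transfer.PGroupNormal
import Cfsg.Agent.Lib.Transfer.UniqueOrderP
import Cfsg.Agent.Lib.Invol.Dihedral

/-!
# Groups of maximal class
-/

namespace CfsgLib.Transfer

open Subgroup
open scoped commutatorElement Pointwise

universe u

variable {p : ℕ} [hp : Fact p.Prime]

omit hp in
/-- A group of order `p ^ n` with `n ≥ 2` is nontrivial. -/
theorem nontrivial_of_card_pow {X : Type*} [Group X] [Finite X] {n : ℕ} (hp1 : 1 < p) (hn : 1 ≤ n)
    (hX : Nat.card X = p ^ n) : Nontrivial X :=
  Finite.one_lt_card_iff_nontrivial.1 (hX ▸ Nat.one_lt_pow (by omega) hp1)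

private theorem class_le_aux : ∀ n : ℕ, ∀ {X : Type u} [Group X] [Finite X], Nat.card X = p ^ n →
    Group.nilpotencyClass X ≤ max (n - 1) 1 := by
  intro n
  induction n using Nat.strong_induction_on with
  | _ n ih =>
    intro X _ _ hX
    have hp' := hp.out
    have hXp : IsPGroup p X := IsPGroup.of_card hX
    have := hXp.isNilpotent
    by_cases hab : IsMulCommutative X
    · exact le_trans (Group.IsNilpotent.nilpotencyClass_le_one_iff.2 hab) (le_max_right _ _)
    have hn : 1 ≤ n := by
      rcases Nat.eq_zero_or_pos n with rfl | h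
      · have : Subsingleton X := (Nat.card_eq_one_iff_unique.1 (hX.trans (pow_zero p))).1
        exact absurd ⟨⟨fun a b => Subsingleton.elim _ _⟩⟩ hab
      · exact h
    have := nontrivial_of_card_pow hp'.one_lt hn hX
    have hZ := hXp.center_nontrivial
    obtain ⟨m, hmn, hm⟩ := (Nat.dvd_prime_pow hp').1 (hX ▸ (center X).index_dvd_card)
    have hlt : m < n := by
      refine lt_of_le_of_ne hmn ?_
      rintro rfl
      have h1 := (center X).card_mul_index
      rw [hm, hX] at h1
      have h2 : 1 < Nat.card (center X) := Finite.one_lt_card_iff_nontrivial.2 hZ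
      nlinarith [pow_pos hp'.pos m]
    have hm2 : 2 ≤ m := by
      by_contra hlt2
      refine hab ?_
      have : IsCyclic (X ⧸ center X) := by
        interval_cases m
        · have := (Nat.card_eq_one_iff_unique.1 ((index_eq_card _).symm.trans (hm.trans (pow_zero p)))).1
          exact isCyclic_of_subsingleton
        · exact isCyclic_of_prime_card ((index_eq_card _).symm.trans (hm.trans (pow_one p)))
      exact (QuotientGroup.mk' (center X)).isMulCommutative_of_isCyclic_of_ker_le_center
        (by rw [QuotientGroup.ker_mk'])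
    have h := ih m hlt ((index_eq_card _).symm.trans hm)
    rw [Group.nilpotencyClass_eq_quotient_center_plus_one]
    omega

/-- A group of order `p ^ n` has class at most `max (n - 1) 1`. -/
theorem nilpotencyClass_le_of_card {X : Type u} [Group X] [Finite X] {n : ℕ}
    (hX : Nat.card X = p ^ n) : Group.nilpotencyClass X ≤ max (n - 1) 1 :=
  class_le_aux n hX

/-- In a group of maximal class the centre has order `p`. -/
theorem card_center_of_maxClass {X : Type u} [Group X] [Finite X] {n : ℕ} (hn : 3 ≤ n)
    (hX : Nat.card X = p ^ n) (hc : Group.nilpotencyClass X = n - 1) :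
    Nat.card (center X) = p ∧ Nat.card (X ⧸ center X) = p ^ (n - 1) ∧
      Group.nilpotencyClass (X ⧸ center X) = n - 1 - 1 := by
  have hp' := hp.out
  have hXp : IsPGroup p X := IsPGroup.of_card hX
  have := hXp.isNilpotent
  have := nontrivial_of_card_pow hp'.one_lt (by omega) hX
  have hZ := hXp.center_nontrivial
  obtain ⟨c, hcc⟩ := (hXp.to_subgroup (center X)).exists_card_eq
  obtain ⟨m, hmn, hm⟩ := (Nat.dvd_prime_pow hp').1 (hX ▸ (center X).index_dvd_card)
  have h1 := (center X).card_mul_index
  rw [hcc, hm, hX, ← pow_add] at h1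
  have hcm : c + m = n := Nat.pow_right_injective hp'.two_le h1
  have hc1 : 1 ≤ c := by
    by_contra hlt
    have := (Finite.one_lt_card_iff_nontrivial (α := center X)).2 hZ
    rw [hcc, show c = 0 by omega, pow_zero] at this
    exact lt_irrefl _ this
  have hq := nilpotencyClass_le_of_card (p := p) ((index_eq_card _).symm.trans hm)
  rw [Group.nilpotencyClass_quotient_center, hc] at hq
  have hm' : m = n - 1 := by
    by_contra hne
    have hn3 : n = 3 := by omega
    have hc2 : Group.nilpotencyClass X ≤ 1 := by
      refine Group.IsNilpotent.nilpotencyClass_le_one_iff.2 ?_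
      have : IsCyclic (X ⧸ center X) := by
        rcases (show m = 0 ∨ m = 1 by omega) with rfl | rfl
        · have := (Nat.card_eq_one_iff_unique.1 ((index_eq_card _).symm.trans (hm.trans (pow_zero p)))).1
          exact isCyclic_of_subsingleton
        · exact isCyclic_of_prime_card ((index_eq_card _).symm.trans (hm.trans (pow_one p)))
      exact (QuotientGroup.mk' (center X)).isMulCommutative_of_isCyclic_of_ker_le_center
        (by rw [QuotientGroup.ker_mk'])
    omega
  refine ⟨by rw [hcc, show c = 1 by omega, pow_one], (index_eq_card _).symm.trans (hm.trans (by rw [hm'])), ?_⟩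
  rw [Group.nilpotencyClass_quotient_center, hc]

private theorem self_centralizing_aux : ∀ n : ℕ, ∀ {X : Type u} [Group X] [Finite X],
    Nat.card X = p ^ n → ∀ A : Subgroup X, Nat.card A = p ^ 2 → centralizer (A : Set X) = A →
      Group.nilpotencyClass X = n - 1 := by
  intro n
  induction n using Nat.strong_induction_on with
  | _ n ih =>
    intro X _ _ hX A hA hC
    have hp' := hp.out
    have hXp : IsPGroup p X := IsPGroup.of_card hX
    have := hXp.isNilpotent
    have hn2 : 2 ≤ n := by
      have := card_le_card_group A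
      rw [hA, hX] at this
      exact (Nat.pow_le_pow_iff_right hp'.one_lt).1 this
    have := nontrivial_of_card_pow hp'.one_lt (by omega) hX
    have hAab : IsMulCommutative A := IsPGroup.isMulCommutative_of_card_eq_prime_sq hA
    by_cases hn : n = 2
    · subst hn
      have hA' : A = ⊤ := A.eq_top_of_card_eq (by rw [hA, hX])
      have h1 : Group.nilpotencyClass X ≤ 1 := Group.IsNilpotent.nilpotencyClass_le_one_iff.2
        ⟨⟨fun a b => congrArg Subtype.val (hAab.is_comm.comm ⟨a, hA'.ge (mem_top a)⟩ ⟨b, hA'.ge (mem_top b)⟩)⟩⟩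
      have h2 := Group.nilpotencyClass_eq_quotient_center_plus_one (G := X)
      omega
    set Z := center X
    have hZA : Z ≤ A := hC ▸ center_le_centralizer _
    have hZp : Nat.card Z = p := by
      obtain ⟨c, hc⟩ := (hXp.to_subgroup Z).exists_card_eq
      have hc1 : c ≠ 0 := by
        rintro rfl
        have := (Finite.one_lt_card_iff_nontrivial (α := Z)).2 hXp.center_nontrivial
        rw [hc, pow_zero] at this
        exact lt_irrefl _ this
      have hc2 : c ≤ 2 := (Nat.pow_le_pow_iff_right hp'.one_lt).1 (hc ▸ hA ▸ card_le_of_le hZA)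
      have hc2' : c ≠ 2 := by
        rintro rfl
        have e : Z = A := eq_of_le_of_card_ge hZA (by rw [hc, hA])
        have : A = ⊤ := hC ▸ top_le_iff.1 fun x _ => mem_centralizer_iff.2 fun a ha =>
          (mem_center_iff.1 (e.ge ha) x).symm
        rw [this, card_top, hX] at hA
        exact hn (Nat.pow_right_injective hp'.two_le hA)
      rw [hc, show c = 1 by omega, pow_one]
    set B := normalizer (A : Set X)
    have hAB : A ≤ B := le_normalizer
    have hBc : Nat.card B = p ^ 3 := by
      obtain ⟨b, hb⟩ := (hXp.to_subgroup B).exists_card_eq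
      have hi : (centralizer ((A.subgroupOf B : Subgroup B) : Set B)).index ≤ p ^ (2 * (2 - 1) / 2) :=
        index_centralizer_le_of_normal (hXp.to_subgroup B) 2 (A.subgroupOf B)
          (by rw [Nat.card_congr (subgroupOfEquivOfLe hAB).toEquiv, hA])
      have hce : centralizer ((A.subgroupOf B : Subgroup B) : Set B) ≤ A.subgroupOf B := fun x hx =>
        mem_subgroupOf.2 (hC.le (mem_centralizer_iff.2 fun a ha =>
          congrArg Subtype.val (mem_centralizer_iff.1 hx ⟨a, hAB ha⟩ ha)))
      have hi2 : A.relIndex B ≤ p := by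
        have h1 := Nat.le_of_dvd (Nat.pos_of_ne_zero index_ne_zero_of_finite) (index_dvd_of_le hce)
        exact h1.trans (hi.trans (by norm_num))
      have hne : A.relIndex B ≠ 1 := fun e => by
        have hBA : B = A := le_antisymm (relIndex_eq_one.1 e) hAB
        have hA' : A = ⊤ := (normalizerCondition_iff_only_full_group_self_normalizing.1
          Group.normalizerCondition_of_isNilpotent) A hBA
        rw [hA', card_top, hX] at hA
        exact hn (Nat.pow_right_injective hp'.two_le hA)
      have h2 := relIndex_mul_relIndex ⊥ A B bot_le hAB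
      rw [relIndex_bot_left, relIndex_bot_left, hA, hb] at h2
      obtain ⟨r, -, hr⟩ := (Nat.dvd_prime_pow hp').1 (Dvd.intro_left _ h2)
      rw [hr] at h2 hi2 hne
      have hr1 : r = 1 := by
        rcases r with _ | _ | r
        · exact absurd (pow_zero p) hne
        · rfl
        · exfalso
          have h3 : p * p ≤ p ^ (r + 2) := by
            rw [← sq]; exact Nat.pow_le_pow_right hp'.pos (by omega)
          nlinarith [hp'.two_le]
      rw [hb, ← h2, hr1]; ring
    let π := QuotientGroup.mk' Z
    set B' := B.map π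
    have hB' : Nat.card B' = p ^ 2 := by
      rw [show Nat.card B' = π.ker.relIndex B from (relIndex_ker _ _).symm, QuotientGroup.ker_mk']
      have h1 := relIndex_mul_relIndex ⊥ Z B bot_le (hZA.trans hAB)
      rw [relIndex_bot_left, relIndex_bot_left, hZp, hBc, show p ^ 3 = p * p ^ 2 by ring] at h1
      exact Nat.eq_of_mul_eq_mul_left hp'.pos h1
    have hB'ab : IsMulCommutative B' := IsPGroup.isMulCommutative_of_card_eq_prime_sq hB'
    have hcent : centralizer (B' : Set (X ⧸ Z)) = B' := by
      refine le_antisymm (fun q hq => ?_) (le_centralizer B')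
      obtain ⟨x, rfl⟩ := QuotientGroup.mk'_surjective Z q
      refine mem_map_of_mem π ?_
      have key : ∀ a ∈ A, x * a * x⁻¹ ∈ A := by
        intro a ha
        have h1 : π (x * a * x⁻¹) = π a := by
          rw [map_mul, map_mul, map_inv,
            ← mem_centralizer_iff.1 hq (π a) (mem_map_of_mem π (hAB ha)), mul_inv_cancel_right]
        have h2 : a⁻¹ * (x * a * x⁻¹) ∈ Z := QuotientGroup.eq.1 h1.symm
        simpa [mul_assoc] using mul_mem ha (hZA h2)
      refine mem_normalizer_iff_map_conj_eq.2 ?_
      refine eq_of_le_of_card_ge ?_ (card_map_of_injective (MulEquiv.injective _)).ge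
      rintro _ ⟨a, ha, rfl⟩
      exact key a ha
    have hm : Nat.card (X ⧸ Z) = p ^ (n - 1) := by
      have h1 := Z.card_mul_index
      rw [hZp, index_eq_card, hX, show p ^ n = p * p ^ (n - 1) by
        rw [← pow_succ']; congr 1; omega] at h1
      exact Nat.eq_of_mul_eq_mul_left hp'.pos h1
    have h := ih (n - 1) (by omega) hm B' hB' hcent
    rw [Group.nilpotencyClass_eq_quotient_center_plus_one, h]
    omega

/-- A `p`-group with a self-centralizing subgroup of order `p ^ 2` has maximal class. -/
theorem maxClass_of_self_centralizing {X : Type u} [Group X] [Finite X] {n : ℕ}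
    (hX : Nat.card X = p ^ n) (A : Subgroup X) (hA : Nat.card A = p ^ 2)
    (hC : centralizer (A : Set X) = A) : Group.nilpotencyClass X = n - 1 :=
  self_centralizing_aux n hX A hA hC

section AbelianMaximal

variable {X : Type u} [Group X] [Finite X]

/-- An element of an abelian subgroup of prime index commuting with an outside element is central. -/
theorem mem_center_of_commute {A : Subgroup X} (hab : ∀ a ∈ A, ∀ b ∈ A, a * b = b * a)
    (hi : A.index = p) {y : X} (hy : y ∉ A) {a : X} (ha : a ∈ A) (hc : y * a = a * y) :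
    a ∈ center X := by
  have hAC : A ≤ centralizer ({a} : Set X) := fun b hb =>
    mem_centralizer_singleton_iff.2 (hab b hb a ha)
  have hy' : y ∈ centralizer ({a} : Set X) := mem_centralizer_singleton_iff.2 hc
  have h1 : (centralizer ({a} : Set X)).index ∣ p := hi ▸ index_dvd_of_le hAC
  rcases (Nat.dvd_prime hp.out).1 h1 with e | e
  · rw [index_eq_one] at e
    exact mem_center_iff.2 fun g => mem_centralizer_singleton_iff.1 (e.ge (mem_top g))
  · exfalso
    have h2 := A.card_mul_index
    have h3 := (centralizer ({a} : Set X)).card_mul_index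
    rw [hi] at h2
    rw [e, ← h2] at h3
    exact hy ((eq_of_le_of_card_ge hAC (Nat.eq_of_mul_eq_mul_right hp.out.pos h3).le).ge hy')

/-- With an abelian normal subgroup `A` of prime index, `|A| = |X'| |Z(X)|`. -/
theorem card_eq_commutator_mul_center {A : Subgroup X} [A.Normal]
    (hab : ∀ a ∈ A, ∀ b ∈ A, a * b = b * a) (hi : A.index = p) (hnc : ¬ IsMulCommutative X) :
    center X ≤ A ∧ Nat.card A = Nat.card (_root_.commutator X) * Nat.card (center X) := by
  have hne : A ≠ ⊤ := fun e => hp.out.ne_one (by rw [← hi, e, index_top])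
  obtain ⟨y, -, hy⟩ := SetLike.exists_of_lt (lt_top_iff_ne_top.2 hne)
  have hgen : A ⊔ zpowers y = ⊤ := by
    have h1 : (A ⊔ zpowers y).index ∣ p := hi ▸ index_dvd_of_le le_sup_left
    rcases (Nat.dvd_prime hp.out).1 h1 with e | e
    · exact index_eq_one.1 e
    · exfalso
      have h2 := A.card_mul_index
      have h3 := (A ⊔ zpowers y).card_mul_index
      rw [hi] at h2
      rw [e, ← h2] at h3
      exact hy ((eq_of_le_of_card_ge (le_sup_left : A ≤ A ⊔ zpowers y)
        (Nat.eq_of_mul_eq_mul_right hp.out.pos h3).le).ge (mem_sup_right (mem_zpowers y)))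
  have hZA : center X ≤ A := by
    intro z hz
    by_contra hzA
    refine hnc ⟨⟨fun a b => ?_⟩⟩
    have key : ∀ a ∈ A, a ∈ center X := fun a ha =>
      mem_center_of_commute hab hi hzA ha (mem_center_iff.1 hz a).symm
    have : ∀ g : X, ∃ c ∈ center X, ∃ i : ℤ, c * y ^ i = g := by
      intro g
      have hg : g ∈ (A : Set X) * (zpowers y : Set X) := by
        rw [← normal_mul, hgen]; trivial
      obtain ⟨c, hc, _, ⟨i, rfl⟩, e⟩ := hg
      exact ⟨c, key c hc, i, e⟩
    obtain ⟨c, hc, i, rfl⟩ := this a
    obtain ⟨d, hd, j, rfl⟩ := this b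
    calc c * y ^ i * (d * y ^ j) = c * d * (y ^ i * y ^ j) := by
          rw [mul_assoc, ← mul_assoc (y ^ i), mem_center_iff.1 hd (y ^ i)]; simp only [mul_assoc]
      _ = d * c * (y ^ j * y ^ i) := by rw [mem_center_iff.1 hd c, ← zpow_add, ← zpow_add, add_comm]
      _ = d * y ^ j * (c * y ^ i) := by
          rw [mul_assoc d (y ^ j), ← mul_assoc (y ^ j), mem_center_iff.1 hc (y ^ j)]; simp only [mul_assoc]
  refine ⟨hZA, ?_⟩
  have hAn : A.Normal := inferInstance
  have hcomm : ∀ a ∈ A, ⁅y, a⁆ ∈ A := fun a ha => mul_mem (hAn.conj_mem a ha y) (inv_mem ha)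
  let f : A →* A :=
    { toFun := fun a => ⟨⁅y, (a : X)⁆, hcomm a a.2⟩
      map_one' := Subtype.ext (commutatorElement_one_right y)
      map_mul' := fun a b => Subtype.ext (by
        show ⁅y, (a : X) * b⁆ = ⁅y, (a : X)⁆ * ⁅y, (b : X)⁆
        have e : ⁅y, (a : X) * b⁆ = ⁅y, (a : X)⁆ * ((a : X) * ⁅y, (b : X)⁆ * (a : X)⁻¹) := by
          simp [commutatorElement_def, mul_assoc]
        rw [e, hab a a.2 _ (hcomm b b.2), mul_inv_cancel_right]) }
  have hker : f.ker = (center X).subgroupOf A := by
    ext a
    rw [MonoidHom.mem_ker, mem_subgroupOf, Subtype.ext_iff]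
    show ⁅y, (a : X)⁆ = 1 ↔ _
    rw [commutatorElement_eq_one_iff_mul_comm]
    exact ⟨fun h => mem_center_of_commute hab hi hy a.2 h, fun h => mem_center_iff.1 h y⟩
  set R := f.range.map A.subtype
  have hR : R = _root_.commutator X := by
    refine le_antisymm ?_ ?_
    · rintro _ ⟨_, ⟨a, rfl⟩, rfl⟩
      exact commutator_mem_commutator (mem_top y) (mem_top (a : X))
    have hRA : R ≤ A := map_subtype_le _
    have hRn : R.Normal := by
      rw [← normalizer_eq_top_iff, eq_top_iff, ← hgen, sup_le_iff]
      refine ⟨fun a ha => mem_normalizer_iff.2 fun r => ?_, ?_⟩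
      · constructor
        · intro hr
          rwa [hab a ha r (hRA hr), mul_inv_cancel_right]
        · intro hr
          have hrA : r ∈ A := by
            have := hAn.conj_mem _ (hRA hr) a⁻¹
            simpa [mul_assoc] using this
          rwa [hab a ha r hrA, mul_inv_cancel_right] at hr
      rw [zpowers_le]
      refine mem_normalizer_iff_map_conj_eq.2 ?_
      refine eq_of_le_of_card_ge ?_ (card_map_of_injective (MulEquiv.injective _)).ge
      rintro _ ⟨_, ⟨_, ⟨a, rfl⟩, rfl⟩, rfl⟩
      refine ⟨_, ⟨⟨y * a * y⁻¹, hAn.conj_mem a a.2 y⟩, rfl⟩, ?_⟩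
      show ⁅y, y * (a : X) * y⁻¹⁆ = y * ⁅y, (a : X)⁆ * y⁻¹
      simp [commutatorElement_def, mul_assoc]
    refine (Normal.quotient_commutative_iff_commutator_le (N := R)).1 ?_
    let π := QuotientGroup.mk' R
    have hcA : ∀ a ∈ A, π a ∈ center (X ⧸ R) := by
      intro a ha
      have h1 : π ⁅y, a⁆ = 1 := (QuotientGroup.eq_one_iff _).2 ⟨_, ⟨⟨a, ha⟩, rfl⟩, rfl⟩
      rw [map_commutatorElement, commutatorElement_eq_one_iff_mul_comm] at h1
      have htop : A ⊔ zpowers y ≤ (centralizer ({π a} : Set (X ⧸ R))).comap π := by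
        rw [sup_le_iff]
        refine ⟨fun b hb => ?_, zpowers_le.2 ?_⟩
        · rw [mem_comap, mem_centralizer_singleton_iff, ← map_mul, ← map_mul, hab b hb a ha]
        · rw [mem_comap, mem_centralizer_singleton_iff]; exact h1
      rw [mem_center_iff]
      intro q
      obtain ⟨g, rfl⟩ := QuotientGroup.mk'_surjective R q
      exact mem_centralizer_singleton_iff.1 (htop (hgen.ge (mem_top g)))
    let g : X ⧸ R →* X ⧸ A := QuotientGroup.map R A (MonoidHom.id X) hRA
    have : IsCyclic (X ⧸ A) := isCyclic_of_prime_card (p := p) (by rw [← index_eq_card, hi])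
    refine g.isMulCommutative_of_isCyclic_of_ker_le_center ?_
    rintro q
    induction q using QuotientGroup.induction_on with | H c => ?_
    intro hq
    exact hcA c ((QuotientGroup.eq_one_iff c).1 hq)
  have h1 := f.ker.card_mul_index
  rw [index_ker, hker, Nat.card_congr (subgroupOfEquivOfLe hZA).toEquiv] at h1
  rw [← hR, card_map_of_injective A.subtype_injective, ← h1, mul_comm]

end AbelianMaximal

end CfsgLib.Transfer
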