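import Cfsg.Prelude.Def_Transfer
import Cfsg.Agent.Lib.Transfer.ClassTwo

/-!
# Special and extraspecial groups
-/

namespace CfsgLib.Transfer

open Subgroup
open scoped commutatorElement

variable {E : Type*} [Group E] [Finite E] {p : ℕ} [Fact p.Prime]

omit [Finite E] [Fact p.Prime] in
theorem special_commutatorElement_mem_center (h : Cfsg.IsSpecial p E) (x y : E) :
    ⁅x, y⁆ ∈ center E :=
  h.2.2 ▸ commutator_mem_commutator (mem_top x) (mem_top y)

theorem special_commutatorElement_pow (h : Cfsg.IsSpecial p E) (x y : E) : ⁅x, y⁆ ^ p = 1 := by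
  rw [← commutatorElement_pow_left (special_commutatorElement_mem_center h),
    commutatorElement_eq_one_iff_mul_comm]
  exact (mem_center_iff.1 (h.2.1 ▸ pow_mem_frattini h.1 x) y).symm

/-- The centre of a special group has exponent `p`. -/
theorem special_center_pow (h : Cfsg.IsSpecial p E) {z : E} (hz : z ∈ center E) : z ^ p = 1 := by
  rw [← h.2.2, commutator_eq_closure] at hz
  suffices H : z ∈ center E ∧ z ^ p = 1 from H.2
  induction hz using closure_induction with
  | mem x hx =>
    obtain ⟨a, b, rfl⟩ := hx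
    exact ⟨special_commutatorElement_mem_center h a b, special_commutatorElement_pow h a b⟩
  | one => exact ⟨one_mem _, one_pow p⟩
  | mul x y _ _ hx hy =>
    refine ⟨mul_mem hx.1 hy.1, ?_⟩
    rw [(show Commute x y from mem_center_iff.1 hy.1 x).mul_pow, hx.2, hy.2, one_mul]
  | inv x _ hx => exact ⟨inv_mem hx.1, by rw [inv_pow, hx.2, inv_one]⟩

/-- In an extraspecial group every nontrivial central element generates the centre. -/
theorem extraspecial_center_eq_zpowers (h : Cfsg.IsExtraspecial p E) {z : E} (hz : z ∈ center E)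
    (hz1 : z ≠ 1) : center E = zpowers z := by
  refine (eq_of_le_of_card_ge (zpowers_le.2 hz) ?_).symm
  rw [h.2, Nat.card_zpowers, orderOf_eq_prime (special_center_pow h.1 hz) hz1]

/-- `H` contains the centre and meets its centralizer only there. -/
def IsEsGood (H : Subgroup E) : Prop :=
  center E ≤ H ∧ H ⊓ centralizer (H : Set E) = center E

omit [Finite E] in
theorem isEsGood_top : IsEsGood (⊤ : Subgroup E) :=
  ⟨le_top, by rw [coe_top, centralizer_univ, top_inf_eq]⟩

omit [Finite E] in
theorem IsEsGood.exists_noncommuting {H : Subgroup E} (hH : IsEsGood H) {x : E} (hxH : x ∈ H)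
    (hxZ : x ∉ center E) : ∃ y ∈ H, ⁅x, y⁆ ≠ 1 := by
  by_contra! hall
  refine hxZ (hH.2 ▸ ⟨hxH, mem_centralizer_iff.2 fun y hy => ?_⟩)
  exact (commutatorElement_eq_one_iff_mul_comm.1 (hall y hy)).symm

/-- A non-commuting pair splits off a factor of order `p ^ 3`. -/
theorem IsEsGood.split (h : Cfsg.IsExtraspecial p E) {H : Subgroup E} (hH : IsEsGood H) {x y : E}
    (hxH : x ∈ H) (hyH : y ∈ H) (hxy : ⁅x, y⁆ ≠ 1) :
    IsEsGood (H ⊓ centralizer ({x, y} : Set E)) ∧
      (∀ g ∈ H, ∃ a b : ℕ, ∃ g' ∈ H ⊓ centralizer ({x, y} : Set E), g = x ^ a * y ^ b * g') ∧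
      (H ⊓ centralizer ({x, y} : Set E)).relIndex H = p ^ 2 := by
  obtain ⟨hZH, hH⟩ := hH
  have hc := special_commutatorElement_mem_center h.1
  set c := ⁅x, y⁆ with hcdef
  have hcord : orderOf c = p := orderOf_eq_prime (special_commutatorElement_pow h.1 x y) hxy
  have hcgen : ∀ z ∈ center E, ∃ k : ℕ, c ^ k = z := by
    intro z hz
    rw [extraspecial_center_eq_zpowers h (hc x y) hxy,
      ← mem_powers_iff_mem_zpowers, Submonoid.mem_powers_iff] at hz
    exact hz
  have hmem : ∀ g, g ∈ centralizer ({x, y} : Set E) ↔ ⁅x, g⁆ = 1 ∧ ⁅y, g⁆ = 1 := by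
    intro g
    simp [mem_centralizer_iff, commutatorElement_eq_one_iff_mul_comm]
  let f : H →* center E × center E :=
    { toFun := fun g => (⟨⁅x, g⁆, hc _ _⟩, ⟨⁅y, g⁆, hc _ _⟩)
      map_one' := Prod.ext (Subtype.ext (commutatorElement_one_right x))
        (Subtype.ext (commutatorElement_one_right y))
      map_mul' := fun a b => Prod.ext (Subtype.ext (commutatorElement_mul_right hc x a b))
        (Subtype.ext (commutatorElement_mul_right hc y a b)) }
  have hyx : ⁅y, x⁆ = c⁻¹ := (commutatorElement_inv x y).symm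
  have hdec : ∀ g ∈ H, ∃ a b : ℕ, ∃ g' ∈ H ⊓ centralizer ({x, y} : Set E),
      g = x ^ a * y ^ b * g' := by
    intro g hg
    obtain ⟨b, hb⟩ := hcgen _ (hc x g)
    obtain ⟨a, ha⟩ := hcgen _ (inv_mem (hc y g))
    refine ⟨a, b, (x ^ a * y ^ b)⁻¹ * g,
      mem_inf.2 ⟨mul_mem (inv_mem (mul_mem (pow_mem hxH a) (pow_mem hyH b))) hg,
        (hmem _).2 ⟨?_, ?_⟩⟩,
      (mul_inv_cancel_left _ _).symm⟩
    · have e : ⁅x, g⁆ = ⁅x, x ^ a * y ^ b⁆ * ⁅x, (x ^ a * y ^ b)⁻¹ * g⁆ := by
        rw [← commutatorElement_mul_right hc, mul_inv_cancel_left]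
      rw [commutatorElement_mul_right hc, commutatorElement_pow_right hc,
        commutatorElement_pow_right hc, commutatorElement_self, one_pow, one_mul, ← hcdef, hb] at e
      exact mul_eq_left.1 e.symm
    · have e : ⁅y, g⁆ = ⁅y, x ^ a * y ^ b⁆ * ⁅y, (x ^ a * y ^ b)⁻¹ * g⁆ := by
        rw [← commutatorElement_mul_right hc, mul_inv_cancel_left]
      rw [commutatorElement_mul_right hc, commutatorElement_pow_right hc,
        commutatorElement_pow_right hc, commutatorElement_self, one_pow, mul_one, hyx, inv_pow,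
        ha, inv_inv] at e
      exact mul_eq_left.1 e.symm
  set H' := H ⊓ centralizer ({x, y} : Set E)
  have hrel : H'.relIndex H = p ^ 2 := by
    have hker : f.ker = H'.subgroupOf H := by
      ext g
      rw [MonoidHom.mem_ker, mem_subgroupOf, Prod.ext_iff, Subtype.ext_iff, Subtype.ext_iff]
      change (⁅x, (g : E)⁆ = 1 ∧ ⁅y, (g : E)⁆ = 1) ↔ (g : E) ∈ H ⊓ centralizer ({x, y} : Set E)
      rw [mem_inf, hmem]
      simp
    have hsurj : Function.Surjective f := by
      rintro ⟨⟨z, hz⟩, ⟨w, hw⟩⟩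
      obtain ⟨b, rfl⟩ := hcgen z hz
      obtain ⟨a, ha⟩ := hcgen w⁻¹ (inv_mem hw)
      refine ⟨⟨x ^ a * y ^ b, mul_mem (pow_mem hxH a) (pow_mem hyH b)⟩, Prod.ext (Subtype.ext ?_)
        (Subtype.ext ?_)⟩
      · change ⁅x, x ^ a * y ^ b⁆ = c ^ b
        rw [commutatorElement_mul_right hc, commutatorElement_pow_right hc,
          commutatorElement_pow_right hc, commutatorElement_self, one_pow, one_mul]
      · change ⁅y, x ^ a * y ^ b⁆ = w
        rw [commutatorElement_mul_right hc, commutatorElement_pow_right hc,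
          commutatorElement_pow_right hc, commutatorElement_self, one_pow, mul_one, hyx, inv_pow,
          ha, inv_inv]
    rw [relIndex, ← hker, index_ker, MonoidHom.range_eq_top.2 hsurj, card_top, Nat.card_prod, h.2, sq]
  refine ⟨⟨?_, ?_⟩, hdec, hrel⟩
  · refine le_inf hZH fun z hz => (hmem z).2 ?_
    have h' := mem_center_iff.1 hz
    exact ⟨commutatorElement_eq_one_iff_mul_comm.2 (h' x),
      commutatorElement_eq_one_iff_mul_comm.2 (h' y)⟩
  · refine le_antisymm ?_ (le_inf ?_ ?_)
    · rintro g ⟨hg, hgc⟩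
      rw [← hH]
      refine ⟨hg.1, mem_centralizer_iff.2 fun k hk => ?_⟩
      obtain ⟨a, b, k', hk', rfl⟩ := hdec k hk
      have hgx := mem_centralizer_iff.1 hg.2 x (Set.mem_insert _ _)
      have hgy := mem_centralizer_iff.1 hg.2 y (Set.mem_insert_of_mem _ rfl)
      exact (((show Commute x g from hgx).pow_left a).mul_left
        ((show Commute y g from hgy).pow_left b)).mul_left (mem_centralizer_iff.1 hgc k' hk')
    · refine le_inf hZH fun z hz => (hmem z).2 ?_
      have h' := mem_center_iff.1 hz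
      exact ⟨commutatorElement_eq_one_iff_mul_comm.2 (h' x),
        commutatorElement_eq_one_iff_mul_comm.2 (h' y)⟩
    · exact fun z hz => mem_centralizer_iff.2 fun k _ => mem_center_iff.1 hz k

/-- Induction along a hyperbolic decomposition: a property holding at `Z(E)` and inherited from
`H ∩ C(x) ∩ C(y)` by `H` (`x, y ∈ H` non-commuting) holds at `E`. -/
theorem extraspecial_induction (h : Cfsg.IsExtraspecial p E) {motive : Subgroup E → Prop}
    (base : motive (center E))
    (step : ∀ (H : Subgroup E) (x y : E), x ∈ H → y ∈ H → ⁅x, y⁆ ≠ 1 → center E ≤ H →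
      (∀ g ∈ H, ∃ a b : ℕ, ∃ g' ∈ H ⊓ centralizer ({x, y} : Set E), g = x ^ a * y ^ b * g') →
      (H ⊓ centralizer ({x, y} : Set E)).relIndex H = p ^ 2 →
      motive (H ⊓ centralizer ({x, y} : Set E)) → motive H) :
    motive ⊤ := by
  suffices H : ∀ H : Subgroup E, IsEsGood H → motive H from H ⊤ isEsGood_top
  intro H
  induction hn : Nat.card H using Nat.strong_induction_on generalizing H with
  | _ n ih => ?_
  subst hn
  intro hH
  rcases eq_or_ne H (center E) with rfl | hne
  · exact base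
  obtain ⟨x, hxH, hxZ⟩ := SetLike.exists_of_lt (lt_of_le_of_ne hH.1 hne.symm)
  obtain ⟨y, hyH, hxy⟩ := hH.exists_noncommuting hxH hxZ
  obtain ⟨hgood, hdec, hrel⟩ := hH.split h hxH hyH hxy
  refine step H x y hxH hyH hxy hH.1 hdec hrel (ih _ ?_ _ rfl hgood)
  have h1 := relIndex_mul_relIndex ⊥ _ H bot_le
    (inf_le_left : H ⊓ centralizer ({x, y} : Set E) ≤ H)
  rw [relIndex_bot_left, relIndex_bot_left, hrel] at h1
  rw [← h1]
  exact lt_mul_of_one_lt_right Nat.card_pos
    (Nat.one_lt_pow (by norm_num) (Fact.out : p.Prime).one_lt)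

/-- An extraspecial group has order `p ^ (2 n + 1)` with `n ≥ 1`. -/
theorem extraspecial_card (h : Cfsg.IsExtraspecial p E) :
    ∃ n : ℕ, 1 ≤ n ∧ Nat.card E = p ^ (2 * n + 1) := by
  obtain ⟨n, hn⟩ : ∃ n, Nat.card (⊤ : Subgroup E) = p ^ (2 * n + 1) := by
    refine extraspecial_induction (motive := fun H => ∃ n, Nat.card H = p ^ (2 * n + 1)) h
      ⟨0, by rw [h.2]; simp⟩ fun H x y _ _ _ _ _ hrel ⟨n, hn⟩ => ⟨n + 1, ?_⟩
    have h1 := relIndex_mul_relIndex ⊥ _ H bot_le
      (inf_le_left : H ⊓ centralizer ({x, y} : Set E) ≤ H)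
    rw [relIndex_bot_left, relIndex_bot_left, hrel, hn] at h1
    rw [← h1, ← pow_add]; congr 1
  rw [card_top] at hn
  refine ⟨n, ?_, hn⟩
  by_contra hn0
  obtain rfl : n = 0 := by omega
  have htop : center E = ⊤ := eq_top_of_card_eq _ (by rw [h.2, hn]; simp)
  have hb : _root_.commutator E = ⊥ := by
    rw [commutator_def, commutator_eq_bot_iff_le_centralizer, coe_top, centralizer_univ, htop]
  have := h.2
  rw [← h.1.2.2, hb, card_bot] at this
  exact (Fact.out : p.Prime).ne_one this.symm

/-- Every homomorphism `E → Z(E)` killing the centre is a commutator map. -/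
theorem extraspecial_exists_commutator_eq (h : Cfsg.IsExtraspecial p E) (c : E →* center E)
    (hker : center E ≤ c.ker) : ∃ e : E, ∀ g, (c g : E) = ⁅e, g⁆ := by
  have hc := special_commutatorElement_mem_center h.1
  have key : ∃ e ∈ (⊤ : Subgroup E), ∀ g ∈ (⊤ : Subgroup E), (c g : E) = ⁅e, g⁆ := by
    refine extraspecial_induction (motive := fun H => ∃ e ∈ H, ∀ g ∈ H, (c g : E) = ⁅e, g⁆) h
      ⟨1, one_mem _, fun g hg => by
        rw [commutatorElement_one_left, MonoidHom.mem_ker.1 (hker hg)]; rfl⟩ ?_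
    rintro H x y hx hy hxy - hdec - ⟨e, ⟨heH, heC⟩, he⟩
    set d := ⁅x, y⁆
    have hgen : ∀ z ∈ center E, ∃ k : ℕ, d ^ k = z := by
      intro z hz
      rw [extraspecial_center_eq_zpowers h (hc x y) hxy,
        ← mem_powers_iff_mem_zpowers, Submonoid.mem_powers_iff] at hz
      exact hz
    obtain ⟨a, ha⟩ := hgen _ (c y).2
    obtain ⟨b, hb⟩ := hgen _ (inv_mem (c x).2)
    have hex : ⁅e, x⁆ = 1 := commutatorElement_eq_one_iff_mul_comm.2
      (mem_centralizer_iff.1 heC x (Set.mem_insert _ _)).symm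
    have hey : ⁅e, y⁆ = 1 := commutatorElement_eq_one_iff_mul_comm.2
      (mem_centralizer_iff.1 heC y (Set.mem_insert_of_mem _ rfl)).symm
    have hyx : ⁅y, x⁆ = d⁻¹ := (commutatorElement_inv x y).symm
    refine ⟨x ^ a * y ^ b * e, mul_mem (mul_mem (pow_mem hx a) (pow_mem hy b)) heH,
      fun g hg => ?_⟩
    obtain ⟨i, j, g', hg', rfl⟩ := hdec g hg
    have hX : ⁅x ^ a * y ^ b * e, x⁆ = c x := by
      rw [commutatorElement_mul_left hc, commutatorElement_mul_left hc,
        commutatorElement_pow_left hc, commutatorElement_pow_left hc, commutatorElement_self,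
        one_pow, one_mul, hyx, inv_pow, hb, inv_inv, hex, mul_one]
    have hY : ⁅x ^ a * y ^ b * e, y⁆ = c y := by
      rw [commutatorElement_mul_left hc, commutatorElement_mul_left hc,
        commutatorElement_pow_left hc, commutatorElement_pow_left hc, commutatorElement_self,
        one_pow, mul_one, ha, hey, mul_one]
    have hxg : ⁅x, g'⁆ = 1 := commutatorElement_eq_one_iff_mul_comm.2
      (mem_centralizer_iff.1 hg'.2 x (Set.mem_insert _ _))
    have hyg : ⁅y, g'⁆ = 1 := commutatorElement_eq_one_iff_mul_comm.2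
      (mem_centralizer_iff.1 hg'.2 y (Set.mem_insert_of_mem _ rfl))
    have hG : ⁅x ^ a * y ^ b * e, g'⁆ = c g' := by
      rw [commutatorElement_mul_left hc, commutatorElement_mul_left hc,
        commutatorElement_pow_left hc, commutatorElement_pow_left hc, hxg, hyg, one_pow, one_pow,
        one_mul, one_mul, he g' hg']
    rw [commutatorElement_mul_right hc, commutatorElement_mul_right hc,
      commutatorElement_pow_right hc, commutatorElement_pow_right hc, hX, hY, hG,
      map_mul, map_mul, map_pow, map_pow]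
    rfl
  obtain ⟨e, -, he⟩ := key
  exact ⟨e, fun g => he g (mem_top g)⟩

end CfsgLib.Transfer
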