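import Cfsg.Agent.Lib.Transfer.Q8SL
import Cfsg.Agent.Lib.Transfer.Frobenius
import Cfsg.Agent.Lib.Solvable.UniqueSubgroup
import Cfsg.Agent.Lib.Classical.SLTwoSylow

/-!
# Quaternion Sylow 2-subgroups and `SL(2,3)` sections
-/

namespace CfsgLib.Transfer

open Subgroup

theorem quaternion_eq_of_orderOf_two {m : ℕ} [NeZero m] {x : QuaternionGroup m}
    (hx : orderOf x = 2) : x = QuaternionGroup.a (m : ZMod (2 * m)) := by
  have : NeZero (2 * m) := ⟨mul_ne_zero two_ne_zero (NeZero.ne m)⟩
  rcases x with i | i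
  · rw [QuaternionGroup.orderOf_a] at hx
    congr 1
    rw [← ZMod.natCast_zmod_val i]
    congr 1
    have hd := Nat.gcd_dvd_right (2 * m) i.val
    have hd' := Nat.div_mul_cancel (Nat.gcd_dvd_left (2 * m) i.val)
    rw [hx] at hd'
    have hg : Nat.gcd (2 * m) i.val = m := by omega
    rw [hg] at hd
    obtain ⟨c, hc⟩ := hd
    have hlt := i.val_lt
    have hm := NeZero.pos m
    rw [hc] at hlt ⊢
    have hc2 : c < 2 := by
      by_contra h
      exact absurd hlt (not_lt.2 (by nlinarith))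
    interval_cases c
    · exfalso
      rw [hc, mul_zero, Nat.gcd_zero_right] at hg
      omega
    · rw [mul_one]
  · rw [QuaternionGroup.orderOf_xa] at hx
    omega

theorem mulAut_eq_one_of_isCyclic_two {C : Type*} [Group C] [Finite C] [IsCyclic C]
    (hC : IsPGroup 2 C) (φ : MulAut C) {r : ℕ} (hr : Odd r) (hφ : φ ^ r = 1) : φ = 1 := by
  obtain ⟨k, hk⟩ := hC.exists_card_eq
  have h : orderOf φ ∣ 2 ^ k := by
    have h1 := orderOf_dvd_natCard φ
    rw [IsCyclic.card_mulAut, hk] at h1
    refine h1.trans ?_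
    rcases k with - | k
    · simp
    · rw [Nat.totient_prime_pow_succ Nat.prime_two, pow_succ]
      simp
  exact orderOf_eq_one_iff.1 (Nat.eq_one_of_dvd_coprimes
    (Nat.Coprime.pow_right k (Nat.coprime_two_right.2 hr)) (orderOf_dvd_of_pow_eq_one hφ) h)

theorem mulAut_eq_one_of_quaternion_big {m : ℕ} (hm : 2 ≤ m) (φ : MulAut (QuaternionGroup (2 ^ m)))
    {r : ℕ} (hr : Odd r) (hφ : φ ^ r = 1) : φ = 1 := by
  have : NeZero (2 ^ m) := ⟨by positivity⟩
  have : NeZero (2 * 2 ^ m) := ⟨by positivity⟩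
  have h4 : 4 < 2 * 2 ^ m := by
    have := Nat.pow_le_pow_right (show 0 < 2 by norm_num) hm
    omega
  obtain ⟨i, hi⟩ : ∃ i, φ (QuaternionGroup.a 1) = QuaternionGroup.a i := by
    have ho : orderOf (φ (QuaternionGroup.a 1)) = 2 * 2 ^ m := by
      rw [MulEquiv.orderOf_eq, QuaternionGroup.orderOf_a_one]
    rcases hx : φ (QuaternionGroup.a 1) with i | i
    · exact ⟨i, rfl⟩
    · rw [hx, QuaternionGroup.orderOf_xa] at ho
      omega
  have ha : ∀ j : ZMod (2 * 2 ^ m), φ (QuaternionGroup.a j) = QuaternionGroup.a (j * i) := by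
    intro j
    rw [← ZMod.natCast_zmod_val j, ← QuaternionGroup.a_one_pow, map_pow, hi]
    induction j.val with
    | zero => rw [pow_zero, Nat.cast_zero, zero_mul, QuaternionGroup.a_zero]
    | succ k ih => rw [pow_succ, ih, QuaternionGroup.a_mul_a]; congr 1; push_cast; ring
  have hpow : ∀ k : ℕ, (φ ^ k) (QuaternionGroup.a 1) = QuaternionGroup.a (i ^ k) := by
    intro k
    induction k with
    | zero => rw [pow_zero, MulAut.one_apply, pow_zero]
    | succ k ih => rw [pow_succ', MulAut.mul_apply, ih, ha, pow_succ]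
  have hi1 : i = 1 := by
    have h := hpow r
    rw [hφ, MulAut.one_apply] at h
    injection h with h'
    have hu : IsUnit i := IsUnit.of_pow_eq_one h'.symm (by rintro rfl; exact absurd hr (by decide))
    obtain ⟨u, rfl⟩ := hu
    have hur : u ^ r = 1 := Units.ext (by rw [Units.val_pow_eq_pow_val]; exact h'.symm)
    have h2 : orderOf u ∣ 2 ^ m := by
      have := orderOf_dvd_natCard u
      rw [Nat.card_eq_fintype_card, ZMod.card_units_eq_totient] at this
      refine this.trans ?_
      rw [← pow_succ', Nat.totient_prime_pow_succ Nat.prime_two]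
      simp
    have := orderOf_eq_one_iff.1 (Nat.eq_one_of_dvd_coprimes
      (Nat.Coprime.pow_right m (Nat.coprime_two_right.2 hr)) (orderOf_dvd_of_pow_eq_one hur) h2)
    rw [this, Units.val_one]
  subst hi1
  obtain ⟨j, hj⟩ : ∃ j, φ (QuaternionGroup.xa 0) = QuaternionGroup.xa j := by
    rcases hx : φ (QuaternionGroup.xa 0) with j | j
    · have := φ.injective (hx.trans ((ha j).trans (by rw [mul_one])).symm)
      cases this
    · exact ⟨j, rfl⟩
  have hxa : ∀ t : ZMod (2 * 2 ^ m), φ (QuaternionGroup.xa t) = QuaternionGroup.xa (j + t) := by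
    intro t
    have : QuaternionGroup.xa t = QuaternionGroup.xa 0 * QuaternionGroup.a t := by
      rw [QuaternionGroup.xa_mul_a, zero_add]
    rw [this, map_mul, hj, ha, mul_one, QuaternionGroup.xa_mul_a]
  have hpow2 : ∀ k : ℕ, (φ ^ k) (QuaternionGroup.xa 0) = QuaternionGroup.xa ((k : ZMod (2 * 2 ^ m)) * j) := by
    intro k
    induction k with
    | zero => rw [pow_zero, MulAut.one_apply, Nat.cast_zero, zero_mul]
    | succ k ih => rw [pow_succ', MulAut.mul_apply, ih, hxa]; congr 1; push_cast; ring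
  have h := hpow2 r
  rw [hφ, MulAut.one_apply] at h
  injection h with h'
  have hru : IsUnit (r : ZMod (2 * 2 ^ m)) := by
    rw [ZMod.isUnit_iff_coprime, ← pow_succ']
    exact Nat.Coprime.pow_right _ (Nat.coprime_two_right.2 hr)
  have hj0 : j = 0 := hru.mul_right_eq_zero.1 h'.symm
  subst hj0
  refine MulEquiv.ext fun x => ?_
  rcases x with t | t
  · rw [ha, mul_one, MulAut.one_apply]
  · rw [hxa, zero_add, MulAut.one_apply]

variable {G : Type*} [Group G] [Finite G]

omit [Finite G] in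
theorem section_of_realization {M : Type*} [Group M] (D : Subgroup G) {g : G}
    (hg : g ∈ normalizer (D : Set G)) (hco : (Nat.card D).Coprime (orderOf g))
    (ι : D →* M) {s : M} (hs : s ^ orderOf g = 1)
    (hcomp : ∀ d : D, ι (D.normalizerMonoidHom ⟨g, hg⟩ d) = s * ι d * s⁻¹)
    (hsurj : closure (Set.range ι ∪ {s}) = ⊤) :
    ∃ (H K : Subgroup G) (_ : (K.subgroupOf H).Normal),
      Nonempty ((H ⧸ K.subgroupOf H) ≃* M) := by
  let ψ : Multiplicative ℤ →* MulAut D :=
    D.normalizerMonoidHom.comp (zpowersHom (normalizer (D : Set G)) ⟨g, hg⟩)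
  have hψ : ∀ n d, ((ψ n d : D) : G) = g ^ n.toAdd * d * (g ^ n.toAdd)⁻¹ := fun n d => by
    show ((D.normalizerMonoidHom ((⟨g, hg⟩ : normalizer (D : Set G)) ^ n.toAdd) d : D) : G) = _
    rfl
  let π : D ⋊[ψ] Multiplicative ℤ →* G := SemidirectProduct.lift D.subtype (zpowersHom G g)
    (fun n => MonoidHom.ext fun d => hψ n d)
  have hcomp' : ∀ n d, ι (ψ n d) = s ^ n.toAdd * ι d * (s ^ n.toAdd)⁻¹ := by
    intro n
    obtain ⟨n, rfl⟩ := Multiplicative.ofAdd.surjective n
    show ∀ d, ι (ψ (Multiplicative.ofAdd n) d) = s ^ n * ι d * (s ^ n)⁻¹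
    have h1 : ψ (Multiplicative.ofAdd (1 : ℤ)) = D.normalizerMonoidHom ⟨g, hg⟩ := by
      show D.normalizerMonoidHom ((⟨g, hg⟩ : normalizer (D : Set G)) ^ (1 : ℤ)) = _
      rw [zpow_one]
    induction n with
    | zero =>
      intro d
      rw [ofAdd_zero, map_one, MulAut.one_apply, zpow_zero, one_mul, inv_one, mul_one]
    | succ n ih =>
      intro d
      rw [add_comm ((n : ℤ)) 1, ofAdd_add, map_mul, MulAut.mul_apply, h1, hcomp, ih, zpow_add, zpow_one]
      group
    | pred n ih =>
      intro d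
      have h2 := ih d
      rw [show -(n : ℤ) = 1 + (-n - 1) by ring, ofAdd_add, map_mul, MulAut.mul_apply, h1, hcomp,
        zpow_add, zpow_one] at h2
      have h3 : s * ι (ψ (Multiplicative.ofAdd (-(n : ℤ) - 1)) d) * s⁻¹
          = s * (s ^ (-(n : ℤ) - 1) * ι d * (s ^ (-(n : ℤ) - 1))⁻¹) * s⁻¹ := by
        rw [h2]; group
      exact mul_left_cancel (mul_right_cancel h3)
  let ρ : D ⋊[ψ] Multiplicative ℤ →* M := SemidirectProduct.lift ι (zpowersHom M s)
    (fun n => MonoidHom.ext fun d => hcomp' n d)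
  have hρ : Function.Surjective ρ := by
    rw [← MonoidHom.range_eq_top, eq_top_iff, ← hsurj, closure_le]
    rintro _ (⟨d, rfl⟩ | rfl)
    · exact ⟨SemidirectProduct.inl d, SemidirectProduct.lift_inl ..⟩
    · exact ⟨SemidirectProduct.inr (Multiplicative.ofAdd 1), by
        rw [SemidirectProduct.lift_inr, zpowersHom_apply, toAdd_ofAdd, zpow_one]⟩
  have hker : π.rangeRestrict.ker ≤ ρ.ker := by
    rw [π.ker_rangeRestrict]
    rintro ⟨d, n⟩ h
    have h' : (d : G) * g ^ n.toAdd = 1 := h
    have hmem : g ^ n.toAdd ∈ D := by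
      rw [eq_inv_of_mul_eq_one_right h']; exact inv_mem d.2
    have h1 : g ^ n.toAdd = 1 := orderOf_eq_one_iff.1 (Nat.eq_one_of_dvd_coprimes hco
      (by rw [← Subgroup.orderOf_mk _ hmem]; exact orderOf_dvd_natCard _)
      (orderOf_dvd_of_pow_eq_one (by
        rw [← zpow_natCast, ← zpow_mul, mul_comm, zpow_mul, zpow_natCast, pow_orderOf_eq_one, one_zpow])))
    rw [h1, mul_one] at h'
    have hd : d = 1 := Subtype.ext h'
    have hn : s ^ n.toAdd = 1 := by
      obtain ⟨c, hc⟩ := orderOf_dvd_iff_zpow_eq_one.2 h1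
      rw [hc, zpow_mul, zpow_natCast, hs, one_zpow]
    show ι d * s ^ n.toAdd = 1
    rw [hd, map_one, one_mul, hn]
  let F : π.range →* M := π.rangeRestrict.liftOfSurjective π.rangeRestrict_surjective ⟨ρ, hker⟩
  have hF : Function.Surjective F := fun m => by
    obtain ⟨x, rfl⟩ := hρ m
    exact ⟨π.rangeRestrict x, MonoidHom.liftOfRightInverse_comp_apply _ _ _ _ _⟩
  have hK : (F.ker.map π.range.subtype).subgroupOf π.range = F.ker :=
    comap_map_eq_self_of_injective (subtype_injective _) _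
  have hKn : ((F.ker.map π.range.subtype).subgroupOf π.range).Normal := by
    rw [hK]; infer_instance
  refine ⟨π.range, F.ker.map π.range.subtype, hKn, ⟨?_⟩⟩
  exact (QuotientGroup.quotientMulEquivOfEq hK).trans
    (QuotientGroup.quotientKerEquivOfSurjective F hF)

/-- A group with quaternion Sylow 2-subgroup has a normal 2-complement or an `SL(2,3)` section. -/
theorem normalPComplement_or_sl23_section {n : ℕ} (T : Sylow 2 G)
    (hT : Nonempty ((T : Subgroup G) ≃* QuaternionGroup (2 ^ n))) :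
    Cfsg.HasNormalPComplement 2 G ∨ ∃ (H K : Subgroup G) (_ : (K.subgroupOf H).Normal),
      Nonempty ((H ⧸ K.subgroupOf H) ≃* Matrix.SpecialLinearGroup (Fin 2) (ZMod 3)) := by
  obtain ⟨eT⟩ := hT
  refine or_iff_not_imp_left.2 fun hnc => ?_
  rw [hasNormalPComplement_iff_frobenius] at hnc
  push Not at hnc
  obtain ⟨D, hD, g, hg, hgo, hgc⟩ := hnc
  have hodd : Odd (orderOf g) := Nat.coprime_two_right.1 hgo
  set φ := D.normalizerMonoidHom ⟨g, hg⟩ with hφdef
  have hφ : φ ^ orderOf g = 1 := by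
    have h1 : (⟨g, hg⟩ : normalizer (D : Set G)) ^ orderOf g = 1 :=
      Subtype.ext (pow_orderOf_eq_one g)
    rw [hφdef, ← map_pow, h1, map_one]
  have hφne : φ ≠ 1 := fun h => hgc (by
    have : (⟨g, hg⟩ : normalizer (D : Set G)) ∈ D.normalizerMonoidHom.ker := h
    rw [normalizerMonoidHom_ker, mem_subgroupOf] at this
    exact this)
  have : NeZero (2 ^ n) := ⟨by positivity⟩
  obtain ⟨S, hDS⟩ := hD.exists_le_sylow
  have e : (S : Subgroup G) ≃* QuaternionGroup (2 ^ n) := (S.equiv T).trans eT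
  have huniq : ∀ x y : D, orderOf x = 2 → orderOf y = 2 → x = y := fun x y hx hy => by
    refine inclusion_injective hDS (e.injective ?_)
    rw [quaternion_eq_of_orderOf_two (x := e (inclusion hDS x)),
      quaternion_eq_of_orderOf_two (x := e (inclusion hDS y))] <;>
    rwa [MulEquiv.orderOf_eq, orderOf_injective _ (inclusion_injective hDS)]
  rcases CfsgLib.Solvable.isCyclic_or_quaternion_of_unique hD (fun A B hA hB => by
      have key : ∀ L : Subgroup D, Nat.card L = 2 → ∃ x : D, orderOf x = 2 ∧ L = zpowers x := by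
        intro L hL
        obtain ⟨x, hx⟩ := exists_prime_orderOf_dvd_card' (G := L) 2 (by rw [hL])
        exact ⟨x, by rw [Subgroup.orderOf_coe, hx], (eq_of_le_of_card_ge (zpowers_le.2 x.2)
          (by rw [hL, Nat.card_zpowers, Subgroup.orderOf_coe, hx])).symm⟩
      obtain ⟨x, hx, rfl⟩ := key A hA
      obtain ⟨y, hy, rfl⟩ := key B hB
      rw [huniq x y hx hy]) with hc | ⟨-, m, ⟨eD⟩⟩
  · exact absurd (mulAut_eq_one_of_isCyclic_two hD φ hodd hφ) hφne
  have hφ' : MulAut.congr eD φ ^ orderOf g = 1 := by rw [← map_pow, hφ, map_one]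
  have hφne' : MulAut.congr eD φ ≠ 1 := fun h => hφne (by
    have := congrArg (MulAut.congr eD).symm h
    rwa [MulEquiv.symm_apply_apply, map_one] at this)
  rcases m with - | - | m
  · have : IsCyclic D := by
      have : IsCyclic (QuaternionGroup (2 ^ 0)) := QuaternionGroup.quaternionGroup_one_isCyclic
      exact eD.isCyclic.2 this
    exact absurd (mulAut_eq_one_of_isCyclic_two hD φ hodd hφ) hφne
  swap
  · exact absurd (mulAut_eq_one_of_quaternion_big (by omega) _ hodd hφ') hφne'
  let e8 : D ≃* QuaternionGroup 2 := eD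
  obtain ⟨ι, s, hι, hs, hφ3, hcomp⟩ :=
    QSL.exists_sl23_realization (MulAut.congr e8 φ) hφne' hodd hφ'
  have h3g : 3 ∣ orderOf g := hφ3 ▸ orderOf_dvd_of_pow_eq_one hφ'
  refine section_of_realization D hg ?_ (ι.comp e8.toMonoidHom) (s := s)
    (orderOf_dvd_iff_pow_eq_one.1 (hs.symm ▸ h3g)) (fun d => ?_) ?_
  · rw [Nat.card_congr e8.toEquiv, Nat.card_eq_fintype_card, QuaternionGroup.card]
    exact (Nat.Coprime.pow_left 3 (Nat.coprime_two_left.2 hodd) : Nat.Coprime (2 ^ 3) _)
  · have := hcomp (e8 d)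
    simpa [MulAut.congr] using this
  · set R := Subgroup.closure (Set.range (ι.comp e8.toMonoidHom) ∪ {s})
    refine eq_top_of_le_card R ?_
    have h8 : 8 ∣ Nat.card R := by
      have h1 : (ι.comp e8.toMonoidHom).range ≤ R := fun x hx => subset_closure (Or.inl hx)
      have h2 := card_dvd_of_le h1
      rwa [← Nat.card_congr
          (MonoidHom.ofInjective (f := ι.comp e8.toMonoidHom) (hι.comp e8.injective)).toEquiv,
        Nat.card_congr e8.toEquiv, Nat.card_eq_fintype_card, QuaternionGroup.card] at h2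
    have h3 : 3 ∣ Nat.card R := by
      have h := orderOf_dvd_natCard (⟨s, subset_closure (Or.inr rfl)⟩ : R)
      rwa [Subgroup.orderOf_mk, hs] at h
    have h24 := Nat.le_of_dvd Nat.card_pos
      (Nat.Coprime.mul_dvd_of_dvd_of_dvd (show Nat.Coprime 8 3 by norm_num) h8 h3)
    rw [CfsgLib.Classical.card_sl_two_eq, ZMod.card]
    exact h24

end CfsgLib.Transfer
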