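import Cfsg.Agent.Lib.Transfer.Simple168
import Cfsg.Agent.S1012

/-!
# Four-groups and maximal subgroups of simple groups of order 168
-/

namespace CfsgLib.Transfer

open Subgroup
open scoped Nat Pointwise

section General

variable {G : Type*} [Group G]

/-- Subgroups isomorphic to the four-group, as sets. -/
theorem isKleinFour_subgroup_iff (U : Subgroup G) :
    IsKleinFour U ↔ Nat.card U = 4 ∧ ∀ u ∈ U, u * u = 1 := by
  constructor
  · intro h
    refine ⟨h.card_four, fun u hu => ?_⟩
    exact congrArg Subtype.val (IsKleinFour.mul_self (⟨u, hu⟩ : U))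
  · rintro ⟨h4, h2⟩
    have : Finite U := Nat.finite_of_card_ne_zero (by rw [h4]; norm_num)
    have : Nontrivial U := Finite.one_lt_card_iff_nontrivial.1 (by rw [h4]; norm_num)
    refine ⟨h4, (Nat.prime_two.eq_one_or_self_of_dvd _ ?_).resolve_left
      (fun e => (not_subsingleton U) (Monoid.exp_eq_one_iff.1 e))⟩
    exact Monoid.exponent_dvd_of_forall_pow_eq_one fun u => Subtype.ext (by rw [sq]; exact h2 u u.2)

theorem isKleinFour_map {H : Type*} [Group H] (f : G →* H) (hf : Function.Injective f)
    {U : Subgroup G} (hU : IsKleinFour U) : IsKleinFour (U.map f) := by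
  rw [isKleinFour_subgroup_iff] at hU ⊢
  refine ⟨by rw [card_map_of_injective hf, hU.1], ?_⟩
  rintro _ ⟨u, hu, rfl⟩
  rw [← map_mul, hU.2 u hu, map_one]

/-- A dihedral group of order eight has two four-subgroups. -/
theorem card_klein_dihedral_four :
    Nat.card {U : Subgroup (DihedralGroup 4) // IsKleinFour U} = 2 := by
  classical
  let D := DihedralGroup 4
  let S : Finset (Finset D) := (Finset.univ.powersetCard 4).filter
    fun s => (1 : D) ∈ s ∧ ∀ a ∈ s, a * a = 1 ∧ ∀ b ∈ s, a * b ∈ s
  have hS : S.card = 2 := by decide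
  let e : {U : Subgroup D // IsKleinFour U} ≃ S :=
    { toFun := fun U => ⟨Finset.univ.filter (· ∈ U.1), by
        obtain ⟨h4, h2⟩ := (isKleinFour_subgroup_iff U.1).1 U.2
        simp only [S, Finset.mem_filter, Finset.mem_powersetCard, Finset.mem_univ, true_and]
        refine ⟨⟨Finset.subset_univ _, ?_⟩, one_mem _, fun a ha => ⟨h2 a ha, fun b hb => mul_mem ha hb⟩⟩
        rw [← Fintype.card_subtype, ← Nat.card_eq_fintype_card]
        exact h4⟩
      invFun := fun s =>
        have hs : s.1.card = 4 ∧ (1 : D) ∈ s.1 ∧ ∀ a ∈ s.1, a * a = 1 ∧ ∀ b ∈ s.1, a * b ∈ s.1 := by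
          have := s.2
          simp only [S, Finset.mem_filter, Finset.mem_powersetCard] at this
          exact ⟨this.1.2, this.2⟩
        ⟨{ carrier := s.1
           one_mem' := hs.2.1
           mul_mem' := fun {a b} ha hb => (hs.2.2 a ha).2 b hb
           inv_mem' := fun {a} ha => by
             show a⁻¹ ∈ s.1
             rw [inv_eq_of_mul_eq_one_right (hs.2.2 a ha).1]
             exact ha }, (isKleinFour_subgroup_iff _).2 ⟨
            (Nat.card_eq_finsetCard s.1).trans hs.1, fun a ha => (hs.2.2 a ha).1⟩⟩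
      left_inv := fun U => by ext x; simp
      right_inv := fun s => by ext x; simp }
  rw [Nat.card_congr e, Nat.card_eq_finsetCard, hS]

end General

section OneSixtyEight

variable {G : Type*} [Group G] [Finite G] [IsSimpleGroup G] (h : Nat.card G = 168)
include h

omit [IsSimpleGroup G] in
theorem le_normalizer_klein_168 {T : Sylow 2 G} {U : Subgroup G} (hUT : U ≤ (T : Subgroup G))
    (hU : IsKleinFour U) : (T : Subgroup G) ≤ normalizer (U : Set G) := by
  have h1 := relIndex_mul_relIndex ⊥ U (T : Subgroup G) bot_le hUT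
  rw [relIndex_bot_left, relIndex_bot_left, hU.card_four, card_sylow_two_168 h T] at h1
  have hn : (U.subgroupOf (T : Subgroup G)).Normal :=
    normal_of_index_eq_two (show U.relIndex (T : Subgroup G) = 2 by omega)
  exact (normal_subgroupOf_iff_le_normalizer hUT).1 hn

omit h [IsSimpleGroup G] [Finite G] in
theorem exists_sylow_ge_klein_168 {U : Subgroup G} (hU : IsKleinFour U) :
    ∃ T : Sylow 2 G, U ≤ (T : Subgroup G) :=
  (IsPGroup.of_card (n := 2) (hU.card_four.trans (by norm_num))).exists_le_sylow

theorem centralizer_involution_card_168 {u : G} (hu : orderOf u = 2) :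
    Nat.card (centralizer ({u} : Set G)) = 8 := by
  have h1 := card_isConj_mul_card_centralizer u
  rw [h, show Nat.card {g : G // IsConj u g} = Nat.card {g : G // orderOf g = 2} from
    Nat.card_congr (Equiv.subtypeEquivRight fun g => ⟨fun hg => by
      obtain ⟨k, rfl⟩ := isConj_iff.1 hg
      rw [← MulAut.conj_apply, MulEquiv.orderOf_eq, hu],
      fun hg => isConj_involution_168 h hu hg⟩), card_involutions_168 h] at h1
  omega

theorem card_normalizer_klein_168 {U : Subgroup G} (hU : IsKleinFour U) :
    Nat.card (normalizer (U : Set G)) = 24 := by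
  have : Fact (Nat.Prime 2) := ⟨Nat.prime_two⟩
  have hG := nonabelian_168 h
  obtain ⟨T, hUT⟩ := exists_sylow_ge_klein_168 hU
  have hTN := le_normalizer_klein_168 h hUT hU
  set N := normalizer (U : Set G)
  have hN1 : N ≠ ⊤ := by
    intro e
    rcases IsSimpleGroup.eq_bot_or_eq_top_of_normal U (normalizer_eq_top_iff.1 e) with e' | e'
    · have := hU.card_four; rw [e', card_bot] at this; norm_num at this
    · have := hU.card_four; rw [e', card_top, h] at this; norm_num at this
  have hd : 8 ∣ Nat.card N := (card_sylow_two_168 h T).symm.dvd.trans (card_dvd_of_le hTN)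
  have h2 := two_mul_card_dvd_factorial hG hN1
  have h3 := N.card_mul_index
  rw [h] at h2 h3
  have h8 : Nat.card N ≠ 8 := by
    intro e8
    have hNT : (T : Subgroup G) = N :=
      eq_of_le_of_card_ge hTN (by rw [e8, card_sylow_two_168 h T])
    -- an element of `U` outside the centre of `T`
    obtain ⟨u, huU, t, htT, hut⟩ : ∃ u ∈ U, ∃ t ∈ (T : Subgroup G), t * u ≠ u * t := by
      by_contra! hcon
      have hle : U.subgroupOf (T : Subgroup G) ≤ center (T : Subgroup G) := fun w hw =>
        mem_center_iff.2 fun t => Subtype.ext (hcon w hw t t.2)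
      have := card_dvd_of_le hle
      rw [Nat.card_congr (subgroupOfEquivOfLe hUT).toEquiv, hU.card_four, (sylow2_168 h T).2.1] at this
      norm_num at this
    have hu2 : orderOf u = 2 := orderOf_eq_prime
      (by rw [sq]; exact ((isKleinFour_subgroup_iff U).1 hU).2 u huU)
      (fun e => hut (by rw [e, one_mul, mul_one]))
    obtain ⟨R, hR⟩ := (IsPGroup.of_card (p := 2) (n := 3)
      (show Nat.card (centralizer ({u} : Set G)) = 2 ^ 3 by
        rw [centralizer_involution_card_168 h hu2]; norm_num)).exists_le_sylow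
    have hRe : centralizer ({u} : Set G) = (R : Subgroup G) := eq_of_le_of_card_ge hR
      (by rw [centralizer_involution_card_168 h hu2, card_sylow_two_168 h R])
    have hUR : U ≤ (R : Subgroup G) := hRe ▸ fun w hw => mem_centralizer_singleton_comm.2 (by
      have := hU.isMulCommutative
      exact congrArg Subtype.val (this.is_comm.comm (⟨w, hw⟩ : U) ⟨u, huU⟩))
    have hRT : (R : Subgroup G) = (T : Subgroup G) :=
      eq_of_le_of_card_ge ((le_normalizer_klein_168 h hUR hU).trans hNT.ge)
        (by rw [card_sylow_two_168 h R, card_sylow_two_168 h T])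
    exact hut (mem_centralizer_singleton_comm.1 ((hRe.trans hRT).ge htT)).eq
  obtain ⟨k, hk⟩ := hd
  rw [hk] at h3 h8
  have hk21 : k * N.index = 21 := by rw [mul_assoc] at h3; omega
  have hdk : k ∣ 21 := Dvd.intro _ hk21
  have hle := Nat.le_of_dvd (by norm_num) hdk
  rw [hk]
  have hk3 : k = 3 := by
    have hk1 : k ≠ 1 := fun e => h8 (by rw [e])
    rcases (show k = 3 ∨ k = 7 ∨ k = 21 by
      revert hdk hk1
      interval_cases k <;> norm_num) with e | e | e
    · exact e
    · exfalso
      rw [e] at hk21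
      rw [show N.index = 3 by omega] at h2
      norm_num [Nat.factorial] at h2
    · exfalso
      rw [e] at hk21
      rw [show N.index = 1 by omega] at h2
      norm_num [Nat.factorial] at h2
  rw [hk3]

theorem normalizer_klein_equiv_168 {U : Subgroup G} (hU : IsKleinFour U) :
    Nonempty (normalizer (U : Set G) ≃* Equiv.Perm (Fin 4)) :=
  Cfsg.Agent.S1012.result (card_normalizer_klein_168 h hU) fun g hg => by
    rw [← orderOf_coe] at hg
    rcases orderOf_cases'_168 h (g : G) with e | e | e | e | e <;> omega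

omit h [IsSimpleGroup G] [Finite G] in
theorem conj_mem_normalizer_map {U : Subgroup G} {t : G} (g : G) (ht : t ∈ normalizer (U : Set G)) :
    g * t * g⁻¹ ∈ normalizer ((U.map (MulAut.conj g).toMonoidHom : Subgroup G) : Set G) :=
  le_normalizer_map (MulAut.conj g).toMonoidHom (mem_map_of_mem _ ht)

theorem klein_not_conj_168 {T : Sylow 2 G} {U W : Subgroup G} (hUT : U ≤ (T : Subgroup G))
    (hWT : W ≤ (T : Subgroup G)) (hU : IsKleinFour U) (hW : IsKleinFour W) (hne : U ≠ W) (g : G) :
    U.map (MulAut.conj g).toMonoidHom ≠ W := by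
  intro hg
  have : Fact (Nat.Prime 2) := ⟨Nat.prime_two⟩
  set N := normalizer (W : Set G)
  have h1 : (T : Subgroup G) ≤ N := le_normalizer_klein_168 h hWT hW
  have h2 : ((g • T : Sylow 2 G) : Subgroup G) ≤ N := by
    intro x hx
    change x ∈ g • T at hx
    rw [sylow_smul_mem_iff] at hx
    have := conj_mem_normalizer_map g (le_normalizer_klein_168 h hUT hU hx)
    rw [hg] at this
    simpa [mul_assoc] using this
  obtain ⟨n, hn⟩ := MulAction.exists_smul_eq N ((g • T).subtype h2) (T.subtype h1)
  rw [Sylow.smul_subtype] at hn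
  have h3 := Sylow.subtype_injective hn
  change (n : G) • (g • T) = T at h3
  rw [← mul_smul] at h3
  have h4 : (n : G) * g ∈ normalizer ((T : Subgroup G) : Set G) :=
    Sylow.smul_eq_iff_mem_normalizer.1 h3
  rw [(sylow2_168 h T).2.2] at h4
  have h5 := le_normalizer_klein_168 h hUT hU h4
  have h6 : U.map (MulAut.conj ((n : G) * g)).toMonoidHom = W := by
    have e : (MulAut.conj ((n : G) * g)).toMonoidHom =
        (MulAut.conj (n : G)).toMonoidHom.comp (MulAut.conj g).toMonoidHom := by
      ext x; simp [mul_assoc]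
    rw [e, ← Subgroup.map_map, hg]
    exact mem_normalizer_iff_map_conj_eq.1 n.2
  exact hne ((mem_normalizer_iff_map_conj_eq.1 h5).symm.trans h6)

theorem card_klein_168 (T : Sylow 2 G) :
    Nat.card {U : Subgroup G // U ≤ (T : Subgroup G) ∧ IsKleinFour U} = 2 := by
  obtain ⟨e⟩ := sylow_two_dihedral_168 h T
  refine Eq.trans ?_ card_klein_dihedral_four
  refine Nat.card_eq_of_bijective
    (fun U => ⟨(U.1.subgroupOf (T : Subgroup G)).map e.toMonoidHom,
      isKleinFour_map _ e.injective ((isKleinFour_subgroup_iff _).2 ?_)⟩) ⟨?_, ?_⟩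
  · obtain ⟨h4, h2⟩ := (isKleinFour_subgroup_iff U.1).1 U.2.2
    exact ⟨by rw [Nat.card_congr (subgroupOfEquivOfLe U.2.1).toEquiv, h4],
      fun u hu => Subtype.ext (h2 u hu)⟩
  · intro U W huw
    have h1 := map_injective e.injective (congrArg Subtype.val huw)
    apply Subtype.ext
    rw [← map_subgroupOf_eq_of_le U.2.1, ← map_subgroupOf_eq_of_le W.2.1, h1]
  · intro V
    refine ⟨⟨(V.1.map e.symm.toMonoidHom).map (T : Subgroup G).subtype, map_subtype_le _,
      isKleinFour_map _ (T : Subgroup G).subtype_injective (isKleinFour_map _ e.symm.injective V.2)⟩, ?_⟩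
    apply Subtype.ext
    show (((V.1.map e.symm.toMonoidHom).map (T : Subgroup G).subtype).subgroupOf (T : Subgroup G)).map
      e.toMonoidHom = V.1
    rw [subgroupOf, comap_map_eq_self_of_injective (T : Subgroup G).subtype_injective, Subgroup.map_map]
    convert map_id V.1
    ext x; simp

theorem exists_two_klein_168 (T : Sylow 2 G) : ∃ U₁ U₂ : Subgroup G,
    U₁ ≤ (T : Subgroup G) ∧ IsKleinFour U₁ ∧ U₂ ≤ (T : Subgroup G) ∧ IsKleinFour U₂ ∧ U₁ ≠ U₂ ∧
      ∀ U : Subgroup G, U ≤ (T : Subgroup G) → IsKleinFour U → U = U₁ ∨ U = U₂ := by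
  obtain ⟨a, b, hab, huniv⟩ := Nat.card_eq_two_iff.1 (card_klein_168 h T)
  refine ⟨a.1, b.1, a.2.1, a.2.2, b.2.1, b.2.2, fun e => hab (Subtype.ext e), fun U h1 h2 => ?_⟩
  have := huniv.ge (Set.mem_univ ⟨U, h1, h2⟩)
  rcases this with e | e
  · exact Or.inl (congrArg Subtype.val e)
  · exact Or.inr (congrArg Subtype.val e)

omit [IsSimpleGroup G] in
theorem exists_klein_168 [IsSimpleGroup G] : ∃ U : Subgroup G, IsKleinFour U := by
  obtain ⟨T⟩ := (inferInstance : Nonempty (Sylow 2 G))
  obtain ⟨U, -, -, hU, -⟩ := exists_two_klein_168 h T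
  exact ⟨U, hU⟩

theorem klein_unique_normal_168 {U W : Subgroup G} (hU : IsKleinFour U) (hW : IsKleinFour W)
    (hle : normalizer (W : Set G) ≤ normalizer (U : Set G)) : U = W := by
  have : Fact (Nat.Prime 2) := ⟨Nat.prime_two⟩
  by_contra hne
  set N := normalizer (W : Set G)
  have hWN : W ≤ N := le_normalizer
  have hp : IsPGroup 2 (U ⊔ W : Subgroup G) :=
    (IsPGroup.of_card (n := 2) (hU.card_four.trans (by norm_num))).to_sup_of_normal_left'
      (IsPGroup.of_card (n := 2) (hW.card_four.trans (by norm_num))) (hWN.trans hle)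
  obtain ⟨R, hR⟩ := hp.exists_le_sylow
  have hlt : 4 < Nat.card (U ⊔ W : Subgroup G) := by
    rw [← hW.card_four]
    refine lt_of_le_of_ne (card_le_of_le le_sup_right) fun e => hne ?_
    have e' := eq_of_le_of_card_ge (le_sup_right : W ≤ U ⊔ W) e.ge
    exact eq_of_le_of_card_ge (e' ▸ le_sup_left) (by rw [hU.card_four, hW.card_four])
  have hd : Nat.card (U ⊔ W : Subgroup G) ∣ 8 := card_sylow_two_168 h R ▸ card_dvd_of_le hR
  have h8 : Nat.card (U ⊔ W : Subgroup G) = 8 := by
    have := Nat.le_of_dvd (by norm_num) hd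
    revert hd hlt
    interval_cases (Nat.card (U ⊔ W : Subgroup G)) <;> norm_num
  have hRe : U ⊔ W = (R : Subgroup G) := eq_of_le_of_card_ge hR (by rw [card_sylow_two_168 h R, h8])
  have hN : N ≤ normalizer ((R : Subgroup G) : Set G) := by
    intro n hn
    refine mem_normalizer_iff_map_conj_eq.2 ?_
    change (R : Subgroup G).map (MulAut.conj n).toMonoidHom = (R : Subgroup G)
    rw [← hRe, Subgroup.map_sup]
    exact congrArg₂ (· ⊔ ·) (mem_normalizer_iff_map_conj_eq.1 (hle hn))
      (mem_normalizer_iff_map_conj_eq.1 hn)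
  have := card_dvd_of_le hN
  rw [card_normalizer_klein_168 h hW, (sylow2_168 h R).2.2, card_sylow_two_168 h R] at this
  norm_num at this

/-- A subgroup of order prime to seven lies in the normalizer of a four-group. -/
theorem exists_klein_ge_168 (M : Subgroup G) (hM : M ≠ ⊤) (h7 : ¬ 7 ∣ Nat.card M) :
    ∃ U : Subgroup G, IsKleinFour U ∧ M ≤ normalizer (U : Set G) := by
  classical
  have : Fact (Nat.Prime 2) := ⟨Nat.prime_two⟩
  have : Fact (Nat.Prime 3) := ⟨Nat.prime_three⟩
  have hd : Nat.card M ∣ 24 := by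
    refine Nat.Coprime.dvd_of_dvd_mul_right
      ((show Nat.Prime 7 by norm_num).coprime_iff_not_dvd.2 h7).symm ?_
    have := M.card_subgroup_dvd_card
    rw [h] at this
    exact this
  by_cases h3 : 3 ∣ Nat.card M
  swap
  · have hd8 : Nat.card M ∣ 2 ^ 3 := Nat.Coprime.dvd_of_dvd_mul_right
      (m := 2 ^ 3) (n := 3) (Nat.prime_three.coprime_iff_not_dvd.2 h3).symm hd
    obtain ⟨k, -, hk⟩ := (Nat.dvd_prime_pow Nat.prime_two).1 hd8
    obtain ⟨T, hT⟩ := (IsPGroup.of_card (n := k) hk).exists_le_sylow
    obtain ⟨U, -, hUT, hU, -⟩ := exists_two_klein_168 h T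
    exact ⟨U, hU, hT.trans (le_normalizer_klein_168 h hUT hU)⟩
  obtain ⟨x, hx⟩ := exists_prime_orderOf_dvd_card' (G := M) 3 h3
  rw [← orderOf_coe] at hx
  by_cases hsmall : Nat.card M ≤ 6
  · -- `M` normalizes a subgroup of order three
    obtain ⟨Q, hQ⟩ := (IsPGroup.of_card (n := 1)
      (show Nat.card (zpowers (x : G)) = 3 ^ 1 by rw [Nat.card_zpowers, hx, pow_one])).exists_le_sylow
    have hQe : zpowers (x : G) = (Q : Subgroup G) :=
      eq_of_le_of_card_ge hQ (by rw [((sylow3_168 h).2 Q).1, Nat.card_zpowers, hx])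
    have hMQ : M ≤ normalizer ((Q : Subgroup G) : Set G) := by
      have hxM : zpowers (x : G) ≤ M := zpowers_le.2 x.2
      have h1 := relIndex_mul_relIndex ⊥ (zpowers (x : G)) M bot_le hxM
      rw [relIndex_bot_left, relIndex_bot_left, Nat.card_zpowers, hx] at h1
      have hi : (zpowers (x : G)).relIndex M ≤ 2 := by omega
      have hn : ((zpowers (x : G)).subgroupOf M).Normal := by
        rcases Nat.lt_or_ge ((zpowers (x : G)).relIndex M) 2 with e | e
        · have e1 : (zpowers (x : G)).subgroupOf M = ⊤ := index_eq_one.1 (by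
            have := index_ne_zero_of_finite (H := (zpowers (x : G)).subgroupOf M)
            change (zpowers (x : G)).relIndex M = 1
            change (zpowers (x : G)).relIndex M ≠ 0 at this
            omega)
          rw [e1]; infer_instance
        · exact normal_of_index_eq_two (le_antisymm hi e)
      rw [← hQe]
      exact (normal_subgroupOf_iff_le_normalizer hxM).1 hn
    obtain ⟨U, hU⟩ := exists_klein_168 h
    set N := normalizer (U : Set G)
    obtain ⟨y, hy⟩ := exists_prime_orderOf_dvd_card' (G := N) 3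
      (by rw [card_normalizer_klein_168 h hU]; norm_num)
    rw [← orderOf_coe] at hy
    obtain ⟨R, hR⟩ := (IsPGroup.of_card (n := 1)
      (show Nat.card (zpowers (y : G)) = 3 ^ 1 by rw [Nat.card_zpowers, hy, pow_one])).exists_le_sylow
    have hRN : (R : Subgroup G) ≤ N := by
      rw [← eq_of_le_of_card_ge hR (by rw [((sylow3_168 h).2 R).1, Nat.card_zpowers, hy])]
      exact zpowers_le.2 y.2
    -- `N` contains the normalizer of `R`
    have hNR : normalizer ((R : Subgroup G) : Set G) ≤ N := by
      set NR := normalizer ((R : Subgroup G) : Set G)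
      have hc : Nat.card (R.subtype hRN : Subgroup N) = 3 := by
        rw [Sylow.coe_subtype, Nat.card_congr (subgroupOfEquivOfLe hRN).toEquiv, ((sylow3_168 h).2 R).1]
      have hn8 : (R.subtype hRN : Subgroup N).index = 8 := by
        have := (R.subtype hRN : Subgroup N).card_mul_index
        rw [hc, card_normalizer_klein_168 h hU] at this
        omega
      have h1 : Nat.card (Sylow 3 N) ∣ 8 := hn8 ▸ (R.subtype hRN).card_dvd_index
      have hm := card_sylow_modEq_one 3 N
      have h2 : Nat.card (Sylow 3 N) = (NR.subgroupOf N).index := by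
        rw [(R.subtype hRN).card_eq_index_normalizer]
        congr 1
        ext z
        rw [mem_subgroupOf, ← Sylow.smul_eq_iff_mem_normalizer]
        refine Iff.trans ?_ (Sylow.smul_eq_iff_mem_normalizer (g := (z : G)) (P := R))
        rw [Sylow.smul_subtype]
        exact ⟨fun e => Sylow.subtype_injective e,
          fun e => Sylow.ext (congrArg (fun W : Subgroup G => W.subgroupOf N) (congrArg (fun S : Sylow 3 G => (S : Subgroup G)) e) :)⟩
      rw [h2] at h1 hm
      have h3 := (NR.subgroupOf N).card_mul_index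
      rw [card_normalizer_klein_168 h hU] at h3
      have h6 : Nat.card (NR.subgroupOf N) ∣ 6 := by
        rw [← card_map_of_injective N.subtype_injective, ← ((sylow3_168 h).2 R).2.1]
        exact card_dvd_of_le (by rw [subgroupOf_map_subtype]; exact inf_le_left)
      have hle6 := Nat.le_of_dvd (by norm_num) h6
      have h6' : Nat.card (NR.subgroupOf N) = 6 := by
        have hle8 := Nat.le_of_dvd (by norm_num) h1
        rw [Nat.ModEq] at hm
        revert h1 hm h3 h6
        generalize Nat.card (NR.subgroupOf N) = c at hle6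
        intro h1 hm h3 h6
        have : c = 6 := by
          interval_cases c <;> omega
        exact this
      have he : (NR.subgroupOf N).map N.subtype = NR :=
        eq_of_le_of_card_ge (by rw [subgroupOf_map_subtype]; exact inf_le_left)
          (by rw [card_map_of_injective N.subtype_injective, h6', ((sylow3_168 h).2 R).2.1])
      exact he ▸ map_subtype_le _
    obtain ⟨g, hg⟩ := MulAction.exists_smul_eq G R Q
    refine ⟨U.map (MulAut.conj g).toMonoidHom, isKleinFour_map _ (MulEquiv.injective _) hU, ?_⟩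
    intro m hm
    have hm' : g⁻¹ * m * g ∈ normalizer ((R : Subgroup G) : Set G) := by
      refine Sylow.smul_eq_iff_mem_normalizer.1 ?_
      rw [mul_smul, mul_smul, hg, Sylow.smul_eq_iff_mem_normalizer.2 (hMQ hm), ← hg, inv_smul_smul]
    have := conj_mem_normalizer_map g (hNR hm')
    simpa [mul_assoc] using this
  -- otherwise `M` has a normal four-group
  have hle := Nat.le_of_dvd (by norm_num) hd
  let P : Sylow 2 M := default
  set K := (P : Subgroup M).normalCore
  have hKP : K ≤ (P : Subgroup M) := normalCore_le _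
  have hPi : (P : Subgroup M).index = 3 := by
    obtain ⟨k, hk⟩ := P.2.exists_card_eq
    have h1 := (P : Subgroup M).card_mul_index
    have h2 := P.not_dvd_index
    have hk3 : k ≤ 3 := by
      obtain ⟨R, hR⟩ := (P.2.map M.subtype).exists_le_sylow
      have := card_dvd_of_le hR
      rw [card_map_of_injective M.subtype_injective, hk, card_sylow_two_168 h R] at this
      exact (Nat.pow_dvd_pow_iff_le_right (by norm_num)).1 (show 2 ^ k ∣ 2 ^ 3 from this)
    rw [hk] at h1
    rw [← h1] at hd h3 hle
    have hi24 : (P : Subgroup M).index ∣ 24 := (dvd_mul_left _ _).trans hd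
    have hi := Nat.le_of_dvd (by norm_num) hi24
    generalize (P : Subgroup M).index = i at hi24 hi hd h3 h2 hle ⊢
    interval_cases k <;> interval_cases i <;> simp_all
  have hKd : 4 * Nat.card K ≥ Nat.card (P : Subgroup M) * 2 := by
    have h1 : K.index ∣ 6 := by
      rw [show K = (MulAction.toPermHom M (M ⧸ (P : Subgroup M))).ker from normalCore_eq_ker _,
        index_ker]
      refine (card_subgroup_dvd_card _).trans ?_
      rw [Nat.card_perm, ← index_eq_card, hPi]
      rfl
    have h2 := K.card_mul_index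
    have h3' := (P : Subgroup M).card_mul_index
    rw [hPi, ← h2] at h3'
    have := Nat.le_of_dvd (by norm_num) h1
    nlinarith
  have hKc : Nat.card K ∣ 8 := by
    obtain ⟨R, hR⟩ := (P.2.map M.subtype).exists_le_sylow
    refine (card_dvd_of_le hKP).trans ?_
    rw [← card_map_of_injective M.subtype_injective, ← card_sylow_two_168 h R]
    exact card_dvd_of_le hR
  -- no involution is fixed by `x`
  have hfix : ∀ z : M, z ∈ K → orderOf z = 2 → x * z * x⁻¹ ≠ z := by
    intro z _ hz e
    refine not_commute_168 h (Or.inl hx) (by rw [orderOf_coe, hz]) ?_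
    have e' : (x : G) * z * (x : G)⁻¹ = z := congrArg Subtype.val e
    exact (mul_inv_eq_iff_eq_mul.1 e').symm
  have hKn : K.Normal := inferInstance
  have hK4 : Nat.card K = 4 := by
    have hle' := Nat.le_of_dvd (by norm_num) hKc
    have hPc : 4 ≤ Nat.card (P : Subgroup M) := by
      have h1 := (P : Subgroup M).card_mul_index
      rw [hPi] at h1
      have hd' := hd
      have hne3 : Nat.card (P : Subgroup M) ≠ 3 := fun e => by
        obtain ⟨k, hk⟩ := P.2.exists_card_eq
        rw [e] at hk
        have h33 : (3 : ℕ) ∣ 2 ^ k := ⟨1, by omega⟩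
        have := Nat.prime_three.dvd_of_dvd_pow h33
        norm_num at this
      omega
    have hne8 : Nat.card K ≠ 8 := by
      intro e8
      obtain ⟨R, hR⟩ := (IsPGroup.of_card (n := 3)
        (show Nat.card (K.map M.subtype) = 2 ^ 3 by
          rw [card_map_of_injective M.subtype_injective, e8]; norm_num)).exists_le_sylow
      have e : K.map M.subtype = (R : Subgroup G) := eq_of_le_of_card_ge hR
        (by rw [card_sylow_two_168 h R, card_map_of_injective M.subtype_injective, e8])
      have hxR : (x : G) ∈ normalizer ((R : Subgroup G) : Set G) := by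
        rw [← e]
        exact le_normalizer_map M.subtype (mem_map_of_mem _ ((normalizer_eq_top_iff.2 hKn).ge (mem_top x)))
      rw [(sylow2_168 h R).2.2] at hxR
      have := Subgroup.orderOf_dvd_natCard _ hxR
      rw [hx, card_sylow_two_168 h R] at this
      norm_num at this
    have hne2 : Nat.card K ≠ 2 := by
      intro e2
      obtain ⟨⟨z, hzK⟩, hz⟩ := exists_prime_orderOf_dvd_card' (G := K) 2 e2.symm.dvd
      rw [Subgroup.orderOf_mk] at hz
      obtain ⟨a, b, hab, huniv⟩ := Nat.card_eq_two_iff.1 e2
      refine hfix z hzK hz ?_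
      have hm : ∀ v : K, v = a ∨ v = b := fun v => by
        have := huniv.ge (Set.mem_univ v)
        simpa using this
      have hz1 : (⟨z, hzK⟩ : K) ≠ 1 := fun e => by
        rw [show z = 1 from congrArg Subtype.val e, orderOf_one] at hz; norm_num at hz
      have hw1 : (⟨x * z * x⁻¹, hKn.conj_mem z hzK x⟩ : K) ≠ 1 := fun e => by
        have e' : x * z * x⁻¹ = 1 := congrArg Subtype.val e
        rw [conj_eq_one_iff] at e'
        exact hz1 (Subtype.ext e')
      rcases hm ⟨x * z * x⁻¹, hKn.conj_mem z hzK x⟩ with e1 | e1 <;> rcases hm ⟨z, hzK⟩ with e2 | e2 <;>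
        rcases hm 1 with e3 | e3 <;> first
          | exact congrArg Subtype.val (e1.trans e2.symm)
          | exact absurd (e1.trans e3.symm) hw1
          | exact absurd (e2.trans e3.symm) hz1
    revert hKc hKd hne8 hne2
    interval_cases (Nat.card K) <;> intros <;> first | omega | norm_num at *
  refine ⟨K.map M.subtype, isKleinFour_map _ M.subtype_injective ((isKleinFour_subgroup_iff K).2
    ⟨hK4, fun z hz => ?_⟩), fun m hm => le_normalizer_map M.subtype
      (mem_map_of_mem _ ((normalizer_eq_top_iff.2 hKn).ge (mem_top (⟨m, hm⟩ : M))))⟩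
  by_contra hzz
  have hz4 : orderOf z = 4 := by
    have hdz : orderOf z ∣ 2 ^ 2 := by
      have := Subgroup.orderOf_dvd_natCard K hz
      rwa [hK4] at this
    obtain ⟨i, hi, e⟩ := (Nat.dvd_prime_pow Nat.prime_two).1 hdz
    interval_cases i
    · exact absurd (by rw [orderOf_eq_one_iff.1 (e.trans (pow_zero 2)), mul_one]) hzz
    · exact absurd (by rw [← sq]; exact orderOf_dvd_iff_pow_eq_one.1 (e.trans (pow_one 2)).dvd) hzz
    · simpa using e
  have hzK : zpowers z = K := eq_of_le_of_card_ge (zpowers_le.2 hz) (by rw [hK4, Nat.card_zpowers, hz4])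
  have hz2 : orderOf (z ^ 2) = 2 := by rw [orderOf_pow' _ two_ne_zero, hz4]; norm_num
  refine hfix (z ^ 2) (pow_mem hz 2) hz2 ?_
  obtain ⟨i, hi⟩ := mem_zpowers_iff.1 (hzK.ge (hKn.conj_mem z hz x))
  rw [← conj_pow, ← hi]
  have ho : orderOf (z ^ i) = 4 := by rw [hi, ← MulAut.conj_apply, MulEquiv.orderOf_eq, hz4]
  have hodd : ¬ (2 : ℤ) ∣ i := by
    rintro ⟨j, rfl⟩
    have h1 : (z ^ (2 * j)) ^ 2 = 1 := by
      rw [← zpow_natCast, ← zpow_mul, show 2 * j * ((2 : ℕ) : ℤ) = ((4 : ℕ) : ℤ) * j by push_cast; ring,
        zpow_mul, zpow_natCast, ← hz4, pow_orderOf_eq_one, one_zpow]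
    have := orderOf_dvd_of_pow_eq_one h1
    rw [ho] at this
    norm_num at this
  obtain ⟨j, rfl⟩ : ∃ j, i = 2 * j + 1 := ⟨i / 2, by omega⟩
  rw [← zpow_natCast, ← zpow_mul, show (2 * j + 1) * ((2 : ℕ) : ℤ) = ((4 : ℕ) : ℤ) * j + ((2 : ℕ) : ℤ) by
    push_cast; ring, zpow_add, zpow_mul, zpow_natCast, zpow_natCast, ← hz4, pow_orderOf_eq_one,
    one_zpow, one_mul]

theorem maximal_168 {M : Subgroup G} (hM : IsCoatom M) :
    (∃ U : Subgroup G, IsKleinFour U ∧ M = normalizer (U : Set G)) ∨
      ∃ R : Sylow 7 G, M = normalizer ((R : Subgroup G) : Set G) := by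
  have : Fact (Nat.Prime 7) := ⟨by norm_num⟩
  have hG := nonabelian_168 h
  by_cases h7 : 7 ∣ Nat.card M
  · refine Or.inr ?_
    let P : Sylow 7 M := default
    have h2 := two_mul_card_dvd_factorial hG hM.1
    have h3 := M.card_mul_index
    rw [h] at h2 h3
    have hi7 : 7 ≤ M.index := by
      by_contra hlt
      rw [not_le] at hlt
      revert h2
      interval_cases M.index <;> norm_num [Nat.factorial]
    have hle : Nat.card M ≤ 24 := by nlinarith
    obtain ⟨R, hR⟩ := (P.2.map M.subtype).exists_le_sylow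
    have hPc : 7 ∣ Nat.card (P : Subgroup M) := P.dvd_card_of_dvd_card h7
    have hPe : (P : Subgroup M).map M.subtype = (R : Subgroup G) := eq_of_le_of_card_ge hR (by
      rw [((sylow7_168 h).2 R).1, card_map_of_injective M.subtype_injective]
      exact Nat.le_of_dvd Nat.card_pos hPc)
    have hPn : (P : Subgroup M).Normal := by
      have hd := P.card_dvd_index
      have hm := card_sylow_modEq_one 7 M
      have h4 := (P : Subgroup M).card_mul_index
      have hs : Nat.card (Sylow 7 M) ≤ 3 := by
        have := Nat.le_of_dvd (Nat.pos_of_ne_zero index_ne_zero_of_finite) hd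
        have := Nat.le_of_dvd Nat.card_pos hPc
        nlinarith
      have h1 : Nat.card (Sylow 7 M) = 1 := by
        rw [Nat.ModEq] at hm
        omega
      have : Subsingleton (Sylow 7 M) := (Nat.card_eq_one_iff_unique.1 h1).1
      exact normalizer_eq_top_iff.1 (top_le_iff.1 fun g _ =>
        Sylow.smul_eq_iff_mem_normalizer.1 (Subsingleton.elim (g • P) P))
    have hMR : M ≤ normalizer ((R : Subgroup G) : Set G) := fun m hm => hPe ▸
      le_normalizer_map M.subtype (mem_map_of_mem _ ((normalizer_eq_top_iff.2 hPn).ge (mem_top (⟨m, hm⟩ : M))))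
    refine ⟨R, ((hM.le_iff.1 hMR).resolve_left fun e => ?_).symm⟩
    have := ((sylow7_168 h).2 R).2.1
    rw [e, card_top, h] at this
    norm_num at this
  · refine Or.inl ?_
    obtain ⟨U, hU, hle⟩ := exists_klein_ge_168 h M hM.1 h7
    refine ⟨U, hU, ((hM.le_iff.1 hle).resolve_left fun e => ?_).symm⟩
    have := card_normalizer_klein_168 h hU
    rw [e, card_top, h] at this
    norm_num at this

theorem isCoatom_normalizer_klein_168 {U : Subgroup G} (hU : IsKleinFour U) :
    IsCoatom (normalizer (U : Set G)) := by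
  have : Fact (Nat.Prime 7) := ⟨by norm_num⟩
  have hc := card_normalizer_klein_168 h hU
  rcases eq_top_or_exists_le_coatom (normalizer (U : Set G)) with e | ⟨M, hM, hle⟩
  · rw [e, card_top, h] at hc; norm_num at hc
  rcases maximal_168 h hM with ⟨W, hW, rfl⟩ | ⟨R, rfl⟩
  · rwa [eq_of_le_of_card_ge hle (by rw [hc, card_normalizer_klein_168 h hW])]
  · have := card_dvd_of_le hle
    rw [hc, ((sylow7_168 h).2 R).2.1] at this
    norm_num at this

theorem normalizer_sylow7_168 (R : Sylow 7 G) :
    ¬ IsMulCommutative (normalizer ((R : Subgroup G) : Set G)) := by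
  have : Fact (Nat.Prime 7) := ⟨by norm_num⟩
  intro hc
  have hle : normalizer ((R : Subgroup G) : Set G) ≤ centralizer ((R : Subgroup G) : Set G) :=
    fun n hn => mem_centralizer_iff.2 fun r hr =>
      congrArg Subtype.val (hc.is_comm.comm ⟨r, le_normalizer hr⟩ ⟨n, hn⟩)
  exact not_normalizer_le_centralizer (nonabelian_168 h) (by rw [h]; norm_num) R hle

end OneSixtyEight

end CfsgLib.Transfer
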