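import Cfsg.Agent.Lib.Char.CAFamily

/-!
# The degree equation for a self-centralizing abelian subgroup
-/

namespace CfsgLib.Transfer

open CfsgLib.Char
open scoped ComplexConjugate

universe u

variable {G : Type u} [Group G] [Fintype G]

/-- Exceptional characters `θ` of a self-centralizing subgroup `A` of index `e` in its
normalizer, sign `ε`, correction `α`, common degree `d`. -/
structure ExcData (A : Subgroup G) (e w : ℕ) (ε α : ℤ) (d : ℕ)
    (θ : Fin w → Cfsg.IrrCharacter G) : Prop where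
  sign : ε = 1 ∨ ε = -1
  inj : Function.Injective θ
  ne_one : ∀ j, (θ j : G → ℂ) ≠ fun _ => 1
  deg : ∀ j, (θ j : G → ℂ) 1 = d
  deg_eq : ∃ z : ℕ, (d : ℤ) = Nat.card A * z + α + ε * e
  val_sum : ∀ x ∈ A, x ≠ 1 → ∑ j, (θ j : G → ℂ) x = ((w * α - ε : ℤ) : ℂ)
  off : ∀ i j (g : G), (∀ x : G, x⁻¹ * g * x ∈ A → g = 1) → (θ i : G → ℂ) g = (θ j : G → ℂ) g

open scoped Classical in
/-- The degree equation `1 + ∑ a φ(1) + (w α - ε) d = 0` and the norm equation
`∑ a² + (w - 1) α² + (α - ε)² = e` for a self-centralizing abelian subgroup. -/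
theorem exists_excData (A : Subgroup G)
    (hA : ∀ x ∈ A, x ≠ 1 → Subgroup.centralizer ({x} : Set G) = A) {e w : ℕ}
    (hcN : Nat.card (Subgroup.normalizer (A : Set G)) = e * Nat.card A)
    (hwe : w * e + 1 = Nat.card A) (hw2 : 2 ≤ w) :
    ∃ (ε α : ℤ) (d : ℕ) (θ : Fin w → Cfsg.IrrCharacter G) (S : Finset (Cfsg.IrrCharacter G))
      (a : Cfsg.IrrCharacter G → ℤ),
      ExcData A e w ε α d θ ∧
      (∀ φ ∈ S, (∀ j, φ ≠ θ j) ∧ (φ : G → ℂ) ≠ (fun _ => 1) ∧ a φ ≠ 0 ∧
        (∀ x ∈ A, x ≠ 1 → (φ : G → ℂ) x = a φ) ∧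
        ∃ k : ℕ, (φ : G → ℂ) 1 = ((a φ + Nat.card A * k : ℤ) : ℂ)) ∧
      (∀ φ ∉ S, (∀ j, φ ≠ θ j) → (φ : G → ℂ) ≠ (fun _ => 1) →
        ∀ x ∈ A, x ≠ 1 → (φ : G → ℂ) x = 0) ∧
      (∑ φ ∈ S, a φ ^ 2) + ((w : ℤ) - 1) * α ^ 2 + (α - ε) ^ 2 = e ∧
      1 + (∑ φ ∈ S, (a φ : ℂ) * (φ : G → ℂ) 1) + ((w * α - ε : ℤ) : ℂ) * d = 0 := by
  set N := Subgroup.normalizer (A : Set G) with hN
  set A' := A.subgroupOf N with hA'
  have hAN : A ≤ N := Subgroup.le_normalizer
  have hA'n : A'.Normal := ⟨fun a ha n => by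
    rw [hA', Subgroup.mem_subgroupOf] at ha ⊢
    simpa using (Subgroup.mem_normalizer_iff.mp n.2 (a : G)).mp ha⟩
  have := Fintype.ofFinite N
  have := Fintype.ofFinite A'
  have := Fintype.ofFinite (Cfsg.IrrCharacter A')
  have := Fintype.ofFinite (Cfsg.IrrCharacter G)
  have hcA' : Nat.card A' = Nat.card A := Nat.card_congr (Subgroup.subgroupOfEquivOfLe hAN).toEquiv
  set m := Nat.card A with hm
  have he : A'.index = e := by
    have := A'.index_mul_card
    rw [hcA', hcN] at this
    exact Nat.eq_of_mul_eq_mul_right (by omega) this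
  have hA1 : 1 < m := by
    rcases Nat.eq_zero_or_pos e with h0 | h0
    · subst h0; rw [zero_mul] at hcN; exact absurd hcN Nat.card_pos.ne'
    · have := Nat.mul_pos (show 0 < w by omega) h0; omega
  have he0 : 0 < e := by
    rcases Nat.eq_zero_or_pos e with h0 | h0
    · subst h0; rw [zero_mul] at hcN; exact absurd hcN Nat.card_pos.ne'
    · exact h0
  -- the induced characters of `N`
  have hAcomm : ∀ a b : A', a * b = b * a := fun a b => Subtype.ext (Subtype.ext (by
    show ((a : N) : G) * ((b : N) : G) = ((b : N) : G) * ((a : N) : G)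
    have ha : ((a : N) : G) ∈ A := Subgroup.mem_subgroupOf.mp a.2
    have hb : ((b : N) : G) ∈ A := Subgroup.mem_subgroupOf.mp b.2
    by_cases h1 : ((a : N) : G) = 1
    · rw [h1, one_mul, mul_one]
    · rw [← hA _ ha h1, Subgroup.mem_centralizer_singleton_iff] at hb
      exact hb.symm))
  have hlin : ∀ l : Cfsg.IrrCharacter A', (l : A' → ℂ) 1 = 1 := fun l =>
    irr_degree_one_of_comm hAcomm l.2
  have hC : ∀ n ∈ A', n ≠ 1 → Subgroup.centralizer ({n} : Set N) ≤ A' := fun n hn hn1 x hx => by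
    rw [hA', Subgroup.mem_subgroupOf] at hn ⊢
    rw [← hA _ hn (fun h => hn1 (Subtype.ext h)), Subgroup.mem_centralizer_singleton_iff]
    exact congr_arg Subtype.val (Subgroup.mem_centralizer_singleton_iff.mp hx)
  set one' : Cfsg.IrrCharacter A' := ⟨fun _ => 1, isIrrCharacter_one⟩ with hone'
  set L := (Finset.univ : Finset (Cfsg.IrrCharacter A')).erase one' with hL
  set X := L.image fun l : Cfsg.IrrCharacter A' => Cfsg.indFun A' (l : A' → ℂ) with hX
  have hirr : ∀ χ ∈ X, Cfsg.IsIrrCharacter N χ := fun χ hχ => by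
    obtain ⟨l, hl, rfl⟩ := Finset.mem_image.mp hχ
    exact Clifford.isIrrCharacter_indFun_of_centralizer_le hC l.2
      fun h => (Finset.mem_erase.mp hl).1 (Subtype.ext h)
  have hone : ∀ χ ∈ X, χ 1 = (e : ℂ) := fun χ hχ => by
    obtain ⟨l, -, rfl⟩ := Finset.mem_image.mp hχ
    rw [indFun_apply_one, hlin, mul_one, he]
  have hvan : ∀ χ ∈ X, ∀ x : N, (x : G) ∉ A → χ x = 0 := fun χ hχ x hx => by
    obtain ⟨l, -, rfl⟩ := Finset.mem_image.mp hχ
    rw [indFun_def, Finset.sum_eq_zero, mul_zero]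
    intro y _
    refine extendByZero_of_not_mem _ fun h => hx ?_
    have h2 := hA'n.conj_mem _ h y
    rw [show y * (y⁻¹ * x * y) * y⁻¹ = x by group] at h2
    exact h2
  -- restriction to `A'`
  have hres : ∀ χ ∈ X, ∀ a : A',
      χ a = ∑ l ∈ L.filter (fun l : Cfsg.IrrCharacter A' => Cfsg.indFun A' (l : A' → ℂ) = χ), (l : A' → ℂ) a := by
    intro χ hχ a
    have hcl : Cfsg.IsClassFunction A' fun b : A' => χ b :=
      isCharacter_isClassFunction (isCharacter_restrict (irr_isCharacter (hirr χ hχ)) A')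
    rw [classFunction_apply_eq_sum hcl a, Finset.sum_filter, hL,
      ← Finset.add_sum_erase _ _ (Finset.mem_univ one')]
    have hcoef : ∀ l : Cfsg.IrrCharacter A', Cfsg.classInner (fun b : A' => χ b) l =
        conj (Cfsg.classInner (Cfsg.indFun A' (l : A' → ℂ)) χ) := fun l => by
      rw [frobenius_reciprocity A' _ χ (irr_isClassFunction (hirr χ hχ)), classInner_conj_symm]
    have h1 : Cfsg.classInner (fun b : A' => χ b) one' = 0 := by
      obtain ⟨l₀, hl₀, rfl⟩ := Finset.mem_image.mp hχ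
      rw [hcoef, ← classInner_conj_symm, frobenius_reciprocity A' _ _ (indFun_isClassFunction _ _)]
      have : (fun b : A' => Cfsg.indFun A' (one' : A' → ℂ) b) = (e : ℂ) • (one' : A' → ℂ) := by
        funext b
        rw [indFun_def, Finset.sum_congr rfl fun y _ => extendByZero_of_mem (one' : A' → ℂ)
          (g := y⁻¹ * (b : N) * y) (by simpa using hA'n.conj_mem _ b.2 y⁻¹)]
        simp only [hone', Finset.sum_const, Finset.card_univ, nsmul_eq_mul, mul_one, Pi.smul_apply,
          smul_eq_mul, ← Nat.card_eq_fintype_card, hcN, ← hcA']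
        have := natCard_ne_zero (G := A')
        push_cast
        field_simp
        exact mul_one (e : ℂ)
      rw [this, classInner_smul_right, irr_classInner_ne l₀.2 one'.2
        (fun h => (Finset.mem_erase.mp hl₀).1 (Subtype.ext h)), mul_zero]
      simp
    rw [h1, zero_mul, zero_add]
    refine Finset.sum_congr rfl fun l hl => ?_
    rw [hcoef, irr_classInner (hirr _ (Finset.mem_image_of_mem _ hl)) (hirr χ hχ)]
    split_ifs <;> simp
  have htot : ∀ a : A', ∑ χ ∈ X, χ a = ∑ l ∈ L, (l : A' → ℂ) a := fun a => by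
    rw [Finset.sum_congr rfl fun χ hχ => hres χ hχ a, hX]
    exact Finset.sum_fiberwise_of_maps_to (fun l hl => Finset.mem_image_of_mem _ hl) _
  have hregA : ∀ a : A', ∑ l ∈ L, (l : A' → ℂ) a = (if a = 1 then (m : ℂ) else 0) - 1 := by
    intro a
    have h := sum_irr_mul_degree a
    simp only [hlin, one_mul, hcA', ← Finset.add_sum_erase _ _ (Finset.mem_univ one')] at h
    exact eq_sub_of_add_eq' h
  have hXcard : X.card = w := by
    have h := htot 1
    rw [hregA, if_pos rfl, Finset.sum_congr rfl fun χ hχ =>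
      (show χ ((1 : A') : N) = (e : ℂ) from hone χ hχ), Finset.sum_const, nsmul_eq_mul] at h
    have h2 : ((X.card * e : ℕ) : ℂ) = ((w * e : ℕ) : ℂ) := by
      rw [← hwe] at h; push_cast at h ⊢; linear_combination h
    exact Nat.eq_of_mul_eq_mul_right (by omega) (Nat.cast_injective h2)
  let en : Fin w ≃ X := (finCongr hXcard).symm.trans X.equivFin.symm
  let χ : Fin w → N → ℂ := fun j => (en j : N → ℂ)
  have hmem : ∀ j, χ j ∈ X := fun j => (en j).2
  have hinj : Function.Injective χ := Subtype.val_injective.comp en.injective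
  have hTI : ∀ g : G, g ∉ Subgroup.normalizer (A : Set G) →
      ∀ s ∈ (A : Set G), g * s * g⁻¹ ∈ (A : Set G) → s = 1 :=
    fun g hg s hs h => ti_of_centralizer_eq A hA g hg s hs h
  obtain ⟨ε, hε, θ, hθ, hθinj, hθe⟩ := exceptional_characters (A : Set G) hTI w hw2 χ
    (fun j => hirr _ (hmem j)) hinj (fun j x hx => hvan _ (hmem j) x hx)
    (fun i j => by rw [hone _ (hmem i), hone _ (hmem j)])
  obtain ⟨εz, hεz, hεz1⟩ : ∃ z : ℤ, (z : ℂ) = ε ∧ (z = 1 ∨ z = -1) := by
    rcases hε with h | h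
    · exact ⟨1, by simp [h], Or.inl rfl⟩
    · exact ⟨-1, by simp [h], Or.inr rfl⟩
  have htot1 : ∀ x : A', x ≠ 1 → ∑ j, χ j x = -1 := fun x hx => by
    have h : ∑ j, χ j x = ∑ φ ∈ X, φ x := by
      rw [← Finset.sum_coe_sort X]
      exact Equiv.sum_comp en (fun φ : X => (φ : N → ℂ) x)
    rw [h, htot, hregA, if_neg hx, zero_sub]
  have hvanΨ : ∀ x : N, (x : G) ∉ A → Cfsg.indFun A' (one' : A' → ℂ) x = 0 := fun x hx => by
    rw [indFun_def, Finset.sum_eq_zero, mul_zero]
    intro y _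
    refine extendByZero_of_not_mem _ fun h => hx ?_
    have h2 := hA'n.conj_mem _ h y
    rw [show y * (y⁻¹ * x * y) * y⁻¹ = x by group] at h2
    exact h2
  set Ψ : N → ℂ := Cfsg.indFun A' (one' : A' → ℂ) with hΨ
  have hΨres : (fun b : A' => Ψ b) = (e : ℂ) • (one' : A' → ℂ) := by
    funext b
    rw [hΨ, indFun_def, Finset.sum_congr rfl fun y _ => extendByZero_of_mem (one' : A' → ℂ)
      (g := y⁻¹ * (b : N) * y) (by simpa using hA'n.conj_mem _ b.2 y⁻¹)]
    simp only [hone', Finset.sum_const, Finset.card_univ, nsmul_eq_mul, mul_one, Pi.smul_apply,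
      smul_eq_mul, ← Nat.card_eq_fintype_card, hcN, ← hcA']
    have := natCard_ne_zero (G := A')
    push_cast
    field_simp
    exact mul_one (e : ℂ)
  have hχ0 : ∀ j, Cfsg.classInner (fun b : A' => χ j b) one' = 0 := fun j => by
    rw [classInner_def, Finset.sum_congr rfl fun b _ => by rw [hres _ (hmem j) b],
      ← classInner_def (fun b => ∑ l ∈ L.filter
        (fun l : Cfsg.IrrCharacter A' => Cfsg.indFun A' (l : A' → ℂ) = χ j), (l : A' → ℂ) b)]
    rw [show (fun b : A' => ∑ l ∈ L.filter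
        (fun l : Cfsg.IrrCharacter A' => Cfsg.indFun A' (l : A' → ℂ) = χ j), (l : A' → ℂ) b) =
        ∑ l ∈ L.filter (fun l : Cfsg.IrrCharacter A' => Cfsg.indFun A' (l : A' → ℂ) = χ j),
          (l : A' → ℂ) from funext fun b => (Finset.sum_apply b _ _).symm, classInner_sum_left]
    exact Finset.sum_eq_zero fun l hl => irr_classInner_ne l.2 one'.2
      fun h => (Finset.mem_erase.mp (Finset.mem_filter.mp hl).1).1 (Subtype.ext h)
  -- multiplicities
  have hM : ∀ (φ : Cfsg.IrrCharacter G) j, ∃ n : ℕ,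
      Cfsg.classInner (χ j) (fun n : N => (φ : G → ℂ) n) = n := fun φ j =>
    classInner_isCharacter_nat (irr_isCharacter (hirr _ (hmem j)))
      (isCharacter_restrict (irr_isCharacter φ.2) N)
  have hM0 : ∀ φ : Cfsg.IrrCharacter G, ∃ n : ℕ,
      Cfsg.classInner (fun y : A' => (φ : G → ℂ) ((y : N) : G)) one' = n := fun φ =>
    classInner_isCharacter_nat
      (isCharacter_restrict (isCharacter_restrict (irr_isCharacter φ.2) N) A')
      (irr_isCharacter one'.2)
  choose M hM using hM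
  choose M₀ hM₀ using hM0
  have hexp : ∀ (φ : Cfsg.IrrCharacter G) (x : A'),
      (φ : G → ℂ) ((x : N) : G) = (M₀ φ : ℂ) + ∑ j, (M φ j : ℂ) * χ j x := by
    intro φ' x
    obtain ⟨φ, hφ⟩ := φ'
    have hφN := isCharacter_restrict (irr_isCharacter hφ) N
    have hres' := isCharacter_restrict hφN A'
    have hexp := classFunction_apply_eq_sum (isCharacter_isClassFunction hres') x
    simp only [← hM, ← hM₀]
    rw [hexp, ← Finset.add_sum_erase _ _ (Finset.mem_univ one'), ← hL]
    congr 1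
    · simp [hone']
    · have hterm : ∀ j, Cfsg.classInner (χ j) (fun n : N => φ n) * χ j x =
          ∑ l ∈ L.filter (fun l : Cfsg.IrrCharacter A' => Cfsg.indFun A' (l : A' → ℂ) = χ j),
            Cfsg.classInner (fun y : A' => φ ((y : N) : G)) l * (l : A' → ℂ) x := fun j => by
        rw [hres _ (hmem j), Finset.mul_sum]
        refine Finset.sum_congr rfl fun l hl => ?_
        congr 1
        obtain ⟨k, hk⟩ := classInner_isCharacter_nat hres' (irr_isCharacter l.2)
        rw [hk, ← (Finset.mem_filter.mp hl).2, frobenius_reciprocity A' _ _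
          (isCharacter_isClassFunction hφN), ← classInner_conj_symm, hk, map_natCast]
      simp only [hterm]
      symm
      exact (Finset.sum_bij' (fun j _ => χ j) (fun φ' h => en.symm ⟨φ', h⟩)
        (fun j _ => hmem j) (fun φ' _ => Finset.mem_univ _) (fun j _ => by simp [χ])
        (fun φ' h => by simp [χ]) (fun j _ => rfl)).trans
        (Finset.sum_fiberwise_of_maps_to (fun l hl => Finset.mem_image_of_mem _ hl) _)
  have hΨφ : ∀ φ : Cfsg.IrrCharacter G,
      Cfsg.classInner Ψ (fun n : N => (φ : G → ℂ) n) = (M₀ φ : ℂ) := fun φ => by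
    rw [hΨ, frobenius_reciprocity A' _ _
      (isCharacter_isClassFunction (isCharacter_restrict (irr_isCharacter φ.2) N)),
      ← classInner_conj_symm, hM₀, map_natCast]
  let τ : Fin w → G → ℂ := fun j => Cfsg.indFun N (Ψ - χ j)
  have hgenf : ∀ j, Cfsg.IsGeneralizedCharacter N (Ψ - χ j) := fun j =>
    isGeneralized_sub (isGeneralized_of_isCharacter (isCharacter_indFun A' (irr_isCharacter one'.2)))
      (isGeneralized_of_isCharacter (irr_isCharacter (hirr _ (hmem j))))
  have hf1 : ∀ j, (Ψ - χ j) 1 = 0 := fun j => by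
    rw [Pi.sub_apply, hone _ (hmem j), hΨ, indFun_apply_one, hone', he, mul_one, sub_self]
  have hfv : ∀ j, ∀ x : N, (x : G) ∉ (A : Set G) → (Ψ - χ j) x = 0 := fun j x hx => by
    rw [Pi.sub_apply, hvanΨ x hx, hvan _ (hmem j) x hx, sub_zero]
  have hcoef : ∀ j (φ : Cfsg.IrrCharacter G),
      Cfsg.classInner (τ j) (φ : G → ℂ) = (((M₀ φ : ℤ) - M φ j : ℤ) : ℂ) := fun j φ => by
    show Cfsg.classInner (Cfsg.indFun N (Ψ - χ j)) _ = _
    rw [frobenius_reciprocity N _ _ (irr_isClassFunction φ.2), classInner_sub_left, hΨφ, hM]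
    push_cast; ring
  have hnorm : ∀ j, Cfsg.classInner (τ j) (τ j) = (e : ℂ) + 1 := fun j => by
    show Cfsg.classInner (Cfsg.indFun N (Ψ - χ j)) (Cfsg.indFun N (Ψ - χ j)) = _
    rw [classInner_indFun_ti (A : Set G) hTI _ _ (isGeneralized_isClassFunction (hgenf j))
      (hfv j) (hfv j) (hf1 j), classInner_sub_left, classInner_sub_right, classInner_sub_right]
    have hΨΨ : Cfsg.classInner Ψ Ψ = (e : ℂ) := by
      conv_lhs => arg 1; rw [hΨ]
      rw [frobenius_reciprocity A' _ _ (indFun_isClassFunction _ _), hΨres, classInner_smul_right,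
        irr_classInner_self one'.2, mul_one, Complex.conj_natCast]
    have hΨχ : Cfsg.classInner Ψ (χ j) = 0 := by
      rw [hΨ, frobenius_reciprocity A' _ _ (irr_isClassFunction (hirr _ (hmem j))),
        ← classInner_conj_symm, hχ0, map_zero]
    have hχΨ : Cfsg.classInner (χ j) Ψ = 0 := by rw [← classInner_conj_symm, hΨχ, map_zero]
    rw [hΨΨ, hΨχ, hχΨ, irr_classInner_self (hirr _ (hmem j))]
    ring
  have hτcl : ∀ j, Cfsg.IsClassFunction G (τ j) := fun j => indFun_isClassFunction _ _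
  have hsq : ∀ j, ∑ φ : Cfsg.IrrCharacter G, ((M₀ φ : ℤ) - M φ j) ^ 2 = (e : ℤ) + 1 := fun j => by
    have h := hnorm j
    rw [classInner_eq_sum_mul (hτcl j)] at h
    simp only [hcoef, map_intCast] at h
    simp only [sq]
    exact_mod_cast h
  have hdegeq : ∀ j,
      ∑ φ : Cfsg.IrrCharacter G, (((M₀ φ : ℤ) - M φ j : ℤ) : ℂ) * (φ : G → ℂ) 1 = 0 := fun j => by
    have h := classFunction_apply_eq_sum (hτcl j) (1 : G)
    simp only [hcoef] at h
    rw [← h]
    show Cfsg.indFun N (Ψ - χ j) 1 = 0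
    rw [indFun_apply_one, hf1, mul_zero]
  have hMdiff : ∀ (φ : Cfsg.IrrCharacter G) i j, (M φ i : ℤ) - M φ j =
      εz * ((if θ i = (φ : G → ℂ) then 1 else 0) - (if θ j = (φ : G → ℂ) then 1 else 0)) := by
    intro φ i j
    have h := congr_arg (fun f => Cfsg.classInner f (φ : G → ℂ)) (hθe i j)
    simp only [classInner_sub_left, classInner_smul_left] at h
    rw [frobenius_reciprocity N _ _ (irr_isClassFunction φ.2),
      frobenius_reciprocity N _ _ (irr_isClassFunction φ.2), irr_classInner (hθ i) φ.2,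
      irr_classInner (hθ j) φ.2, hM, hM, ← hεz] at h
    rw [← Int.cast_inj (α := ℂ)]
    push_cast
    exact h
  -- the exceptional characters
  let Θ : Fin w → Cfsg.IrrCharacter G := fun j => ⟨θ j, hθ j⟩
  have hΘinj : Function.Injective Θ := fun i j h => hθinj (congr_arg Subtype.val h)
  let j0 : Fin w := ⟨0, by omega⟩
  let other : Fin w → Fin w := fun k => if k = j0 then ⟨1, by omega⟩ else j0
  have hother : ∀ k, other k ≠ k := fun k => by
    simp only [other]
    split_ifs with h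
    · subst h; simp [j0, Fin.ext_iff]
    · exact Ne.symm h
  have hMθ : ∀ k j, (M (Θ k) j : ℤ) = M (Θ k) (other k) + εz * (if j = k then 1 else 0) := by
    intro k j
    have h := hMdiff (Θ k) j (other k)
    simp only [Θ, hθinj.eq_iff, hother, if_false, sub_zero] at h ⊢
    omega
  let al : Fin w → ℤ := fun k => (M₀ (Θ k) : ℤ) - M (Θ k) (other k)
  have hMc : ∀ φ : Cfsg.IrrCharacter G, (∀ k, φ ≠ Θ k) → ∀ i j, M φ i = M φ j := by
    intro φ hφ i j
    have hne : ∀ k, θ k ≠ (φ : G → ℂ) := fun k h => hφ k (Subtype.ext h.symm)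
    have h := hMdiff φ i j
    rw [if_neg (hne i), if_neg (hne j), sub_self, mul_zero] at h
    omega
  set T : Finset (Cfsg.IrrCharacter G) := Finset.univ.filter fun φ => ∀ k, φ ≠ Θ k with hT
  have hsplit : ∀ {R : Type} [AddCommMonoid R] (f : Cfsg.IrrCharacter G → R),
      ∑ φ, f φ = ∑ φ ∈ T, f φ + ∑ k, f (Θ k) := by
    intro R _ f
    rw [← Finset.sum_add_sum_compl T f, ← Finset.sum_image (fun a _ b _ h => hΘinj h)]
    congr 1
    refine Finset.sum_congr ?_ fun _ _ => rfl
    ext φ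
    simp [hT, eq_comm]
  set α := al j0
  have hal : ∀ k, al k = α := by
    intro k
    have h1 := hsq k
    have h2 := hsq j0
    rw [hsplit] at h1 h2
    have hTk : ∑ φ ∈ T, ((M₀ φ : ℤ) - M φ k) ^ 2 = ∑ φ ∈ T, ((M₀ φ : ℤ) - M φ j0) ^ 2 :=
      Finset.sum_congr rfl fun φ hφ => by rw [hMc φ (Finset.mem_filter.mp hφ).2 k j0]
    have hrw : ∀ j, ∑ i, ((M₀ (Θ i) : ℤ) - M (Θ i) j) ^ 2 =
        ∑ i, al i ^ 2 + ((al j - εz) ^ 2 - al j ^ 2) := by
      intro j
      have : ∀ i, ((M₀ (Θ i) : ℤ) - M (Θ i) j) ^ 2 =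
          al i ^ 2 + (if j = i then (al i - εz) ^ 2 - al i ^ 2 else 0) := fun i => by
        simp only [al]
        rw [hMθ i j]
        split_ifs <;> ring
      rw [Finset.sum_congr rfl fun i _ => this i, Finset.sum_add_distrib, Finset.sum_ite_eq,
        if_pos (Finset.mem_univ _)]
    rw [hrw] at h1 h2
    rcases hεz1 with h | h <;> rw [h] at h1 h2 <;> nlinarith
  have hval : ∀ k, ∀ x : A', x ≠ 1 → θ k ((x : N) : G) = (α : ℂ) + (εz : ℂ) * χ k x := by
    intro k x hx
    have h := hexp (Θ k) x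
    have hk : ∀ j, (M (Θ k) j : ℂ) = (M (Θ k) (other k) : ℂ) + (εz : ℂ) * (if j = k then 1 else 0) :=
      fun j => by
        have := congr_arg (Int.cast : ℤ → ℂ) (hMθ k j)
        split_ifs at this ⊢ <;> push_cast at this <;> exact this
    rw [Finset.sum_congr rfl fun j _ => by rw [hk j]] at h
    simp only [add_mul, mul_assoc, Finset.sum_add_distrib, ← Finset.mul_sum, ite_mul, one_mul,
      zero_mul, Finset.sum_ite_eq', Finset.mem_univ, if_true, htot1 x hx] at h
    have h3 := congr_arg (Int.cast : ℤ → ℂ) (hal k)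
    simp only [al] at h3
    push_cast at h3
    linear_combination h + h3
  have hdegθ : ∀ k, θ k 1 = (((Nat.card A : ℤ) * M (Θ k) (other k) + α + εz * e : ℤ) : ℂ) := by
    intro k
    have h := hexp (Θ k) 1
    simp only [OneMemClass.coe_one] at h
    have hk : ∀ j, (M (Θ k) j : ℂ) = (M (Θ k) (other k) : ℂ) + (εz : ℂ) * (if j = k then 1 else 0) :=
      fun j => by
        have := congr_arg (Int.cast : ℤ → ℂ) (hMθ k j)
        split_ifs at this ⊢ <;> push_cast at this <;> exact this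
    have hχ1 : ∀ j, χ j 1 = (e : ℂ) := fun j => hone _ (hmem j)
    rw [Finset.sum_congr rfl fun j _ => by rw [hk j]] at h
    simp only [hχ1, add_mul, mul_assoc, Finset.sum_add_distrib, ← Finset.mul_sum, ite_mul,
      one_mul, zero_mul, Finset.sum_ite_eq', Finset.mem_univ, if_true, Finset.sum_const,
      Finset.card_univ, Fintype.card_fin, nsmul_eq_mul] at h
    have h3 := congr_arg (Int.cast : ℤ → ℂ) (hal k)
    simp only [al] at h3
    push_cast at h3 ⊢
    have hm' : (Nat.card A : ℂ) = (w : ℂ) * e + 1 := by exact_mod_cast hwe.symm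
    rw [hm']
    linear_combination h + h3
  obtain ⟨d, hd⟩ := char_apply_one_eq_nat (irr_isCharacter (hθ j0))
  have hdall : ∀ j, θ j 1 = (d : ℂ) := fun j => by
    have h := congr_fun (hθe j j0) 1
    simp only [Pi.sub_apply, Pi.smul_apply, indFun_apply_one, hone _ (hmem j), hone _ (hmem j0),
      sub_self, smul_eq_mul, ← hεz] at h
    rw [← hd]
    rcases hεz1 with he' | he' <;> simp [he'] at h <;>
      first | linear_combination -h | linear_combination h
  have hχne : ∀ φ : Cfsg.IrrCharacter G, (φ : G → ℂ) = (fun _ => 1) →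
      (∀ j, M φ j = 0) ∧ M₀ φ = 1 := by
    intro φ hφ
    refine ⟨fun j => ?_, ?_⟩
    · have h := hM φ j
      have hne : χ j ≠ fun _ => 1 := fun h1 => by
        have := hχ0 j
        rw [h1, irr_classInner_self isIrrCharacter_one] at this
        exact one_ne_zero this
      rw [hφ, irr_classInner_ne (hirr _ (hmem j)) isIrrCharacter_one hne] at h
      exact_mod_cast h.symm
    · have h := hM₀ φ
      simp only [hφ, hone'] at h
      rw [irr_classInner_self isIrrCharacter_one] at h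
      exact_mod_cast h.symm
  have hne1 : ∀ j, (Θ j : G → ℂ) ≠ fun _ => 1 := by
    intro j h
    have h1 := hMθ j j
    rw [(hχne _ h).1, (hχne _ h).1, if_pos rfl] at h1
    rcases hεz1 with h' | h' <;> rw [h'] at h1 <;> omega
  let a : Cfsg.IrrCharacter G → ℤ := fun φ => (M₀ φ : ℤ) - M φ j0
  let one : Cfsg.IrrCharacter G := ⟨fun _ => 1, isIrrCharacter_one⟩
  refine ⟨εz, α, d, Θ, (T.erase one).filter fun φ => a φ ≠ 0, a,
    ⟨hεz1, hΘinj, hne1, hdall, ⟨M (Θ j0) (other j0), ?_⟩, ?_, ?_⟩, ?_, ?_, ?_, ?_⟩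
  · have h : (((d : ℤ) : ℤ) : ℂ) =
        (((Nat.card A : ℤ) * M (Θ j0) (other j0) + α + εz * e : ℤ) : ℂ) := by
      rw [← hdegθ j0, hd]; push_cast; rfl
    exact_mod_cast h
  · intro x hx hx1
    let x' : A' := ⟨⟨x, hAN hx⟩, Subgroup.mem_subgroupOf.mpr hx⟩
    have hx1' : x' ≠ 1 := fun h => hx1 (congr_arg (fun y : A' => ((y : N) : G)) h)
    show ∑ j, θ j ((x' : N) : G) = _
    rw [Finset.sum_congr rfl fun j _ => hval j x' hx1', Finset.sum_add_distrib, ← Finset.mul_sum,
      htot1 x' hx1', Finset.sum_const, Finset.card_univ, Fintype.card_fin, nsmul_eq_mul]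
    push_cast; ring
  · intro i j g hg
    show θ i g = θ j g
    have h := congr_fun (hθe i j) g
    rw [← indFun_sub, indFun_def, Finset.sum_eq_zero, mul_zero] at h
    · have hε0 : ε ≠ 0 := by rcases hε with h' | h' <;> simp [h']
      simp only [Pi.smul_apply, Pi.sub_apply, smul_eq_mul] at h
      exact sub_eq_zero.mp ((mul_eq_zero.mp h.symm).resolve_left hε0)
    · intro y _
      by_cases hy : y⁻¹ * g * y ∈ N
      · rw [extendByZero_of_mem _ hy, Pi.sub_apply]
        by_cases hyA : y⁻¹ * g * y ∈ A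
        · have h1 : (⟨y⁻¹ * g * y, hy⟩ : N) = 1 := Subtype.ext (by
            show y⁻¹ * g * y = 1
            rw [hg y hyA]; group)
          rw [h1, hone _ (hmem i), hone _ (hmem j), sub_self]
        · rw [hvan _ (hmem i) _ hyA, hvan _ (hmem j) _ hyA, sub_self]
      · exact extendByZero_of_not_mem _ hy
  · intro φ hφ
    simp only [Finset.mem_filter, Finset.mem_erase, hT] at hφ
    obtain ⟨⟨hφ1, -, hφθ⟩, ha⟩ := hφ
    refine ⟨hφθ, fun h => hφ1 (Subtype.ext h), ha, fun x hx hx1 => ?_, M φ j0, ?_⟩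
    · let x' : A' := ⟨⟨x, hAN hx⟩, Subgroup.mem_subgroupOf.mpr hx⟩
      have hx1' : x' ≠ 1 := fun h => hx1 (congr_arg (fun y : A' => ((y : N) : G)) h)
      have h := hexp φ x'
      simp only [fun j => hMc φ hφθ j j0, ← Finset.mul_sum, htot1 x' hx1'] at h
      show (φ : G → ℂ) ((x' : N) : G) = _
      rw [h]
      simp only [a]
      push_cast; ring
    · have h := hexp φ 1
      simp only [OneMemClass.coe_one, fun j => hMc φ hφθ j j0,
        fun j => hone _ (hmem j), Finset.sum_const, Finset.card_univ, Fintype.card_fin,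
        nsmul_eq_mul] at h
      rw [h]
      simp only [a]
      have hm' : (Nat.card A : ℂ) = (w : ℂ) * e + 1 := by exact_mod_cast hwe.symm
      push_cast
      rw [hm']; ring
  · intro φ hφ hφθ hφ1 x hx hx1
    have ha : a φ = 0 := by
      by_contra ha
      exact hφ (Finset.mem_filter.mpr ⟨Finset.mem_erase.mpr ⟨fun h => hφ1 (congr_arg Subtype.val h),
        Finset.mem_filter.mpr ⟨Finset.mem_univ _, hφθ⟩⟩, ha⟩)
    let x' : A' := ⟨⟨x, hAN hx⟩, Subgroup.mem_subgroupOf.mpr hx⟩
    have hx1' : x' ≠ 1 := fun h => hx1 (congr_arg (fun y : A' => ((y : N) : G)) h)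
    have h := hexp φ x'
    simp only [fun j => hMc φ hφθ j j0, ← Finset.mul_sum, htot1 x' hx1'] at h
    show (φ : G → ℂ) ((x' : N) : G) = _
    rw [h]
    have ha' := congr_arg (Int.cast : ℤ → ℂ) ha
    simp only [a] at ha'
    push_cast at ha'
    linear_combination ha'
  · have h := hsq j0
    have honeT : one ∈ T := Finset.mem_filter.mpr ⟨Finset.mem_univ _,
      fun k h => hne1 k (congr_arg Subtype.val h).symm⟩
    have hone1 : a one = 1 := by simp [a, (hχne one rfl).1, (hχne one rfl).2]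
    rw [hsplit, ← Finset.add_sum_erase _ _ honeT] at h
    have hθs : ∑ k, ((M₀ (Θ k) : ℤ) - M (Θ k) j0) ^ 2 = ((w : ℤ) - 1) * α ^ 2 + (α - εz) ^ 2 := by
      rw [← Finset.add_sum_erase _ _ (Finset.mem_univ j0)]
      have h1 : ∀ k ∈ (Finset.univ : Finset (Fin w)).erase j0,
          ((M₀ (Θ k) : ℤ) - M (Θ k) j0) ^ 2 = α ^ 2 := fun k hk => by
        rw [hMθ k j0, if_neg (Finset.ne_of_mem_erase hk).symm, mul_zero, add_zero]
        exact congr_arg (· ^ 2) (hal k)
      rw [Finset.sum_congr rfl h1, Finset.sum_const, Finset.card_erase_of_mem (Finset.mem_univ _),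
        Finset.card_univ, Fintype.card_fin, nsmul_eq_mul, hMθ j0 j0, if_pos rfl, mul_one]
      have : (M₀ (Θ j0) : ℤ) - M (Θ j0) (other j0) = α := rfl
      rw [← sub_sub, this]
      push_cast [Nat.cast_sub (show 1 ≤ w by omega)]
      ring
    rw [hθs, show ((M₀ one : ℤ) - M one j0) = a one from rfl, hone1] at h
    rw [Finset.sum_filter_of_ne (p := fun φ => a φ ≠ 0) (fun φ _ h h0 => h (by rw [h0]; norm_num))]
    simp only [a]
    linarith
  · have h := hdegeq j0
    have honeT : one ∈ T := Finset.mem_filter.mpr ⟨Finset.mem_univ _,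
      fun k h => hne1 k (congr_arg Subtype.val h).symm⟩
    rw [hsplit, ← Finset.add_sum_erase _ _ honeT] at h
    have hθs : ∑ k, (((M₀ (Θ k) : ℤ) - M (Θ k) j0 : ℤ) : ℂ) * (Θ k : G → ℂ) 1 =
        ((w * α - εz : ℤ) : ℂ) * d := by
      rw [Finset.sum_congr rfl fun k _ => by rw [show (Θ k : G → ℂ) 1 = d from hdall k],
        ← Finset.sum_mul, ← Int.cast_sum]
      congr 2
      have h1 : ∀ k, (M₀ (Θ k) : ℤ) - M (Θ k) j0 = α - εz * (if j0 = k then 1 else 0) := fun k => by
        rw [hMθ k j0, ← sub_sub]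
        congr 1
        exact hal k
      rw [Finset.sum_congr rfl fun k _ => h1 k, Finset.sum_sub_distrib, ← Finset.mul_sum]
      simp
    rw [hθs, (hχne one rfl).2, (hχne one rfl).1] at h
    rw [Finset.sum_filter_of_ne (p := fun φ => a φ ≠ 0) (fun φ _ h h0 => h (by rw [h0]; norm_num))]
    simp only [a]
    simpa [one] using h

end CfsgLib.Transfer
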