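import Cfsg.Agent.Lib.Transfer.SylowAction
import Cfsg.Agent.Lib.Transfer.CentralizerTwoSylow

/-!
# No simple group of order 1440
-/

namespace CfsgLib.Transfer

open Subgroup
open scoped Pointwise

variable {G : Type*} [Group G] [Finite G] [IsSimpleGroup G]

omit [IsSimpleGroup G] in
/-- A subgroup of order 120 containing a Sylow 5-subgroup with 6 conjugates in it forces 3 to
divide the order of its centralizer. -/
theorem three_dvd_centralizer_of_card_120 [Fact (Nat.Prime 5)] (P : Sylow 5 G)
    (hP : Nat.card (P : Subgroup G) = 5)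
    (hC : Nat.card (centralizer ((P : Subgroup G) : Set G)) = 20)
    (H : Subgroup G) (hH : Nat.card H = 120) (hPH : (P : Subgroup G) ≤ H)
    (hCH : centralizer ((P : Subgroup G) : Set G) ≤ H) (hn : Nat.card (Sylow 5 H) = 6) : False := by
  have : Fact (Nat.Prime 3) := ⟨Nat.prime_three⟩
  set P' : Sylow 5 H := P.subtype hPH
  have hP' : Nat.card (P' : Subgroup H) = 5 := by
    rw [show (P' : Subgroup H) = (P : Subgroup G).subgroupOf H from rfl,
      Nat.card_congr (subgroupOfEquivOfLe hPH).toEquiv, hP]
  have hN : normalizer ((P' : Subgroup H) : Set H) ≤ centralizer ((P' : Subgroup H) : Set H) := by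
    have h1 := (normalizer ((P' : Subgroup H) : Set H)).index_mul_card
    rw [show (normalizer ((P' : Subgroup H) : Set H)).index = 6 from
      P'.card_eq_index_normalizer.symm.trans hn, hH] at h1
    have hle : (centralizer ((P : Subgroup G) : Set G)).subgroupOf H ≤
        normalizer ((P' : Subgroup H) : Set H) := fun c hc => mem_normalizer_fintype fun y hy => by
      change (c : G) * (y : G) * (c : G)⁻¹ ∈ (P : Subgroup G)
      rw [← mem_centralizer_iff.1 (mem_subgroupOf.1 hc) (y : G) hy, mul_inv_cancel_right]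
      exact hy
    have he := eq_of_le_of_card_ge hle (by
      rw [Nat.card_congr (subgroupOfEquivOfLe hCH).toEquiv, hC]; omega)
    rw [← he]
    intro c hc
    exact mem_centralizer_iff.2 fun y hy => Subtype.ext
      (mem_centralizer_iff.1 (mem_subgroupOf.1 hc) (y : G) hy)
  obtain ⟨S, K, hK, hKS⟩ := hasNormalPComplement_of_normalizer_le_centralizer P' hN
  have hS : Nat.card (S : Subgroup H) = 5 := (Nat.card_congr (S.equiv P').toEquiv).trans hP'
  have hKc : Nat.card K = 24 := by
    have := hKS.card_mul
    rw [hS, hH] at this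
    omega
  obtain ⟨R⟩ := (inferInstance : Nonempty (Sylow 3 K))
  have hR : Nat.card (R : Subgroup K) = 3 := by
    rw [R.card_eq_multiplicity, hKc, show (24 : ℕ) = 3 * 8 from rfl,
      Nat.factorization_mul (by norm_num) (by norm_num), Finsupp.add_apply,
      Nat.Prime.factorization_self Nat.prime_three,
      Nat.factorization_eq_zero_of_not_dvd (show ¬ 3 ∣ 8 by norm_num), add_zero, pow_one]
  set R' : Subgroup H := (R : Subgroup K).map K.subtype
  have hR' : Nat.card R' = 3 := by rw [card_map_of_injective K.subtype_injective, hR]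
  have htop := Sylow.normalizer_sup_eq_top R
  -- an element of order 5 normalizes, hence centralizes, `R'`
  obtain ⟨u, huN, huK⟩ : ∃ u ∈ normalizer (R' : Set H), u ∉ K := by
    by_contra! hle
    have hle' : normalizer (R' : Set H) ≤ K := hle
    have : K = ⊤ := top_le_iff.1 (htop.ge.trans (sup_le hle' le_rfl))
    rw [this, card_top, hH] at hKc
    omega
  have h5 : 5 ∣ Nat.card (normalizer (R' : Set H)) := by
    have h := card_subgroup_dvd_card ((QuotientGroup.mk' K).comp (normalizer (R' : Set H)).subtype).range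
    have hq : Nat.card (H ⧸ K) = 5 := by
      have := K.index_mul_card
      rw [hKc, hH, index_eq_card] at this
      omega
    rw [hq] at h
    rcases (Nat.dvd_prime (by norm_num : (5 : ℕ).Prime)).1 h with h1 | h1
    · exfalso
      have hb := card_eq_one.1 h1
      have hu : QuotientGroup.mk' K u = 1 := by
        rw [← mem_bot, ← hb]; exact ⟨⟨u, huN⟩, rfl⟩
      exact huK ((QuotientGroup.eq_one_iff u).1 hu)
    · rw [← h1]; exact card_range_dvd _
  obtain ⟨v, hv⟩ := exists_prime_orderOf_dvd_card' 5 h5
  have hvc : ∀ r ∈ R', (v : H) * r * (v : H)⁻¹ = r := by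
    have := isCyclic_of_prime_card hR'
    have h1 : R'.normalizerMonoidHom v = 1 := by
      refine orderOf_eq_one_iff.1 (Nat.eq_one_of_dvd_coprimes (show Nat.Coprime 2 5 by norm_num) ?_
        (hv ▸ orderOf_map_dvd _ v))
      have h2 := orderOf_dvd_natCard (R'.normalizerMonoidHom v)
      rwa [IsCyclic.card_mulAut, hR', Nat.totient_prime Nat.prime_three] at h2
    intro r hr
    exact congrArg Subtype.val (congrArg (fun α : MulAut R' => α ⟨r, hr⟩) h1)
  -- `⟨v⟩` is conjugate to `P`
  set w : G := ((v : H) : G) with hw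
  have hwo : orderOf w = 5 := by rw [hw, Subgroup.orderOf_coe, Subgroup.orderOf_coe, hv]
  obtain ⟨Q, hQ⟩ := (IsPGroup.of_card (n := 1)
    (show Nat.card (zpowers w) = 5 ^ 1 by rw [Nat.card_zpowers, hwo, pow_one])).exists_le_sylow
  have hQw : zpowers w = (Q : Subgroup G) := eq_of_le_of_card_ge hQ (by
    rw [(Nat.card_congr (Q.equiv P).toEquiv).trans hP, Nat.card_zpowers, hwo])
  have hle : R'.map H.subtype ≤ centralizer ((Q : Subgroup G) : Set G) := by
    rintro _ ⟨r, hr, rfl⟩
    rw [← hQw, zpowers_eq_closure, centralizer_closure, mem_centralizer_singleton_iff]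
    have h3 : ((v : H) : G) * (r : G) * ((v : H) : G)⁻¹ = (r : G) := congrArg Subtype.val (hvc r hr)
    exact (mul_inv_eq_iff_eq_mul.1 h3).symm
  have := card_dvd_of_le hle
  rw [card_map_of_injective H.subtype_injective, hR', card_centralizer_sylow P Q, hC] at this
  norm_num at this

open scoped Classical in
/-- `|N(P)| = 40`, `|C(P)| = 10` is impossible with 36 Sylow 5-subgroups. -/
theorem false_of_36_sylow_five [Fact (Nat.Prime 5)] (hG : ¬ IsMulCommutative G)
    (hcard : Nat.card G = 1440) (P : Sylow 5 G) (hP : Nat.card (P : Subgroup G) = 5)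
    (hn : Nat.card (Sylow 5 G) = 36)
    (hN : Nat.card (normalizer ((P : Subgroup G) : Set G)) = 4 * 10)
    (hC : Nat.card (centralizer ((P : Subgroup G) : Set G)) = 10) : False := by
  have : Fact (Nat.Prime 2) := ⟨Nat.prime_two⟩
  have := Fintype.ofFinite G
  have := Fintype.ofFinite (Sylow 5 G)
  set C := centralizer ((P : Subgroup G) : Set G)
  set N := normalizer ((P : Subgroup G) : Set G) with hNdef
  obtain ⟨k', hk'⟩ := exists_prime_orderOf_dvd_card' (G := C) 2 (by rw [hC]; norm_num)
  set k : G := (k' : G)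
  have hk2 : orderOf k = 2 := by rw [Subgroup.orderOf_coe, hk']
  have hkk : k * k = 1 := by rw [← pow_two, ← hk2]; exact pow_orderOf_eq_one k
  have hk1 : k ≠ 1 := fun h => by rw [h, orderOf_one] at hk2; omega
  have := isCyclic_of_prime_card hP
  have hPC : (P : Subgroup G) ≤ C := fun x hx => mem_centralizer_iff.2 fun y hy =>
    congrArg Subtype.val ((IsCyclic.commGroup (α := (P : Subgroup G))).mul_comm ⟨y, hy⟩ ⟨x, hx⟩)
  -- `k` is the only involution of `C`
  have huni : ∀ y ∈ C, y * y = 1 → y = 1 ∨ y = k := by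
    intro y hy hyy
    have hcen : ∀ c ∈ C, c * k = k * c := by
      have htop : C ≤ centralizer ({k} : Set G) := by
        refine inf_eq_right.1 (eq_of_le_of_card_ge inf_le_right ?_)
        rw [hC]
        refine Nat.le_of_dvd Nat.card_pos
          (Nat.Coprime.mul_dvd_of_dvd_of_dvd (show Nat.Coprime 5 2 by norm_num) ?_ ?_)
        · refine hP ▸ card_dvd_of_le (le_inf (fun x hx => ?_) hPC)
          exact mem_centralizer_singleton_iff.2 (mem_centralizer_iff.1 k'.2 x hx)
        · rw [← hk2, ← Subgroup.orderOf_mk k (mem_inf.2 ⟨mem_centralizer_singleton_iff.2 rfl, k'.2⟩ :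
            k ∈ centralizer ({k} : Set G) ⊓ C)]
          exact orderOf_dvd_natCard _
      exact fun c hc => mem_centralizer_singleton_iff.1 (htop hc)
    by_contra h
    push Not at h
    -- `{1, k, y, y k}` would be a subgroup of order 4
    let K4 : Subgroup C := zpowers (⟨k, k'.2⟩ : C) ⊔ zpowers ⟨y, hy⟩
    have hK4 : IsPGroup 2 K4 := by
      have h1 : ∀ a : C, a * a = 1 → IsPGroup 2 (zpowers a) := fun a ha =>
        IsPGroup.iff_orderOf.2 fun z => by
          obtain ⟨j, -, hj⟩ := (Nat.dvd_prime_pow Nat.prime_two).1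
            (((orderOf_dvd_natCard z).trans (Nat.card_zpowers a).dvd).trans
              (show orderOf a ∣ 2 ^ 1 from orderOf_dvd_of_pow_eq_one (by rw [pow_one, pow_two, ha])))
          exact ⟨j, hj⟩
      refine (h1 ⟨k, k'.2⟩ (Subtype.ext hkk)).to_sup_of_normal_left' (h1 ⟨y, hy⟩ (Subtype.ext hyy)) ?_
      refine le_trans (zpowers_le.2 ?_) (le_refl _)
      refine mem_normalizer_fintype fun z hz => ?_
      obtain ⟨i, rfl⟩ := mem_zpowers_iff.1 hz
      have hc : Commute (⟨y, hy⟩ : C) ⟨k, k'.2⟩ := Subtype.ext (hcen y hy)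
      rw [(hc.zpow_right i).eq, mul_inv_cancel_right]
      exact hz
    obtain ⟨S, hS⟩ := hK4.exists_le_sylow
    have hS2 : Nat.card (S : Subgroup C) = 2 := card_sylow_eq_prime S (by rw [hC]; norm_num)
      (by rw [hC]; norm_num)
    have h3 : 3 ≤ Nat.card (S : Subgroup C) := by
      let v : Fin 3 → (S : Subgroup C) := ![1, ⟨⟨k, k'.2⟩, hS (le_sup_left (a := zpowers (⟨k, k'.2⟩ : C)) (mem_zpowers _))⟩,
        ⟨⟨y, hy⟩, hS (le_sup_right (b := zpowers (⟨y, hy⟩ : C)) (mem_zpowers _))⟩]
      have hv : Function.Injective v := by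
        intro i j hij
        have hij' := congrArg (fun z : (S : Subgroup C) => ((z : C) : G)) hij
        fin_cases i <;> fin_cases j <;> simp [v, hk1, h.1, h.2, Ne.symm hk1, Ne.symm h.1, Ne.symm h.2] at hij' ⊢
      simpa using Nat.card_le_card_of_injective v hv
    omega
  have hNC : ∀ g ∈ N, g * k * g⁻¹ = k := by
    intro g hg
    have hmem : g * k * g⁻¹ ∈ C := mem_centralizer_iff.2 fun y hy => by
      have h := mem_centralizer_iff.1 k'.2 (g⁻¹ * y * g) (by
        have := (mem_normalizer_iff.1 (inv_mem hg) y).1 hy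
        rwa [inv_inv] at this)
      calc y * (g * k * g⁻¹) = g * (g⁻¹ * y * g * k) * g⁻¹ := by group
        _ = g * (k * (g⁻¹ * y * g)) * g⁻¹ := by rw [h]
        _ = g * k * g⁻¹ * y := by group
    rcases huni _ hmem (by
      calc g * k * g⁻¹ * (g * k * g⁻¹) = g * (k * k) * g⁻¹ := by group
        _ = 1 := by rw [hkk]; group) with h | h
    · exact absurd (conj_eq_one_iff.1 h) hk1
    · exact h
  set H := centralizer ({k} : Set G)
  have hNH : N ≤ H := fun g hg => mem_centralizer_singleton_iff.2 (mul_inv_eq_iff_eq_mul.1 (hNC g hg))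
  -- `|C(k)| = 40`
  have hHc : Nat.card H = 40 := by
    have hPH : (P : Subgroup G) ≤ H := le_normalizer.trans hNH
    have hNc : normalizer (((P.subtype hPH : Sylow 5 H) : Subgroup H) : Set H) = N.subgroupOf H := by
      rw [show ((P.subtype hPH : Sylow 5 H) : Subgroup H) = (P : Subgroup G).subgroupOf H from rfl,
        ← subgroupOf_normalizer_eq hPH]
    have h1 := card_sylow_modEq_one 5 H
    rw [show Nat.card (Sylow 5 H) = (N.subgroupOf H).index from
      (P.subtype hPH).card_eq_index_normalizer.trans (congrArg Subgroup.index hNc), Nat.ModEq] at h1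
    have h2 := (N.subgroupOf H).index_mul_card
    rw [Nat.card_congr (subgroupOfEquivOfLe hNH).toEquiv, hN] at h2
    have h3 := H.index_mul_card
    have hi := two_mul_card_dvd_factorial hG (centralizer_singleton_ne_top hG hk1 : H ≠ ⊤)
    rw [hcard] at h3 hi
    have hi8 : 8 ≤ H.index := by
      by_contra hlt
      revert hi
      generalize H.index = i at hlt
      push Not at hlt
      interval_cases i <;> decide
    set l := (N.subgroupOf H).index
    have hl4 : l ≤ 4 := by nlinarith
    have : l = 1 := by omega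
    rw [this] at h2
    omega
  -- count fixed Sylow subgroups
  have hcount := fixed_sylow_count P k
  simp only [← hNdef] at hcount
  rw [hN, hHc, show 4 * 10 = 40 from rfl] at hcount
  have hf5 := fixed_sylow_modEq_one P (k := k) k'.2
  have hf4 := four_dvd_moved_sylow (p := 5) hG hkk
  rw [← Nat.card_eq_fintype_card, hn] at hf4
  have hfle : (Finset.univ.filter fun Q : Sylow 5 G => k • Q = Q).card ≤ 36 := by
    rw [← hn, Nat.card_eq_fintype_card]; exact Finset.card_le_univ _
  -- at most 11 conjugates of `k` in `N`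
  have ha : (Finset.univ.filter fun y : G => y ∈ N ∧ IsConj k y).card ≤ 11 := by
    set A := Finset.univ.filter fun y : G => y ∈ N ∧ IsConj k y
    have hprop : ∀ y ∈ A, y ∈ N ∧ y * y = 1 ∧ y ≠ 1 := by
      intro y hy
      obtain ⟨-, hyN, hc⟩ := Finset.mem_filter.1 hy
      obtain ⟨c, rfl⟩ := isConj_iff.1 hc
      refine ⟨hyN, ?_, fun h => hk1 (conj_eq_one_iff.1 h)⟩
      calc c * k * c⁻¹ * (c * k * c⁻¹) = c * (k * k) * c⁻¹ := by group
        _ = 1 := by rw [hkk]; group
    rw [← Finset.card_filter_add_card_filter_not (fun y => y ∈ C)]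
    have h1 : (A.filter fun y => y ∈ C).card ≤ 1 := by
      refine (Finset.card_le_card (t := {k}) fun y hy => ?_).trans (Finset.card_singleton k).le
      obtain ⟨hyA, hyC⟩ := Finset.mem_filter.1 hy
      obtain ⟨-, hyy, hy1⟩ := hprop y hyA
      exact Finset.mem_singleton.2 ((huni y hyC hyy).resolve_left hy1)
    have h2 : (A.filter fun y => y ∉ C).card ≤ 10 := by
      rcases (A.filter fun y => y ∉ C).eq_empty_or_nonempty with h | ⟨y₀, hy₀⟩
      · simp [h]
      obtain ⟨hy₀A, hy₀C⟩ := Finset.mem_filter.1 hy₀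
      obtain ⟨hy₀N, hy₀2, -⟩ := hprop y₀ hy₀A
      have hsame : ∀ y ∈ A.filter (fun y => y ∉ C), y₀⁻¹ * y ∈ C := by
        intro y hy
        obtain ⟨hyA, hyC⟩ := Finset.mem_filter.1 hy
        obtain ⟨hyN, hy2, -⟩ := hprop y hyA
        set φ := (P : Subgroup G).normalizerMonoidHom
        have hker : ∀ g : N, φ g = 1 ↔ (g : G) ∈ C := fun g => by
          rw [← MonoidHom.mem_ker, normalizerMonoidHom_ker, mem_subgroupOf]
        have hcyc : IsCyclic (MulAut (P : Subgroup G)) := by
          have : IsCyclic (ZMod (Nat.card (P : Subgroup G)))ˣ := by rw [hP]; infer_instance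
          exact (IsCyclic.mulAutMulEquiv (P : Subgroup G)).isCyclic.2 this
        have hle2 := hcyc.card_pow_eq_one_le (n := 2) (by norm_num)
        by_contra hne
        let S2 : Finset (MulAut (P : Subgroup G)) := {1, φ ⟨y₀, hy₀N⟩, φ ⟨y, hyN⟩}
        have hS2 : S2.card = 3 := by
          refine Finset.card_eq_three.2 ⟨_, _, _, fun h => hy₀C ((hker _).1 h.symm),
            fun h => hyC ((hker _).1 h.symm), fun h => hne ?_, rfl⟩
          have : φ (⟨y₀, hy₀N⟩⁻¹ * ⟨y, hyN⟩) = 1 := by rw [map_mul, map_inv, h, inv_mul_cancel]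
          exact (hker _).1 this
        have hsub : S2 ⊆ Finset.univ.filter fun a => a ^ 2 = 1 := by
          intro a ha
          refine Finset.mem_filter.2 ⟨Finset.mem_univ _, ?_⟩
          simp only [S2, Finset.mem_insert, Finset.mem_singleton] at ha
          rcases ha with rfl | rfl | rfl
          · exact one_pow 2
          · rw [← map_pow, show (⟨y₀, hy₀N⟩ : N) ^ 2 = 1 from Subtype.ext (by
              rw [SubgroupClass.coe_pow, pow_two]; exact hy₀2), map_one]
          · rw [← map_pow, show (⟨y, hyN⟩ : N) ^ 2 = 1 from Subtype.ext (by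
              rw [SubgroupClass.coe_pow, pow_two]; exact hy2), map_one]
        have := (Finset.card_le_card hsub).trans hle2
        omega
      rw [← hC, Nat.card_eq_fintype_card, ← Finset.card_univ]
      refine Finset.card_le_card_of_injOn
        (fun y => if hy : y₀⁻¹ * y ∈ C then (⟨_, hy⟩ : C) else 1) (fun _ _ => Finset.mem_univ _) ?_
      intro a ha b hb hab
      simp only [dif_pos (hsame a ha), dif_pos (hsame b hb), Subtype.mk.injEq] at hab
      exact mul_left_cancel hab
    omega
  omega

end CfsgLib.Transfer
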