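import Cfsg.Agent.Lib.Transfer.SimpleCount

/-!
# Abelian Sylow subgroups of simple groups
-/

namespace CfsgLib.Transfer

open Subgroup

/-- A prime other than `s` acting non-trivially on an abelian Sylow `s`-subgroup divides
`s ^ k - s ^ j`. -/
theorem exists_prime_dvd_pow_sub_pow {G : Type*} [Group G] [Finite G] [IsSimpleGroup G]
    (hG : ¬ IsMulCommutative G) {s : ℕ} [Fact s.Prime] (hs : s ∣ Nat.card G) (P : Sylow s G)
    [hab : IsMulCommutative (P : Subgroup G)] {k : ℕ} (hk : Nat.card (P : Subgroup G) = s ^ k) :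
    ∃ t j : ℕ, t.Prime ∧ t ≠ s ∧ t ∣ Nat.card G ∧ j < k ∧ t ∣ s ^ k - s ^ j := by
  classical
  have hsp := (Fact.out : s.Prime)
  set N := Subgroup.normalizer ((P : Subgroup G) : Set G)
  set C := Subgroup.centralizer ((P : Subgroup G) : Set G)
  have hPC : (P : Subgroup G) ≤ C := Subgroup.le_centralizer _
  have hne : C.relIndex N ≠ 1 := fun h =>
    not_normalizer_le_centralizer hG hs P (relIndex_eq_one.1 h)
  obtain ⟨t, htp, ht⟩ := Nat.exists_prime_and_dvd hne
  have := Fact.mk htp
  have htG : t ∣ Nat.card G :=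
    ht.trans ((relIndex_dvd_card _ _).trans (card_subgroup_dvd_card N))
  have hts : t ≠ s := by
    rintro rfl
    have h1 : C.relIndex N ∣ (P : Subgroup G).relIndex N := relIndex_dvd_of_le_left _ hPC
    exact P.not_dvd_index ((ht.trans h1).trans (relIndex_dvd_index_of_le le_normalizer))
  let T : Sylow t N := default
  set T' := (T : Subgroup N).map N.subtype
  have hT'N : T' ≤ N := map_subtype_le _
  have hTC : ¬ T' ≤ C := by
    intro hle
    have h1 : (T : Subgroup N) ≤ C.subgroupOf N := fun x hx =>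
      mem_subgroupOf.2 (hle (mem_map_of_mem _ hx))
    exact T.not_dvd_index (ht.trans (index_dvd_of_le h1))
  let act : MulAction T' (P : Subgroup G) :=
    { smul := fun g x => ⟨(g : G) * x * (g : G)⁻¹, (mem_normalizer_iff.1 (hT'N g.2) _).1 x.2⟩
      one_smul := fun x => Subtype.ext (show (1 : G) * x * (1 : G)⁻¹ = x by simp)
      mul_smul := fun g h x => Subtype.ext (show ((g : G) * h) * x * ((g : G) * h)⁻¹ =
        g * (h * x * (h : G)⁻¹) * (g : G)⁻¹ by group) }
  have hmod := (T.2.map N.subtype).card_modEq_card_fixedPoints (α := (P : Subgroup G))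
  have hfix : Nat.card (MulAction.fixedPoints T' (P : Subgroup G)) =
      Nat.card ((P : Subgroup G) ⊓ centralizer (T' : Set G) : Subgroup G) := by
    refine Nat.card_congr
      { toFun := fun x => ⟨(x.1 : G), mem_inf.2 ⟨x.1.2, mem_centralizer_iff.2 fun g hg => ?_⟩⟩
        invFun := fun x => ⟨⟨(x : G), (mem_inf.1 x.2).1⟩, fun g => Subtype.ext ?_⟩
        left_inv := fun x => rfl
        right_inv := fun x => rfl }
    · exact mul_inv_eq_iff_eq_mul.1 (congrArg Subtype.val (x.2 ⟨g, hg⟩) :)
    · exact mul_inv_eq_iff_eq_mul.2 (mem_centralizer_iff.1 (mem_inf.1 x.2).2 g g.2)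
  have hlt : Nat.card ((P : Subgroup G) ⊓ centralizer (T' : Set G) : Subgroup G) <
      Nat.card (P : Subgroup G) := by
    refine lt_of_le_of_ne (card_le_of_le inf_le_left) fun e => hTC ?_
    have h1 := eq_of_le_of_card_ge inf_le_left e.ge
    exact fun g hg => mem_centralizer_iff.2 fun x hx =>
      (mem_centralizer_iff.1 (h1.ge hx).2 g hg).symm
  obtain ⟨j, hj⟩ :=
    (P.2.to_le (inf_le_left : (P : Subgroup G) ⊓ centralizer (T' : Set G) ≤ _)).exists_card_eq
  rw [hfix, hj, hk] at hmod
  rw [hj, hk] at hlt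
  exact ⟨t, j, htp, hts, htG, (Nat.pow_lt_pow_iff_right hsp.one_lt).1 hlt,
    (Nat.modEq_iff_dvd' hlt.le).1 hmod.symm⟩

/-- An abelian Sylow subgroup of order `s` or `s ^ 2` for the smallest prime `s` of a non-abelian
simple group has order four, and three divides the group order. -/
theorem smallest_prime_sylow_sq {G : Type*} [Group G] [Finite G] [IsSimpleGroup G]
    (hG : ¬ IsMulCommutative G) {s k : ℕ} [Fact s.Prime] (hs : s ∣ Nat.card G) (P : Sylow s G)
    (hk : Nat.card (P : Subgroup G) = s ^ k) (hk2 : k ≤ 2)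
    (hmin : ∀ t, t.Prime → t ∣ Nat.card G → s ≤ t) :
    s = 2 ∧ k = 2 ∧ 3 ∣ Nat.card G := by
  have hsp := (Fact.out : s.Prime)
  have : IsMulCommutative (P : Subgroup G) := by
    interval_cases k
    · have : Subsingleton (P : Subgroup G) :=
        (Nat.card_eq_one_iff_unique.1 (hk.trans (pow_zero s))).1
      exact ⟨⟨fun a b => Subsingleton.elim _ _⟩⟩
    · have := isCyclic_of_prime_card (hk.trans (pow_one s))
      exact ⟨⟨fun a b => by let _ := IsCyclic.commGroup (α := (P : Subgroup G)); exact mul_comm a b⟩⟩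
    · exact IsPGroup.isMulCommutative_of_card_eq_prime_sq hk
  obtain ⟨t, j, ht, hts, htG, hjk, hd⟩ := exists_prime_dvd_pow_sub_pow hG hs P hk
  have hlt : s < t := lt_of_le_of_ne (hmin t ht htG) (Ne.symm hts)
  have hsmall : ∀ m : ℕ, t ∣ m → 0 < m → m < t → False := fun m hm h0 hml =>
    absurd (Nat.le_of_dvd h0 hm) (not_le.2 hml)
  have h2 := hsp.two_le
  interval_cases k
  · omega
  · interval_cases j
    simp only [pow_one, pow_zero] at hd
    exact (hsmall _ hd (by omega) (by omega)).elim
  · interval_cases j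
    · simp only [pow_zero] at hd
      rw [show s ^ 2 - 1 = (s + 1) * (s - 1) by
        rw [← Nat.sq_sub_sq, one_pow]] at hd
      rcases ht.dvd_mul.1 hd with h | h
      · have h3 : t = s + 1 := le_antisymm (Nat.le_of_dvd (by omega) h) hlt
        rcases hsp.eq_two_or_odd with rfl | hodd
        · exact ⟨rfl, rfl, by simpa [h3] using htG⟩
        · exfalso
          rcases ht.eq_two_or_odd with h4 | h4 <;> omega
      · exact (hsmall _ h (by omega) (by omega)).elim
    · rw [show s ^ 2 - s ^ 1 = s * (s - 1) by rw [pow_one, sq, Nat.mul_sub_one]] at hd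
      rcases ht.dvd_mul.1 hd with h | h
      · exact absurd ((Nat.prime_dvd_prime_iff_eq ht hsp).1 h) hts
      · exact (hsmall _ h (by omega) (by omega)).elim

end CfsgLib.Transfer
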