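import Cfsg.Agent.Lib.Transfer.SimpleCount

/-!
# Permutation actions on Sylow subgroups
-/

namespace CfsgLib.Transfer

open Subgroup
open scoped Pointwise

variable {G : Type*} [Group G] [Finite G] {p : ℕ} [Fact p.Prime]

open scoped Classical in
/-- `f(k) |N| = |C(k)| a` where `a` counts conjugates of `k` in `N = N(P)` and `f(k)` the Sylow
subgroups fixed by `k`. -/
theorem fixed_sylow_count [Fintype G] [Fintype (Sylow p G)] (P : Sylow p G) (k : G) :
    (Finset.univ.filter fun Q : Sylow p G => k • Q = Q).card *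
        Nat.card (normalizer ((P : Subgroup G) : Set G)) =
      Nat.card (centralizer ({k} : Set G)) *
        (Finset.univ.filter fun y : G => y ∈ normalizer ((P : Subgroup G) : Set G) ∧ IsConj k y).card := by
  set N := normalizer ((P : Subgroup G) : Set G)
  set S := Finset.univ.filter fun g : G => g⁻¹ * k * g ∈ N with hS
  have hmem : ∀ g : G, g⁻¹ * k * g ∈ N ↔ k • (g • P) = g • P := fun g => by
    refine (Sylow.smul_eq_iff_mem_normalizer (g := g⁻¹ * k * g) (P := P)).symm.trans ?_
    rw [smul_smul, mul_assoc, mul_smul, inv_smul_eq_iff]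
  have h1 : S.card = (Finset.univ.filter fun Q : Sylow p G => k • Q = Q).card * Nat.card N := by
    rw [Finset.card_eq_sum_card_fiberwise (f := fun g : G => g • P)
      (t := Finset.univ.filter fun Q : Sylow p G => k • Q = Q)
      (fun g hg => Finset.mem_filter.2 ⟨Finset.mem_univ _, (hmem g).1 (Finset.mem_filter.1 hg).2⟩),
      Finset.sum_congr rfl fun Q hQ => ?_, Finset.sum_const, smul_eq_mul]
    obtain ⟨g₀, rfl⟩ := MulAction.exists_smul_eq G P Q
    have hQ' := (hmem g₀).2 (Finset.mem_filter.1 hQ).2
    rw [Nat.card_eq_fintype_card, ← Finset.card_univ]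
    refine (Finset.card_bij (fun (n : N) _ => g₀ * (n : G)) (fun n _ => ?_)
      (fun a _ b _ h => Subtype.ext (mul_left_cancel h)) fun g hg => ?_).symm
    · refine Finset.mem_filter.2 ⟨Finset.mem_filter.2 ⟨Finset.mem_univ _, (hmem _).2 ?_⟩, ?_⟩ <;>
        rw [mul_smul, Sylow.smul_eq_iff_mem_normalizer.2 n.2]
      exact (hmem g₀).1 hQ'
    · refine ⟨⟨g₀⁻¹ * g, ?_⟩, Finset.mem_univ _, mul_inv_cancel_left g₀ g⟩
      refine Sylow.smul_eq_iff_mem_normalizer.1 ?_
      rw [mul_smul, inv_smul_eq_iff]
      exact (Finset.mem_filter.1 hg).2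
  have h2 : S.card = Nat.card (centralizer ({k} : Set G)) *
      (Finset.univ.filter fun y : G => y ∈ N ∧ IsConj k y).card := by
    rw [mul_comm, Finset.card_eq_sum_card_fiberwise (f := fun g : G => g⁻¹ * k * g)
      (t := Finset.univ.filter fun y : G => y ∈ N ∧ IsConj k y)
      (fun g hg => Finset.mem_filter.2 ⟨Finset.mem_univ _, (Finset.mem_filter.1 hg).2,
        isConj_iff.2 ⟨g⁻¹, by group⟩⟩),
      Finset.sum_congr rfl fun y hy => ?_, Finset.sum_const, smul_eq_mul]
    obtain ⟨-, hyN, hconj⟩ := Finset.mem_filter.1 hy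
    obtain ⟨c, hc⟩ := isConj_iff.1 hconj
    rw [Nat.card_eq_fintype_card, ← Finset.card_univ]
    refine (Finset.card_bij (fun (z : centralizer ({k} : Set G)) _ => (z : G) * c⁻¹) (fun z _ => ?_)
      (fun a _ b _ h => Subtype.ext (mul_right_cancel h)) fun g hg => ?_).symm
    · have hz := mem_centralizer_singleton_iff.1 z.2
      have e : ((z : G) * c⁻¹)⁻¹ * k * ((z : G) * c⁻¹) = y := by
        calc ((z : G) * c⁻¹)⁻¹ * k * ((z : G) * c⁻¹) = c * ((z : G)⁻¹ * (k * z)) * c⁻¹ := by group
          _ = c * k * c⁻¹ := by rw [← hz]; group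
          _ = y := hc
      refine Finset.mem_filter.2 ⟨Finset.mem_filter.2 ⟨Finset.mem_univ _, ?_⟩, e⟩
      show ((z : G) * c⁻¹)⁻¹ * k * ((z : G) * c⁻¹) ∈ N
      rw [e]; exact hyN
    · have e := (Finset.mem_filter.1 hg).2
      refine ⟨⟨g * c, mem_centralizer_singleton_iff.2 ?_⟩, Finset.mem_univ _, mul_inv_cancel_right g c⟩
      calc g * c * k = g * (c * k * c⁻¹) * c := by group
        _ = g * (g⁻¹ * k * g) * c := by rw [hc, e]
        _ = k * (g * c) := by group
  rw [← h1, h2]

open scoped Classical in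
/-- An element centralizing `P` fixes `1 (mod p)` Sylow subgroups. -/
theorem fixed_sylow_modEq_one [Fintype (Sylow p G)] (P : Sylow p G) {k : G}
    (hk : k ∈ centralizer ((P : Subgroup G) : Set G)) :
    (Finset.univ.filter fun Q : Sylow p G => k • Q = Q).card % p = 1 := by
  let X := {Q : Sylow p G // k • Q = Q}
  have hcomm : ∀ u ∈ (P : Subgroup G), u * k = k * u := fun u hu => mem_centralizer_iff.1 hk u hu
  let _ : MulAction (P : Subgroup G) X :=
    { smul := fun u Q => ⟨(u : G) • (Q : Sylow p G), by
        rw [smul_smul, ← hcomm u u.2, mul_smul, Q.2]⟩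
      one_smul := fun Q => Subtype.ext (one_smul G (Q : Sylow p G))
      mul_smul := fun a b Q => Subtype.ext (mul_smul (a : G) (b : G) (Q : Sylow p G)) }
  have hP : k • P = P := by
    refine Sylow.smul_eq_iff_mem_normalizer.2 (mem_normalizer_fintype fun y hy => ?_)
    rw [← mem_centralizer_iff.1 hk y hy, mul_inv_cancel_right]
    exact hy
  have huniq : ∀ Q : X, Q ∈ MulAction.fixedPoints (P : Subgroup G) X → (Q : Sylow p G) = P := by
    intro Q hQ
    have hle : (P : Subgroup G) ≤ (Q : Sylow p G) := fun u hu => by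
      have hn : u ∈ normalizer (((Q : Sylow p G) : Subgroup G) : Set G) :=
        Sylow.smul_eq_iff_mem_normalizer.1 (congrArg Subtype.val (hQ ⟨u, hu⟩))
      exact (P.2.inf_normalizer_sylow (Q : Sylow p G) ▸ mem_inf.2 ⟨hu, hn⟩ :
        u ∈ (P : Subgroup G) ⊓ ((Q : Sylow p G) : Subgroup G)).2
    exact Sylow.ext (P.3 (Q : Sylow p G).2 hle)
  have hfix : Nat.card (MulAction.fixedPoints (P : Subgroup G) X) = 1 := by
    refine Nat.card_eq_one_iff_unique.2 ⟨⟨fun a b => Subtype.ext (Subtype.ext ?_)⟩,
      ⟨⟨⟨P, hP⟩, fun u => Subtype.ext ?_⟩⟩⟩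
    · rw [huniq a.1 a.2, huniq b.1 b.2]
    · exact Sylow.smul_eq_iff_mem_normalizer.2 (le_normalizer u.2)
  have h := P.2.card_modEq_card_fixedPoints X
  rw [hfix, Nat.card_eq_fintype_card, Fintype.card_subtype, Nat.ModEq,
    Nat.mod_eq_of_lt (Fact.out : p.Prime).one_lt] at h
  exact h

omit [Finite G] [Fact p.Prime] in
open scoped Classical in
/-- In a simple group an involution moves a multiple of four Sylow subgroups. -/
theorem four_dvd_moved_sylow [IsSimpleGroup G] (hG : ¬ IsMulCommutative G)
    [Fintype (Sylow p G)] {k : G} (hk : k * k = 1) :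
    4 ∣ Fintype.card (Sylow p G) - (Finset.univ.filter fun Q : Sylow p G => k • Q = Q).card := by
  set σ := MulAction.toPermHom G (Sylow p G) k with hσ
  have hsq : σ ^ 2 = 1 := by rw [hσ, ← map_pow, pow_two, hk, map_one]
  have hfix : (Finset.univ.filter fun Q : Sylow p G => k • Q = Q).card =
      Fintype.card (Sylow p G) - σ.support.card := by
    rw [← Finset.card_compl]
    congr 1
    ext Q
    simp [hσ]
  have hle := σ.support.card_le_univ
  rw [hfix, show Fintype.card (Sylow p G) - (Fintype.card (Sylow p G) - σ.support.card) =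
    σ.support.card by omega]
  by_cases h1 : σ = 1
  · simp [h1]
  have ho : orderOf σ = 2 := orderOf_eq_prime hsq h1
  obtain ⟨n, hn⟩ := Equiv.Perm.cycleType_prime_order (σ := σ) (ho ▸ Nat.prime_two)
  rw [ho] at hn
  have hs := sign_eq_one_of_simple hG (MulAction.toPermHom G (Sylow p G)) k
  rw [← hσ, Equiv.Perm.sign_of_cycleType, hn, Multiset.sum_replicate, Multiset.card_replicate,
    smul_eq_mul] at hs
  rw [← σ.sum_cycleType, hn, Multiset.sum_replicate, smul_eq_mul]
  have heven : Even ((n + 1) * 2 + (n + 1)) := by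
    by_contra hodd
    rw [Nat.not_even_iff_odd] at hodd
    rw [hodd.neg_one_pow] at hs
    exact absurd hs (by decide)
  obtain ⟨t, ht⟩ := heven
  omega

end CfsgLib.Transfer

namespace CfsgLib.Transfer

open Subgroup
open scoped Pointwise

variable {G : Type*} [Group G] [Finite G] [IsSimpleGroup G] {p : ℕ} [Fact p.Prime]

/-- A subgroup of `C(P)` of order prime to `p` permutes the `(n_p - 1) / p` non-trivial
`P`-orbits faithfully. -/
theorem card_dvd_factorial_orbits (hG : ¬ IsMulCommutative G) (P : Sylow p G)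
    (hP : Nat.card (P : Subgroup G) = p) (K : Subgroup G)
    (hKC : K ≤ centralizer ((P : Subgroup G) : Set G)) (hK : (Nat.card K).Coprime p) :
    Nat.card K ∣ ((Nat.card (Sylow p G) - 1) / p).factorial := by
  classical
  have hp := (Fact.out : p.Prime)
  let S := Sylow p G
  let _ : Fintype S := Fintype.ofFinite _
  let _ : MulAction (P : Subgroup G) S := MulAction.compHom S (P : Subgroup G).subtype
  have hcomm : ∀ (k : K) (u : (P : Subgroup G)), (k : G) * u = u * k := fun k u =>
    (mem_centralizer_iff.1 (hKC k.2) u u.2).symm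
  let Ω := MulAction.orbitRel.Quotient (P : Subgroup G) S
  have hwd : ∀ k : K, ∀ a b : S, MulAction.orbitRel (P : Subgroup G) S a b →
      MulAction.orbitRel (P : Subgroup G) S ((k : G) • a) ((k : G) • b) := by
    intro k a b h
    rw [MulAction.orbitRel_apply] at h ⊢
    obtain ⟨u, hu⟩ := h
    refine ⟨u, ?_⟩
    rw [← hu]
    show (u : G) • ((k : G) • b) = (k : G) • ((u : G) • b)
    rw [smul_smul, smul_smul, hcomm]
  let _ : MulAction K Ω :=
    { smul := fun k => Quotient.map' (fun Q : S => (k : G) • Q) (hwd k)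
      one_smul := fun ω => Quotient.inductionOn' ω fun Q =>
        congrArg Quotient.mk'' (one_smul G Q)
      mul_smul := fun a b ω => Quotient.inductionOn' ω fun Q =>
        congrArg Quotient.mk'' (mul_smul (a : G) (b : G) Q) }
  let ω₀ : Ω := Quotient.mk'' P
  have hω₀ : ∀ k : K, k • ω₀ = ω₀ := fun k => by
    refine congrArg Quotient.mk'' (Sylow.smul_eq_iff_mem_normalizer.2 ?_)
    refine mem_normalizer_fintype fun y hy => ?_
    rw [← mem_centralizer_iff.1 (hKC k.2) y hy, mul_inv_cancel_right]
    exact hy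
  let X := {ω : Ω // ω ≠ ω₀}
  let _ : MulAction K X :=
    { smul := fun k ω => ⟨k • (ω : Ω), fun h => ω.2 (by
        rw [← inv_smul_smul k (ω : Ω), h, hω₀])⟩
      one_smul := fun ω => Subtype.ext (one_smul K (ω : Ω))
      mul_smul := fun a b ω => Subtype.ext (mul_smul a b (ω : Ω)) }
  -- non-trivial orbits have length `p`
  have hX : Nat.card X = (Nat.card S - 1) / p := by
    let _ : Fintype Ω := Fintype.ofFinite _
    have horb : ∀ ω : Ω, ω ≠ ω₀ → Nat.card (MulAction.orbit (P : Subgroup G) ω.out) = p := by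
      intro ω hω
      obtain ⟨j, hj⟩ := P.2.card_orbit ω.out
      have hd : Nat.card (MulAction.orbit (P : Subgroup G) ω.out) ∣ p := by
        rw [Nat.card_coe_set_eq, ← MulAction.index_stabilizer]
        exact (Subgroup.index_dvd_card _).trans hP.dvd
      rcases (Nat.dvd_prime hp).1 hd with h | h
      · exfalso
        apply hω
        have hfix : ∀ u ∈ (P : Subgroup G), u • ω.out = ω.out := fun u hu => by
          have hsub := (Nat.card_eq_one_iff_unique.1 h).1
          exact congrArg Subtype.val (@Subsingleton.elim _ hsub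
            ⟨(⟨u, hu⟩ : (P : Subgroup G)) • ω.out, MulAction.mem_orbit _ _⟩
            ⟨ω.out, MulAction.mem_orbit_self _⟩)
        have hle : (P : Subgroup G) ≤ ω.out := fun u hu =>
          (P.2.inf_normalizer_sylow ω.out ▸
            mem_inf.2 ⟨hu, Sylow.smul_eq_iff_mem_normalizer.1 (hfix u hu)⟩ :
            u ∈ (P : Subgroup G) ⊓ (ω.out : Subgroup G)).2
        have he : ω.out = P := Sylow.ext (P.3 ω.out.2 hle)
        rw [← Quotient.out_eq' ω, he]
      · exact h
    have h0 : Nat.card (MulAction.orbit (P : Subgroup G) ω₀.out) = 1 := by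
      have he : MulAction.orbit (P : Subgroup G) ω₀.out = MulAction.orbit (P : Subgroup G) P :=
        MulAction.orbit_eq_iff.2 (MulAction.orbitRel_apply.1 (Quotient.eq''.1 (Quotient.out_eq' ω₀)))
      rw [he]
      refine Nat.card_eq_one_iff_unique.2 ⟨⟨?_⟩, ⟨⟨P, MulAction.mem_orbit_self _⟩⟩⟩
      rintro ⟨_, u, rfl⟩ ⟨_, v, rfl⟩
      exact Subtype.ext ((Sylow.smul_eq_iff_mem_normalizer.2 (le_normalizer u.2)).trans
        (Sylow.smul_eq_iff_mem_normalizer.2 (le_normalizer v.2)).symm)
    have hsum : Nat.card S = Fintype.card X * p + 1 := by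
      rw [Nat.card_congr (MulAction.selfEquivSigmaOrbits (P : Subgroup G) S), Nat.card_sigma,
        ← Finset.sum_erase_add _ _ (Finset.mem_univ ω₀), h0,
        Finset.sum_congr rfl fun ω hω => horb ω (Finset.ne_of_mem_erase hω), Finset.sum_const,
        smul_eq_mul, Finset.card_erase_of_mem (Finset.mem_univ ω₀), Finset.card_univ,
        Fintype.card_subtype_compl, Fintype.card_subtype_eq]
    rw [hsum, Nat.card_eq_fintype_card, Nat.add_sub_cancel, Nat.mul_div_cancel _ hp.pos]
  have hinj : Function.Injective (MulAction.toPermHom K X) := by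
    refine (injective_iff_map_eq_one _).2 fun k hk => ?_
    have hfix : ∀ Q : S, (k : G) • Q = Q := by
      intro Q
      by_cases hQ : (Quotient.mk'' Q : Ω) = ω₀
      · have h := Quotient.eq''.1 hQ
        rw [MulAction.orbitRel_apply] at h
        obtain ⟨u, hu⟩ := h
        have : Q = P := hu ▸ (Sylow.smul_eq_iff_mem_normalizer.2 (le_normalizer u.2) :
          (u : G) • P = P)
        rw [this]
        refine Sylow.smul_eq_iff_mem_normalizer.2 (mem_normalizer_fintype fun y hy => ?_)
        rw [← mem_centralizer_iff.1 (hKC k.2) y hy, mul_inv_cancel_right]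
        exact hy
      · have h : k • (Quotient.mk'' Q : Ω) = Quotient.mk'' Q :=
          congrArg Subtype.val (congrArg (fun σ : Equiv.Perm X => σ ⟨Quotient.mk'' Q, hQ⟩) hk)
        have h' := Quotient.eq''.1 h
        rw [MulAction.orbitRel_apply] at h'
        obtain ⟨u, hu⟩ := h'
        have hu' : (u : G) • Q = (k : G) • Q := hu
        have hpow : ∀ j : ℕ, ((k : G) ^ j) • Q = ((u : G) ^ j) • Q := by
          intro j
          induction j with
          | zero => simp
          | succ j ih =>
            rw [pow_succ', mul_smul, ih, smul_smul,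
              ((show Commute (k : G) (u : G) from hcomm k u).pow_right j).eq, mul_smul, ← hu',
              smul_smul, ← pow_succ]
        have h1 := hpow (orderOf (k : G))
        rw [pow_orderOf_eq_one, one_smul] at h1
        have hco : (Nat.card (P : Subgroup G)).Coprime (orderOf (k : G)) := by
          rw [hP]
          exact Nat.Coprime.coprime_dvd_right (Subgroup.orderOf_dvd_natCard K k.2) hK.symm
        have hmem : (u : (P : Subgroup G)) ∈ MulAction.stabilizer (P : Subgroup G) Q := by
          obtain ⟨v, hv⟩ := (powCoprime hco).surjective u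
          have hvs : u ^ orderOf (k : G) ∈ MulAction.stabilizer (P : Subgroup G) Q := h1.symm
          obtain ⟨m, hm⟩ := exists_pow_eq_self_of_coprime
            (x := u) (n := orderOf (k : G))
            (Nat.Coprime.coprime_dvd_left (orderOf_dvd_natCard u) hco).symm
          exact hm ▸ pow_mem hvs m
        rw [← hu']
        exact hmem
    have hker : (k : G) ∈ (MulAction.toPermHom G S).ker := Equiv.ext hfix
    rcases IsSimpleGroup.eq_bot_or_eq_top_of_normal (MulAction.toPermHom G S).ker inferInstance with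
      h | h
    · rw [h, mem_bot] at hker
      exact Subtype.ext hker
    · exfalso
      refine normalizer_ne_top_of_simple hG (hP ▸ card_subgroup_dvd_card (P : Subgroup G)) P
        (top_le_iff.1 fun g _ => Sylow.smul_eq_iff_mem_normalizer.1 ?_)
      exact congrArg (fun σ : Equiv.Perm S => σ P) (MonoidHom.mem_ker.1 (h ▸ mem_top g))
  have h := card_dvd_of_injective _ hinj
  rwa [Nat.card_perm, hX] at h

end CfsgLib.Transfer
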